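import Cfsg.Agent.Lib.LFourThree.Pieces

/-!
Two parabolics glued along their common part: the second embedding can be precomposed with an
automorphism so as to agree with the first on the common part and on the two diagonal elements.
-/

set_option autoImplicit false
set_option maxRecDepth 100000

namespace CfsgLib.LFourThree.Adjust

open Matrix

abbrev MT : Type := Matrix (Fin 4) (Fin 4) (ZMod 3)

/-! ### Elements of the common part -/

/-- An element of the first row group. -/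
def rowE (a b c : ZMod 3) : SL4 := root 0 1 a * root 0 2 b * root 0 3 c

/-- An element of the last column group. -/
def colE (a b c : ZMod 3) : SL4 := root 1 3 a * root 2 3 b * root 0 3 c

theorem root_val {i j : Fin 4} (h : i ≠ j) (c : ZMod 3) : (root i j c).1 = 1 + Matrix.single i j c :=
  CfsgLib.Schur.SLFam.coe_tv h c

theorem rowE_val : ∀ a b c : ZMod 3,
    (rowE a b c).1 = !![1, a, b, c; 0, 1, 0, 0; 0, 0, 1, 0; 0, 0, 0, 1] := by decide +kernel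

theorem colE_val : ∀ a b c : ZMod 3,
    (colE a b c).1 = !![1, 0, 0, c; 0, 1, 0, a; 0, 0, 1, b; 0, 0, 0, 1] := by decide +kernel

theorem rowE_mul (a b c a' b' c' : ZMod 3) :
    rowE a b c * rowE a' b' c' = rowE (a + a') (b + b') (c + c') := by
  refine Subtype.ext ?_
  rw [Matrix.SpecialLinearGroup.coe_mul, rowE_val, rowE_val, rowE_val]
  ext i j
  fin_cases i <;> fin_cases j <;> simp [Matrix.mul_apply, Fin.sum_univ_four, add_comm]

theorem colE_mul (a b c a' b' c' : ZMod 3) :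
    colE a b c * colE a' b' c' = colE (a + a') (b + b') (c + c') := by
  refine Subtype.ext ?_
  rw [Matrix.SpecialLinearGroup.coe_mul, colE_val, colE_val, colE_val]
  ext i j
  fin_cases i <;> fin_cases j <;> simp [Matrix.mul_apply, Fin.sum_univ_four, add_comm]

theorem rowE_comm_colE (a b c p q s : ZMod 3) :
    rowE a b c * colE p q s = colE p q s * rowE a b c * root 0 3 (a * p + b * q) := by
  refine Subtype.ext ?_
  simp only [Matrix.SpecialLinearGroup.coe_mul, rowE_val, colE_val, root_val (show (0 : Fin 4) ≠ 3 by decide)]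
  ext i j
  fin_cases i <;> fin_cases j <;> simp [Matrix.mul_apply, Fin.sum_univ_four] <;> ring

theorem root_zero {i j : Fin 4} : root i j (0 : ZMod 3) = 1 := CfsgLib.Schur.SLFam.tv_zero i j

theorem rowE_zero : rowE 0 0 0 = 1 := by simp [rowE, root_zero]

theorem colE_zero : colE 0 0 0 = 1 := by simp [colE, root_zero]

theorem root_pow : ∀ (p : Fin 4 × Fin 4) (c : ZMod 3), p.1 ≠ p.2 →
    ∃ k : Fin 3, root p.1 p.2 c = root p.1 p.2 1 ^ (k : ℕ) := by decide +kernel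

theorem root_mem_closure {s : Set SL4} {i j : Fin 4} (h : i ≠ j) (hs : root i j 1 ∈ s) (c : ZMod 3) :
    root i j c ∈ Subgroup.closure s := by
  obtain ⟨k, hk⟩ := root_pow (i, j) c h
  simp only at hk
  rw [hk]
  exact pow_mem (Subgroup.subset_closure hs) _

theorem mem_rowGrp {g : SL4} : g ∈ rowGrp ↔ ∃ a b c, g = rowE a b c := by
  constructor
  · intro h
    induction h using Subgroup.closure_induction with
    | mem x hx =>
      rcases hx with rfl | rfl | rfl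
      · exact ⟨1, 0, 0, by simp [rowE, root_zero]⟩
      · exact ⟨0, 1, 0, by simp [rowE, root_zero]⟩
      · exact ⟨0, 0, 1, by simp [rowE, root_zero]⟩
    | one => exact ⟨0, 0, 0, rowE_zero.symm⟩
    | mul x y _ _ hx hy =>
      obtain ⟨a, b, c, rfl⟩ := hx
      obtain ⟨a', b', c', rfl⟩ := hy
      exact ⟨_, _, _, rowE_mul ..⟩
    | inv x _ hx =>
      obtain ⟨a, b, c, rfl⟩ := hx
      refine ⟨-a, -b, -c, inv_eq_of_mul_eq_one_right ?_⟩
      rw [rowE_mul, add_neg_cancel, add_neg_cancel, add_neg_cancel, rowE_zero]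
  · rintro ⟨a, b, c, rfl⟩
    exact mul_mem (mul_mem (root_mem_closure (by decide) (Or.inl rfl) a)
      (root_mem_closure (by decide) (Or.inr (Or.inl rfl)) b))
      (root_mem_closure (by decide) (Or.inr (Or.inr rfl)) c)

theorem mem_colGrp {g : SL4} : g ∈ colGrp ↔ ∃ a b c, g = colE a b c := by
  constructor
  · intro h
    induction h using Subgroup.closure_induction with
    | mem x hx =>
      rcases hx with rfl | rfl | rfl
      · exact ⟨0, 0, 1, by simp [colE, root_zero]⟩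
      · exact ⟨1, 0, 0, by simp [colE, root_zero]⟩
      · exact ⟨0, 1, 0, by simp [colE, root_zero]⟩
    | one => exact ⟨0, 0, 0, colE_zero.symm⟩
    | mul x y _ _ hx hy =>
      obtain ⟨a, b, c, rfl⟩ := hx
      obtain ⟨a', b', c', rfl⟩ := hy
      exact ⟨_, _, _, colE_mul ..⟩
    | inv x _ hx =>
      obtain ⟨a, b, c, rfl⟩ := hx
      refine ⟨-a, -b, -c, inv_eq_of_mul_eq_one_right ?_⟩
      rw [colE_mul, add_neg_cancel, add_neg_cancel, add_neg_cancel, colE_zero]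
  · rintro ⟨a, b, c, rfl⟩
    exact mul_mem (mul_mem (root_mem_closure (by decide) (Or.inr (Or.inl rfl)) a)
      (root_mem_closure (by decide) (Or.inr (Or.inr rfl)) b))
      (root_mem_closure (by decide) (Or.inl rfl) c)

theorem mem_cm {g : SL4} : g ∈ cm ↔
    (∀ i, g.1 i 0 = (1 : MT) i 0) ∧ ∀ j, g.1 3 j = (1 : MT) 3 j := Iff.rfl

theorem root_mem_cm {i j : Fin 4} (h : i ≠ j) (hj : j ≠ 0) (hi : i ≠ 3) (c : ZMod 3) : root i j c ∈ cm :=
  mem_cm.2 ⟨fun k => by rw [root_val h]; simp [hj], fun k => by rw [root_val h]; simp [hi]⟩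

theorem rowE_mem (a b c : ZMod 3) : rowE a b c ∈ cm :=
  mul_mem (mul_mem (root_mem_cm (by decide) (by decide) (by decide) a)
    (root_mem_cm (by decide) (by decide) (by decide) b)) (root_mem_cm (by decide) (by decide) (by decide) c)

theorem colE_mem (a b c : ZMod 3) : colE a b c ∈ cm :=
  mul_mem (mul_mem (root_mem_cm (by decide) (by decide) (by decide) a)
    (root_mem_cm (by decide) (by decide) (by decide) b)) (root_mem_cm (by decide) (by decide) (by decide) c)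

/-- The root `(0,3)` in the common part. -/
def zc (c : ZMod 3) : cm := ⟨root 0 3 c, root_mem_cm (by decide) (by decide) (by decide) c⟩

/-- Row elements in the common part. -/
def rc (a b c : ZMod 3) : cm := ⟨rowE a b c, rowE_mem a b c⟩

/-- Column elements in the common part. -/
def cc (a b c : ZMod 3) : cm := ⟨colE a b c, colE_mem a b c⟩

theorem zc_eq_rc (c : ZMod 3) : zc c = rc 0 0 c := Subtype.ext (by simp [zc, rc, rowE, root_zero])

theorem zc_eq_cc (c : ZMod 3) : zc c = cc 0 0 c := Subtype.ext (by simp [zc, cc, colE, root_zero])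

theorem rc_mul (a b c a' b' c' : ZMod 3) : rc a b c * rc a' b' c' = rc (a + a') (b + b') (c + c') :=
  Subtype.ext (rowE_mul ..)

theorem cc_mul (a b c a' b' c' : ZMod 3) : cc a b c * cc a' b' c' = cc (a + a') (b + b') (c + c') :=
  Subtype.ext (colE_mul ..)

theorem rc_inj {a b c a' b' c' : ZMod 3} (h : rc a b c = rc a' b' c') : a = a' ∧ b = b' ∧ c = c' := by
  have h' : (rowE a b c).1 = (rowE a' b' c').1 := congrArg (fun x : cm => x.1.1) h
  rw [rowE_val, rowE_val] at h'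
  exact ⟨by simpa using congrFun (congrFun h' 0) 1, by simpa using congrFun (congrFun h' 0) 2,
    by simpa using congrFun (congrFun h' 0) 3⟩

theorem cc_inj {a b c a' b' c' : ZMod 3} (h : cc a b c = cc a' b' c') : a = a' ∧ b = b' ∧ c = c' := by
  have h' : (colE a b c).1 = (colE a' b' c').1 := congrArg (fun x : cm => x.1.1) h
  rw [colE_val, colE_val] at h'
  exact ⟨by simpa using congrFun (congrFun h' 1) 3, by simpa using congrFun (congrFun h' 2) 3,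
    by simpa using congrFun (congrFun h' 0) 3⟩

theorem zc_mul (a b : ZMod 3) : zc a * zc b = zc (a + b) := by
  rw [zc_eq_rc, zc_eq_rc, zc_eq_rc, rc_mul, add_zero]

theorem zc_comm (c : ZMod 3) (x : cm) : x * zc c = zc c * x := by
  refine Subtype.ext (Subtype.ext ?_)
  show x.1.1 * (root 0 3 c).1 = (root 0 3 c).1 * x.1.1
  obtain ⟨h0, h3⟩ := mem_cm.1 x.2
  rw [root_val (show (0 : Fin 4) ≠ 3 by decide), mul_add, add_mul, mul_one, one_mul]
  congr 1
  ext i j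
  fin_cases i <;> fin_cases j <;> simp [Matrix.mul_apply, Fin.sum_univ_four, h0, h3, Matrix.one_apply]

/-! ### Conjugation of the roots inside the common part -/

theorem mul_inv_val (x : SL4) : x.1 * (x⁻¹).1 = 1 := by
  rw [← Matrix.SpecialLinearGroup.coe_mul, mul_inv_cancel, Matrix.SpecialLinearGroup.coe_one]

theorem mul_single_mul (A B : MT) (i j : Fin 4) :
    A * Matrix.single i j (1 : ZMod 3) * B = Matrix.vecMulVec (fun a => A a i) (fun b => B j b) := by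
  ext a b
  rw [Matrix.mul_apply, Finset.sum_eq_single j]
  · simp [Matrix.vecMulVec_apply]
  · intro k _ hk
    rw [Matrix.mul_single_apply_of_ne (hbj := hk), zero_mul]
  · simp

theorem conj_row (x : cm) {j : Fin 4} (hj : (0 : Fin 4) ≠ j) :
    x.1 * root 0 j 1 * x.1⁻¹ = rowE ((x.1⁻¹).1 j 1) ((x.1⁻¹).1 j 2) ((x.1⁻¹).1 j 3) := by
  refine Subtype.ext ?_
  have h0 : ∀ a, x.1.1 a 0 = (1 : MT) a 0 := (mem_cm.1 x.2).1
  have h0' : (x.1⁻¹).1 j 0 = (1 : MT) j 0 := (mem_cm.1 (inv_mem x.2)).1 j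
  rw [Matrix.SpecialLinearGroup.coe_mul, Matrix.SpecialLinearGroup.coe_mul, root_val hj, rowE_val,
    mul_add, mul_one, add_mul, mul_inv_val, mul_single_mul]
  rw [Matrix.one_apply_ne hj.symm] at h0'
  generalize (x.1⁻¹).1 = y at h0' ⊢
  ext a b
  rw [Matrix.add_apply, Matrix.vecMulVec_apply, h0 a]
  fin_cases a <;> fin_cases b <;> simp [h0', Matrix.one_apply]

theorem conj_col (x : cm) {i : Fin 4} (hi : i ≠ 3) :
    x.1 * root i 3 1 * x.1⁻¹ = colE (x.1.1 1 i) (x.1.1 2 i) (x.1.1 0 i) := by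
  refine Subtype.ext ?_
  have h3 : x.1.1 3 i = (1 : MT) 3 i := (mem_cm.1 x.2).2 i
  have h3' : ∀ b, (x.1⁻¹).1 3 b = (1 : MT) 3 b := (mem_cm.1 (inv_mem x.2)).2
  rw [Matrix.SpecialLinearGroup.coe_mul, Matrix.SpecialLinearGroup.coe_mul, root_val hi, colE_val,
    mul_add, mul_one, add_mul, mul_inv_val, mul_single_mul]
  rw [Matrix.one_apply_ne hi.symm] at h3
  ext a b
  rw [Matrix.add_apply, Matrix.vecMulVec_apply, h3' b]
  fin_cases a <;> fin_cases b <;> simp [h3, Matrix.one_apply]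

/-- An element of the common part centralising the radical is central. -/
theorem eq_zc_of_commute (x : cm) (h1 : Commute x (rc 1 0 0)) (h2 : Commute x (rc 0 1 0))
    (h3 : Commute x (cc 1 0 0)) (h4 : Commute x (cc 0 1 0)) : ∃ k, x = zc k := by
  refine ⟨x.1.1 0 3, Subtype.ext (Subtype.ext ?_)⟩
  have e : ∀ y : cm, Commute x y → x.1.1 * y.1.1 = y.1.1 * x.1.1 := fun y hy =>
    congrArg (fun z : cm => z.1.1) hy.eq
  have e1 := e _ h1
  have e2 := e _ h2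
  have e3 := e _ h3
  have e4 := e _ h4
  simp only [rc, cc, rowE_val, colE_val] at e1 e2 e3 e4
  obtain ⟨h0, h3'⟩ := mem_cm.1 x.2
  have a1 := congrFun (congrFun e1 0) 1
  have a2 := congrFun (congrFun e1 0) 2
  have a3 := congrFun (congrFun e1 0) 3
  have b1 := congrFun (congrFun e2 0) 1
  have b2 := congrFun (congrFun e2 0) 2
  have b3 := congrFun (congrFun e2 0) 3
  have c0 := congrFun (congrFun e3 0) 3
  have d0 := congrFun (congrFun e4 0) 3
  simp [Matrix.mul_apply, Fin.sum_univ_four, h0, h3', Matrix.one_apply] at a1 a2 a3 b1 b2 b3 c0 d0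
  show x.1.1 = (root 0 3 (x.1.1 0 3)).1
  rw [root_val (show (0 : Fin 4) ≠ 3 by decide)]
  ext i j
  fin_cases i <;> fin_cases j <;> simp_all [Matrix.one_apply]

theorem det_block (x : cm) : x.1.1 1 1 * x.1.1 2 2 - x.1.1 1 2 * x.1.1 2 1 = 1 := by
  obtain ⟨h0, h3⟩ := mem_cm.1 x.2
  have h := x.1.2
  rw [Matrix.det_succ_column_zero, Fin.sum_univ_four, Matrix.det_fin_three, Matrix.det_fin_three,
    Matrix.det_fin_three, Matrix.det_fin_three] at h
  simp [Matrix.submatrix_apply, Fin.succAbove, h0, h3, Matrix.one_apply] at h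
  linear_combination h

theorem word_exists : ∀ a b c d : ZMod 3, a * d - b * c = 1 → ∃ s t w v : ZMod 3,
    (1 + s * t) * (1 + w * v) + s * v = a ∧ (1 + s * t) * w + s = b ∧ t * (1 + w * v) + v = c ∧
      t * w + 1 = d := by decide +kernel

theorem word_val : ∀ s t w v : ZMod 3, (root 1 2 s * root 2 1 t * root 1 2 w * root 2 1 v).1 =
    !![1, 0, 0, 0; 0, (1 + s * t) * (1 + w * v) + s * v, (1 + s * t) * w + s, 0;
      0, t * (1 + w * v) + v, t * w + 1, 0; 0, 0, 0, 1] := by decide +kernel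

/-- The common part is generated by the radical and two block roots. -/
theorem cm_decomp (x : cm) : ∃ a b c p q s t w v, x.1 =
    colE p q 0 * rowE a b c * (root 1 2 s * root 2 1 t * root 1 2 w * root 2 1 v) := by
  obtain ⟨h0, h3⟩ := mem_cm.1 x.2
  obtain ⟨s, t, w, v, e1, e2, e3, e4⟩ := word_exists _ _ _ _ (det_block x)
  refine ⟨x.1.1 0 1 * x.1.1 2 2 - x.1.1 0 2 * x.1.1 2 1, -(x.1.1 0 1 * x.1.1 1 2) + x.1.1 0 2 * x.1.1 1 1,
    x.1.1 0 3, x.1.1 1 3, x.1.1 2 3, s, t, w, v, Subtype.ext ?_⟩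
  simp only [Matrix.SpecialLinearGroup.coe_mul]
  rw [show (root 1 2 s).1 * (root 2 1 t).1 * (root 1 2 w).1 * (root 2 1 v).1 = _ from word_val s t w v,
    colE_val, rowE_val, e1, e2, e3, e4]
  have hd := det_block x
  ext i j
  fin_cases i <;> fin_cases j <;>
    simp [Matrix.mul_apply, Fin.sum_univ_four, h0, h3, Matrix.one_apply]
  · linear_combination -(x.1.1 0 1) * hd
  · linear_combination -(x.1.1 0 2) * hd

/-! ### Automorphisms of the parabolic -/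

/-- A matrix with inverse, fixing the first column and the last row. -/
structure Aut3 where
  h : MT
  h' : MT
  e : h * h' = 1
  hc : ∀ i, h i 0 = (1 : MT) i 0
  hc' : ∀ i, h' i 0 = (1 : MT) i 0
  hr : ∀ j, h 3 j = (1 : MT) 3 j
  hr' : ∀ j, h' 3 j = (1 : MT) 3 j

namespace Aut3

/-- The inverse. -/
def symm (A : Aut3) : Aut3 := ⟨A.h', A.h, mul_eq_one_comm.1 A.e, A.hc', A.hc, A.hr', A.hr⟩

/-- Conjugation. -/
def conj (A : Aut3) : SL4 →* SL4 where
  toFun g := ⟨A.h * g.1 * A.h', by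
    have h := congrArg Matrix.det A.e
    rw [Matrix.det_mul, Matrix.det_one] at h
    rw [Matrix.det_mul, Matrix.det_mul, g.2, mul_one, h]⟩
  map_one' := Subtype.ext (by
    show A.h * (1 : MT) * A.h' = 1
    rw [mul_one, A.e])
  map_mul' g g' := Subtype.ext (by
    show A.h * (g.1 * g'.1) * A.h' = A.h * g.1 * A.h' * (A.h * g'.1 * A.h')
    calc A.h * (g.1 * g'.1) * A.h' = A.h * g.1 * (A.h' * A.h) * g'.1 * A.h' := by
          rw [mul_eq_one_comm.1 A.e, mul_one]; simp only [mul_assoc]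
      _ = _ := by simp only [mul_assoc])

theorem conj_val (A : Aut3) (g : SL4) : (A.conj g).1 = A.h * g.1 * A.h' := rfl

theorem symm_conj (A : Aut3) (g : SL4) : A.symm.conj (A.conj g) = g := by
  refine Subtype.ext ?_
  show A.h' * (A.h * g.1 * A.h') * A.h = g.1
  calc A.h' * (A.h * g.1 * A.h') * A.h = (A.h' * A.h) * g.1 * (A.h' * A.h) := by simp only [mul_assoc]
    _ = g.1 := by rw [mul_eq_one_comm.1 A.e, one_mul, mul_one]

theorem conj_mem3 (A : Aut3) {g : SL4} (hg : g ∈ para3) : A.conj g ∈ para3 := fun j => by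
  have hg' : ∀ j, g.1 3 j = (1 : MT) 3 j := hg
  rw [conj_val, Matrix.mul_apply]
  simp only [Matrix.mul_apply, A.hr, Matrix.one_apply, ite_mul, one_mul, zero_mul, Finset.sum_ite_eq,
    Finset.mem_univ, if_true, hg']
  simpa [Matrix.one_apply] using A.hr' j

theorem conj_mem1 (A : Aut3) {g : SL4} (hg : g ∈ para) : A.conj g ∈ para := fun i => by
  have hg' : ∀ i, g.1 i 0 = (1 : MT) i 0 := hg
  rw [conj_val, Matrix.mul_assoc, Matrix.mul_apply]
  simp only [Matrix.mul_apply, A.hc', Matrix.one_apply, mul_ite, mul_one, mul_zero, Finset.sum_ite_eq',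
    Finset.mem_univ, if_true, hg']
  simpa [Matrix.one_apply] using A.hc i

theorem conj_mem (A : Aut3) {g : SL4} (hg : g ∈ cm) : A.conj g ∈ cm :=
  ⟨A.conj_mem1 hg.1, A.conj_mem3 hg.2⟩

/-- The automorphism of the parabolic. -/
def res3 (A : Aut3) : para3 →* para3 :=
  (A.conj.comp para3.subtype).codRestrict para3 fun g => A.conj_mem3 g.2

/-- Its restriction to the common part. -/
def resc (A : Aut3) : cm →* cm :=
  (A.conj.comp cm.subtype).codRestrict cm fun g => A.conj_mem g.2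

theorem res3_injective (A : Aut3) : Function.Injective A.res3 := fun g g' h => by
  have := congrArg (fun x : para3 => A.symm.conj x.1) h
  exact Subtype.ext (by simpa [res3, symm_conj] using this)

theorem resc_surjective (A : Aut3) : Function.Surjective A.resc := fun g =>
  ⟨A.symm.resc g, Subtype.ext (A.symm.symm_conj g.1)⟩

theorem resc_zc (A : Aut3) (c : ZMod 3) : A.resc (zc c) = zc c := by
  refine Subtype.ext (Subtype.ext ?_)
  show A.h * (root 0 3 c).1 * A.h' = (root 0 3 c).1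
  have hz : A.h * (root 0 3 c).1 = (root 0 3 c).1 * A.h := by
    rw [root_val (show (0 : Fin 4) ≠ 3 by decide), mul_add, add_mul, mul_one, one_mul]
    congr 1
    ext i j
    fin_cases i <;> fin_cases j <;>
      simp [Matrix.mul_apply, Fin.sum_univ_four, A.hc, A.hr, Matrix.one_apply]
  rw [hz, mul_assoc, A.e, mul_one]

end Aut3

/-- Conjugation by an element of the common part. -/
def ofCm (x : cm) : Aut3 :=
  ⟨x.1.1, (x.1⁻¹).1, mul_inv_val x.1, x.2.1, (inv_mem x.2).1, x.2.2, (inv_mem x.2).2⟩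

theorem ofCm_conj (x : cm) (g : SL4) : (ofCm x).conj g = x.1 * g * x.1⁻¹ := rfl

/-- The block matrix with rows `p`, `q`. -/
def wmat (p₁ p₂ q₁ q₂ : ZMod 3) : MT := !![1, 0, 0, 0; 0, p₁, p₂, 0; 0, q₁, q₂, 0; 0, 0, 0, 1]

/-- Its inverse. -/
def wmat' (p₁ p₂ q₁ q₂ : ZMod 3) : MT :=
  let d := p₁ * q₂ - p₂ * q₁
  !![1, 0, 0, 0; 0, d * q₂, -(d * p₂), 0; 0, -(d * q₁), d * p₁, 0; 0, 0, 0, 1]

theorem wmat_facts : ∀ p₁ p₂ q₁ q₂ : ZMod 3, p₁ * q₂ - p₂ * q₁ ≠ 0 →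
    wmat p₁ p₂ q₁ q₂ * wmat' p₁ p₂ q₁ q₂ = 1 ∧
    wmat p₁ p₂ q₁ q₂ * (rowE 1 0 0).1 * wmat' p₁ p₂ q₁ q₂ =
      (rowE ((p₁ * q₂ - p₂ * q₁) * q₂) (-((p₁ * q₂ - p₂ * q₁) * p₂)) 0).1 ∧
    wmat p₁ p₂ q₁ q₂ * (rowE 0 1 0).1 * wmat' p₁ p₂ q₁ q₂ =
      (rowE (-((p₁ * q₂ - p₂ * q₁) * q₁)) ((p₁ * q₂ - p₂ * q₁) * p₁) 0).1 ∧
    wmat p₁ p₂ q₁ q₂ * (colE 1 0 0).1 * wmat' p₁ p₂ q₁ q₂ = (colE p₁ q₁ 0).1 ∧
    wmat p₁ p₂ q₁ q₂ * (colE 0 1 0).1 * wmat' p₁ p₂ q₁ q₂ = (colE p₂ q₂ 0).1 := by decide +kernel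

theorem block_id : ∀ p₁ p₂ q₁ q₂ : ZMod 3, p₁ * q₂ - p₂ * q₁ ≠ 0 →
    (p₁ * q₂ - p₂ * q₁) * q₂ * p₁ + -((p₁ * q₂ - p₂ * q₁) * p₂) * q₁ = 1 ∧
    (p₁ * q₂ - p₂ * q₁) * q₂ * p₂ + -((p₁ * q₂ - p₂ * q₁) * p₂) * q₂ = 0 ∧
    -((p₁ * q₂ - p₂ * q₁) * q₁) * p₁ + (p₁ * q₂ - p₂ * q₁) * p₁ * q₁ = 0 ∧
    -((p₁ * q₂ - p₂ * q₁) * q₁) * p₂ + (p₁ * q₂ - p₂ * q₁) * p₁ * q₂ = 1 := by decide +kernel

theorem hpara3_conj : ∀ j : ZMod 3,
    root 0 3 (-j) * hpara3 * (root 0 3 (-j))⁻¹ = hpara3 * root 0 3 (-j) := by decide +kernel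

/-- The block automorphism. -/
def ofBlock (p₁ p₂ q₁ q₂ : ZMod 3) (h : p₁ * q₂ - p₂ * q₁ ≠ 0) : Aut3 where
  h := wmat p₁ p₂ q₁ q₂
  h' := wmat' p₁ p₂ q₁ q₂
  e := (wmat_facts p₁ p₂ q₁ q₂ h).1
  hc i := by fin_cases i <;> simp [wmat, Matrix.one_apply]
  hc' i := by fin_cases i <;> simp [wmat', Matrix.one_apply]
  hr j := by fin_cases j <;> simp [wmat, Matrix.one_apply]
  hr' j := by fin_cases j <;> simp [wmat', Matrix.one_apply]

/-! ### The adjustment -/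

variable {G : Type*} [Group G] {t₁ : para →* G}

/-- The first embedding on the common part. -/
def e₁ (t₁ : para →* G) : cm →* G := t₁.comp (Subgroup.inclusion inf_le_left)

/-- The second embedding on the common part. -/
def e₂ (t : para3 →* G) : cm →* G := t.comp (Subgroup.inclusion inf_le_right)

theorem e₂_comp (t : para3 →* G) (A : Aut3) (x : cm) : e₂ (t.comp A.res3) x = e₂ t (A.resc x) := rfl

theorem e₁_injective (h : Function.Injective t₁) : Function.Injective (e₁ t₁) := fun x y e =>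
  Subtype.ext (congrArg (fun g : para => g.1) (h e))

theorem e₂_injective {t : para3 →* G} (h : Function.Injective t) : Function.Injective (e₂ t) := fun x y e =>
  Subtype.ext (congrArg (fun g : para3 => g.1) (h e))

/-- The standing properties of the second embedding. -/
structure Good (t₁ : para →* G) (t : para3 →* G) : Prop where
  inj : Function.Injective t
  z : ∀ c, e₂ t (zc c) = e₁ t₁ (zc c)
  rng : ∀ x, ∃ y, e₂ t x = e₁ t₁ y

theorem Good.comp {t : para3 →* G} (g : Good t₁ t) (A : Aut3) : Good t₁ (t.comp A.res3) :=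
  ⟨g.inj.comp A.res3_injective, fun c => by rw [e₂_comp, A.resc_zc, g.z], fun x => g.rng (A.resc x)⟩

theorem step_block (h₁ : Function.Injective t₁) {t : para3 →* G} (g : Good t₁ t)
    (hrow : ∀ a b c, ∃ a' b' c', e₂ t (rc a b c) = e₁ t₁ (rc a' b' c'))
    (hcol : ∀ a b c, ∃ a' b' c', e₂ t (cc a b c) = e₁ t₁ (cc a' b' c')) :
    ∃ A : Aut3, (∃ k, e₂ (t.comp A.res3) (rc 1 0 0) = e₁ t₁ (rc 1 0 k)) ∧
      (∃ k, e₂ (t.comp A.res3) (rc 0 1 0) = e₁ t₁ (rc 0 1 k)) ∧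
      (∃ k, e₂ (t.comp A.res3) (cc 1 0 0) = e₁ t₁ (cc 1 0 k)) ∧
      (∃ k, e₂ (t.comp A.res3) (cc 0 1 0) = e₁ t₁ (cc 0 1 k)) := by
  obtain ⟨p₁, p₂, k₁, hp⟩ := hrow 1 0 0
  obtain ⟨q₁, q₂, k₂, hq⟩ := hrow 0 1 0
  have hlin : ∀ l m : ZMod 3, e₂ t (rc l m 0) =
      e₁ t₁ (rc (l * p₁ + m * q₁) (l * p₂ + m * q₂) (l * k₁ + m * k₂)) := by
    have hcases : ∀ l : ZMod 3, l = 0 ∨ l = 1 ∨ l = 1 + 1 := by decide
    have hz : rc 0 0 0 = 1 := Subtype.ext rowE_zero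
    have hl : ∀ l : ZMod 3, e₂ t (rc l 0 0) = e₁ t₁ (rc (l * p₁) (l * p₂) (l * k₁)) := by
      intro l
      rcases hcases l with rfl | rfl | rfl
      · simp only [zero_mul]; rw [hz, map_one, map_one]
      · simp only [one_mul]; exact hp
      · have e1 : rc (1 + 1) 0 0 = rc 1 0 0 * rc 1 0 0 := by rw [rc_mul, add_zero]
        rw [e1, map_mul, hp, ← map_mul, rc_mul]; simp only [add_mul, one_mul]
    have hm : ∀ m : ZMod 3, e₂ t (rc 0 m 0) = e₁ t₁ (rc (m * q₁) (m * q₂) (m * k₂)) := by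
      intro m
      rcases hcases m with rfl | rfl | rfl
      · simp only [zero_mul]; rw [hz, map_one, map_one]
      · simp only [one_mul]; exact hq
      · have e1 : rc 0 (1 + 1) 0 = rc 0 1 0 * rc 0 1 0 := by rw [rc_mul, add_zero]
        rw [e1, map_mul, hq, ← map_mul, rc_mul]; simp only [add_mul, one_mul]
    intro l m
    have e1 : rc l m 0 = rc l 0 0 * rc 0 m 0 := by rw [rc_mul, add_zero, zero_add, add_zero]
    rw [e1, map_mul, hl, hm, ← map_mul, rc_mul]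
  have hD : p₁ * q₂ - p₂ * q₁ ≠ 0 := fun h0 => by
    have key : ∀ p₁ p₂ q₁ q₂ : ZMod 3, p₁ * q₂ - p₂ * q₁ = 0 → ∃ l m : ZMod 3,
        (l ≠ 0 ∨ m ≠ 0) ∧ l * p₁ + m * q₁ = 0 ∧ l * p₂ + m * q₂ = 0 := by decide +kernel
    obtain ⟨l, m, hne, e1, e2⟩ := key _ _ _ _ h0
    have := hlin l m
    rw [e1, e2, ← zc_eq_rc, ← g.z, zc_eq_rc] at this
    obtain ⟨hl, hm, -⟩ := rc_inj (e₂_injective g.inj this)
    rcases hne with h | h
    · exact h hl
    · exact h hm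
  obtain ⟨-, f1, f2, f3, f4⟩ := wmat_facts _ _ _ _ hD
  set A := ofBlock p₁ p₂ q₁ q₂ hD
  have hr1 : ∃ k, e₂ (t.comp A.res3) (rc 1 0 0) = e₁ t₁ (rc 1 0 k) := by
    rw [e₂_comp, show A.resc (rc 1 0 0) = rc _ _ 0 from Subtype.ext (Subtype.ext f1), hlin]
    obtain ⟨i1, i2, i3, i4⟩ := block_id _ _ _ _ hD
    exact ⟨_, congrArg (e₁ t₁) (by first | rw [i1, i2] | rw [i3, i4])⟩
  have hr2 : ∃ k, e₂ (t.comp A.res3) (rc 0 1 0) = e₁ t₁ (rc 0 1 k) := by
    rw [e₂_comp, show A.resc (rc 0 1 0) = rc _ _ 0 from Subtype.ext (Subtype.ext f2), hlin]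
    obtain ⟨i1, i2, i3, i4⟩ := block_id _ _ _ _ hD
    exact ⟨_, congrArg (e₁ t₁) (by first | rw [i1, i2] | rw [i3, i4])⟩
  refine ⟨A, hr1, hr2, ?_, ?_⟩
  all_goals
    obtain ⟨j₁, hj₁⟩ := hr1
    obtain ⟨j₂, hj₂⟩ := hr2
  · obtain ⟨u, v, w, huv⟩ := hcol p₁ q₁ 0
    have hu : e₂ (t.comp A.res3) (cc 1 0 0) = e₁ t₁ (cc u v w) := by
      rw [e₂_comp, show A.resc (cc 1 0 0) = cc _ _ 0 from Subtype.ext (Subtype.ext f3), huv]
    obtain ⟨eu, ev⟩ := col_fixed h₁ (g.comp A) hj₁ hj₂ hu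
    exact ⟨w, by rw [hu, eu, ev]⟩
  · obtain ⟨u, v, w, huv⟩ := hcol p₂ q₂ 0
    have hu : e₂ (t.comp A.res3) (cc 0 1 0) = e₁ t₁ (cc u v w) := by
      rw [e₂_comp, show A.resc (cc 0 1 0) = cc _ _ 0 from Subtype.ext (Subtype.ext f4), huv]
    obtain ⟨eu, ev⟩ := col_fixed h₁ (g.comp A) hj₁ hj₂ hu
    exact ⟨w, by rw [hu, eu, ev]⟩
where
  col_fixed (h₁ : Function.Injective t₁) {s : para3 →* G} (g : Good t₁ s) {j₁ j₂ p q u v w : ZMod 3}
      (h1 : e₂ s (rc 1 0 0) = e₁ t₁ (rc 1 0 j₁)) (h2 : e₂ s (rc 0 1 0) = e₁ t₁ (rc 0 1 j₂))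
      (hu : e₂ s (cc p q 0) = e₁ t₁ (cc u v w)) : u = p ∧ v = q := by
    have hc : ∀ a b c p q r : ZMod 3,
        rc a b c * cc p q r = cc p q r * rc a b c * zc (a * p + b * q) :=
      fun a b c p q r => Subtype.ext (rowE_comm_colE ..)
    have key : ∀ a b c : ZMod 3, e₂ s (rc a b 0) = e₁ t₁ (rc a b c) → a * u + b * v = a * p + b * q := by
      intro a b c h
      have e := congrArg (e₂ s) (hc a b 0 p q 0)
      simp only [map_mul, h, hu, g.z] at e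
      rw [← map_mul, ← map_mul, ← map_mul, hc] at e
      have := (rc_inj (by simpa only [zc_eq_rc] using mul_left_cancel (e₁_injective h₁ e))).2.2
      exact this
    exact ⟨by simpa using key 1 0 j₁ h1, by simpa using key 0 1 j₂ h2⟩

theorem rowE_conj (a b c d : ZMod 3) :
    rc a b 0 * cc c d 0 * rc 1 0 0 = rc 1 0 (-c) * (rc a b 0 * cc c d 0) ∧
    rc a b 0 * cc c d 0 * rc 0 1 0 = rc 0 1 (-d) * (rc a b 0 * cc c d 0) ∧
    rc a b 0 * cc c d 0 * cc 1 0 0 = cc 1 0 a * (rc a b 0 * cc c d 0) ∧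
    rc a b 0 * cc c d 0 * cc 0 1 0 = cc 0 1 b * (rc a b 0 * cc c d 0) := by
  refine ⟨?_, ?_, ?_, ?_⟩ <;>
  · refine Subtype.ext (Subtype.ext ?_)
    simp only [rc, cc, Subgroup.coe_mul, Matrix.SpecialLinearGroup.coe_mul, rowE_val, colE_val]
    ext i j
    fin_cases i <;> fin_cases j <;> simp [Matrix.mul_apply, Fin.sum_univ_four] <;> ring

theorem step_radical {t : para3 →* G} (g : Good t₁ t) {k₁ k₂ k₃ k₄ : ZMod 3}
    (h1 : e₂ t (rc 1 0 0) = e₁ t₁ (rc 1 0 k₁)) (h2 : e₂ t (rc 0 1 0) = e₁ t₁ (rc 0 1 k₂))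
    (h3 : e₂ t (cc 1 0 0) = e₁ t₁ (cc 1 0 k₃)) (h4 : e₂ t (cc 0 1 0) = e₁ t₁ (cc 0 1 k₄)) :
    ∃ A : Aut3, e₂ (t.comp A.res3) (rc 1 0 0) = e₁ t₁ (rc 1 0 0) ∧
      e₂ (t.comp A.res3) (rc 0 1 0) = e₁ t₁ (rc 0 1 0) ∧
      e₂ (t.comp A.res3) (cc 1 0 0) = e₁ t₁ (cc 1 0 0) ∧
      e₂ (t.comp A.res3) (cc 0 1 0) = e₁ t₁ (cc 0 1 0) := by
  set y : cm := rc (-k₃) (-k₄) 0 * cc k₁ k₂ 0
  have hy : ∀ x x' : cm, y * x = x' * y → (ofCm y).resc x = x' := fun x x' h => by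
    refine Subtype.ext ?_
    show (y * x * y⁻¹).1 = x'.1
    rw [mul_inv_eq_iff_eq_mul.2 h]
  obtain ⟨f1, f2, f3, f4⟩ := rowE_conj (-k₃) (-k₄) k₁ k₂
  refine ⟨ofCm y, ?_, ?_, ?_, ?_⟩
  · rw [e₂_comp, hy _ (rc 1 0 (-k₁)) f1, show rc 1 0 (-k₁) = rc 1 0 0 * zc (-k₁) by
      rw [zc_eq_rc, rc_mul]; simp, map_mul, h1, g.z, ← map_mul, zc_eq_rc, rc_mul]
    simp
  · rw [e₂_comp, hy _ (rc 0 1 (-k₂)) f2, show rc 0 1 (-k₂) = rc 0 1 0 * zc (-k₂) by
      rw [zc_eq_rc, rc_mul]; simp, map_mul, h2, g.z, ← map_mul, zc_eq_rc, rc_mul]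
    simp
  · rw [e₂_comp, hy _ (cc 1 0 (-k₃)) f3, show cc 1 0 (-k₃) = cc 1 0 0 * zc (-k₃) by
      rw [zc_eq_cc, cc_mul]; simp, map_mul, h3, g.z, ← map_mul, zc_eq_cc, cc_mul]
    simp
  · rw [e₂_comp, hy _ (cc 0 1 (-k₄)) f4, show cc 0 1 (-k₄) = cc 0 1 0 * zc (-k₄) by
      rw [zc_eq_cc, cc_mul]; simp, map_mul, h4, g.z, ← map_mul, zc_eq_cc, cc_mul]
    simp

/-- The block Weyl element. -/
def wblk : SL4 := ⟨!![1, 0, 0, 0; 0, 0, 1, 0; 0, -1, 0, 0; 0, 0, 0, 1], by decide +kernel⟩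

theorem wblk_mem : wblk ∈ cm :=
  ⟨show ∀ i, wblk.1 i 0 = (1 : MT) i 0 by decide +kernel, show ∀ j, wblk.1 3 j = (1 : MT) 3 j by decide +kernel⟩

theorem wblk_conj : wblk * root 1 2 1 = root 2 1 (-1) * wblk := by decide +kernel

theorem root21_double : root 2 1 (1 : ZMod 3) = root 2 1 (-1) * root 2 1 (-1) := by decide +kernel

/-- Swapping the first two coordinates, in `para3`. -/
def swap3 : SL4 := ⟨!![0, 1, 0, 0; -1, 0, 0, 0; 0, 0, 1, 0; 0, 0, 0, 1], by decide +kernel⟩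

/-- Swapping the last two coordinates, in `para`. -/
def swap1 : SL4 := ⟨!![1, 0, 0, 0; 0, 1, 0, 0; 0, 0, 0, -1; 0, 0, 1, 0], by decide +kernel⟩

theorem swap3_mem : swap3 ∈ para3 := show ∀ j, swap3.1 3 j = (1 : MT) 3 j by decide +kernel

theorem swap1_mem : swap1 ∈ para := show ∀ i, swap1.1 i 0 = (1 : MT) i 0 by decide +kernel

theorem swap3_conj : swap3 * root 1 2 1 = rowE 0 1 0 * swap3 := by decide +kernel

theorem swap1_conj : swap1 * rowE 0 1 0 = root 0 3 1 * swap1 := by decide +kernel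

theorem swap3_conj' (hu : root 1 2 (1 : ZMod 3) ∈ para3) :
    (⟨swap3, swap3_mem⟩ : para3) * ⟨root 1 2 1, hu⟩ * (⟨swap3, swap3_mem⟩ : para3)⁻¹ =
      ⟨rowE 0 1 0, (rowE_mem _ _ _).2⟩ := by
  refine Subtype.ext ?_
  rw [Subgroup.coe_mul, Subgroup.coe_mul, Subgroup.coe_inv]
  show swap3 * root 1 2 1 * swap3⁻¹ = rowE 0 1 0
  rw [swap3_conj, mul_inv_cancel_right]

theorem swap1_conj' :
    (⟨swap1, swap1_mem⟩ : para) * ⟨rowE 0 1 0, (rowE_mem _ _ _).1⟩ * (⟨swap1, swap1_mem⟩ : para)⁻¹ =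
      ⟨zmat, zmat_mem_para⟩ := by
  refine Subtype.ext ?_
  rw [Subgroup.coe_mul, Subgroup.coe_mul, Subgroup.coe_inv]
  show swap1 * rowE 0 1 0 * swap1⁻¹ = root 0 3 1
  rw [swap1_conj, mul_inv_cancel_right]

theorem wblk_conj' : (⟨wblk, wblk_mem⟩ : cm) * ⟨root 1 2 1, root_mem_cm (by decide) (by decide) (by decide) 1⟩ *
    (⟨wblk, wblk_mem⟩ : cm)⁻¹ = ⟨root 2 1 (-1), root_mem_cm (by decide) (by decide) (by decide) _⟩ := by
  refine Subtype.ext ?_
  rw [Subgroup.coe_mul, Subgroup.coe_mul, Subgroup.coe_inv]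
  show wblk * root 1 2 1 * wblk⁻¹ = root 2 1 (-1)
  rw [wblk_conj, mul_inv_cancel_right]

/-- Once the second embedding agrees with the first on the radical, it agrees on the common part. -/
theorem eq_on_cm (h₁ : Function.Injective t₁) {t : para3 →* G} (g : Good t₁ t)
    (h1 : e₂ t (rc 1 0 0) = e₁ t₁ (rc 1 0 0)) (h2 : e₂ t (rc 0 1 0) = e₁ t₁ (rc 0 1 0))
    (h3 : e₂ t (cc 1 0 0) = e₁ t₁ (cc 1 0 0)) (h4 : e₂ t (cc 0 1 0) = e₁ t₁ (cc 0 1 0))
    (hclass : ∀ (m : ZMod 3) (hm : root 1 2 1 * root 0 3 m ∈ para), m ≠ 0 →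
      ¬ IsConj (t₁ ⟨zmat, zmat_mem_para⟩) (t₁ ⟨root 1 2 1 * root 0 3 m, hm⟩)) :
    ∀ x, e₂ t x = e₁ t₁ x := by
  set E := MonoidHom.eqLocus (e₂ t) (e₁ t₁)
  have hE : ∀ {x : cm}, x ∈ E → e₂ t x = e₁ t₁ x := fun h => h
  have hcases : ∀ l : ZMod 3, l = 0 ∨ l = 1 ∨ l = 1 + 1 := by decide
  have mz : ∀ c, zc c ∈ E := g.z
  have one0 : rc 0 0 0 = 1 := Subtype.ext rowE_zero
  have one0' : cc 0 0 0 = 1 := Subtype.ext colE_zero
  have mr : ∀ a b c, rc a b c ∈ E := by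
    intro a b c
    have ha : rc a 0 0 ∈ E := by
      rcases hcases a with rfl | rfl | rfl
      · rw [one0]; exact one_mem _
      · exact h1
      · rw [show rc (1 + 1) 0 0 = rc 1 0 0 * rc 1 0 0 by rw [rc_mul, add_zero]]; exact mul_mem h1 h1
    have hb : rc 0 b 0 ∈ E := by
      rcases hcases b with rfl | rfl | rfl
      · rw [one0]; exact one_mem _
      · exact h2
      · rw [show rc 0 (1 + 1) 0 = rc 0 1 0 * rc 0 1 0 by rw [rc_mul, add_zero]]; exact mul_mem h2 h2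
    rw [show rc a b c = rc a 0 0 * rc 0 b 0 * zc c by rw [zc_eq_rc, rc_mul, rc_mul]; simp]
    exact mul_mem (mul_mem ha hb) (mz c)
  have mc : ∀ a b c, cc a b c ∈ E := by
    intro a b c
    have ha : cc a 0 0 ∈ E := by
      rcases hcases a with rfl | rfl | rfl
      · rw [one0']; exact one_mem _
      · exact h3
      · rw [show cc (1 + 1) 0 0 = cc 1 0 0 * cc 1 0 0 by rw [cc_mul, add_zero]]; exact mul_mem h3 h3
    have hb : cc 0 b 0 ∈ E := by
      rcases hcases b with rfl | rfl | rfl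
      · rw [one0']; exact one_mem _
      · exact h4
      · rw [show cc 0 (1 + 1) 0 = cc 0 1 0 * cc 0 1 0 by rw [cc_mul, add_zero]]; exact mul_mem h4 h4
    rw [show cc a b c = cc a 0 0 * cc 0 b 0 * zc c by rw [zc_eq_cc, cc_mul, cc_mul]; simp]
    exact mul_mem (mul_mem ha hb) (mz c)
  have hshift : ∀ x, ∃ k, e₂ t x = e₁ t₁ (x * zc k) := by
    intro x
    obtain ⟨y, hy⟩ := g.rng x
    have hcomm : ∀ r : cm, r ∈ E → x * r * x⁻¹ ∈ E → Commute (x⁻¹ * y) r := by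
      intro r hr hxr
      have e := hE hxr
      rw [map_mul, map_mul, map_inv, hE hr, hy, ← map_inv, ← map_mul, ← map_mul] at e
      have e' := e₁_injective h₁ e
      show x⁻¹ * y * r = r * (x⁻¹ * y)
      calc x⁻¹ * y * r = x⁻¹ * (y * r * y⁻¹) * y := by group
        _ = r * (x⁻¹ * y) := by rw [e']; group
    have hrow : ∀ {j : Fin 4}, (0 : Fin 4) ≠ j → ∀ r : cm, r.1 = root 0 j 1 → x * r * x⁻¹ ∈ E := by
      intro j hj r hr
      rw [show x * r * x⁻¹ = rc _ _ _ from Subtype.ext ((by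
        show x.1 * r.1 * x.1⁻¹ = _
        rw [hr]; exact conj_row x hj))]
      exact mr _ _ _
    have hcol : ∀ {i : Fin 4}, i ≠ 3 → ∀ r : cm, r.1 = root i 3 1 → x * r * x⁻¹ ∈ E := by
      intro i hi r hr
      rw [show x * r * x⁻¹ = cc _ _ _ from Subtype.ext ((by
        show x.1 * r.1 * x.1⁻¹ = _
        rw [hr]; exact conj_col x hi))]
      exact mc _ _ _
    obtain ⟨k, hk⟩ := eq_zc_of_commute (x⁻¹ * y)
      (hcomm _ h1 (hrow (j := 1) (by decide) _ (by simp [rc, rowE, root_zero])))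
      (hcomm _ h2 (hrow (j := 2) (by decide) _ (by simp [rc, rowE, root_zero])))
      (hcomm _ h3 (hcol (i := 1) (by decide) _ (by simp [cc, colE, root_zero])))
      (hcomm _ h4 (hcol (i := 2) (by decide) _ (by simp [cc, colE, root_zero])))
    exact ⟨k, by rw [hy, ← hk, mul_inv_cancel_left]⟩
  set u : cm := ⟨root 1 2 1, root_mem_cm (by decide) (by decide) (by decide) 1⟩
  have hu : u ∈ E := by
    obtain ⟨m, hm⟩ := hshift u
    rcases eq_or_ne m 0 with rfl | hm0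
    · have h0 : zc 0 = 1 := by rw [zc_eq_rc, one0]
      rwa [h0, mul_one] at hm
    · exfalso
      refine hclass m (u * zc m).2.1 hm0 ?_
      set s : para3 := ⟨swap3, swap3_mem⟩
      have hs : t (s * ⟨u.1, u.2.2⟩ * s⁻¹) = t₁ ⟨rowE 0 1 0, (rowE_mem _ _ _).1⟩ := by
        rw [show s * ⟨u.1, u.2.2⟩ * s⁻¹ = (⟨rowE 0 1 0, (rowE_mem _ _ _).2⟩ : para3) from
          swap3_conj' u.2.2]
        exact h2
      set s' : para := ⟨swap1, swap1_mem⟩
      refine isConj_iff.2 ⟨(t s)⁻¹ * (t₁ s')⁻¹, ?_⟩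
      have hz : t₁ s' * t (s * ⟨u.1, u.2.2⟩ * s⁻¹) * (t₁ s')⁻¹ = t₁ ⟨zmat, zmat_mem_para⟩ := by
        rw [hs, ← map_inv, ← map_mul, ← map_mul]
        exact congrArg t₁ swap1_conj'
      have hm' : t ⟨u.1, u.2.2⟩ = t₁ ⟨root 1 2 1 * root 0 3 m, (u * zc m).2.1⟩ := hm
      rw [← hz, ← hm', map_mul, map_mul, map_inv]
      group
  have hu' : (⟨root 2 1 1, root_mem_cm (by decide) (by decide) (by decide) 1⟩ : cm) ∈ E := by
    obtain ⟨a, ha⟩ := hshift ⟨wblk, wblk_mem⟩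
    set wc : cm := ⟨wblk, wblk_mem⟩
    have hconj : wc * u * wc⁻¹ ∈ E := by
      show e₂ t (wc * u * wc⁻¹) = e₁ t₁ (wc * u * wc⁻¹)
      rw [map_mul, map_mul, map_inv, ha, hE hu, ← map_inv, ← map_mul, ← map_mul]
      refine congrArg (e₁ t₁) ?_
      calc wc * zc a * u * (wc * zc a)⁻¹ = wc * (zc a * u) * (zc a)⁻¹ * wc⁻¹ := by group
        _ = wc * u * wc⁻¹ := by rw [← zc_comm a u]; group
    have e : wc * u * wc⁻¹ = ⟨root 2 1 (-1), root_mem_cm (by decide) (by decide) (by decide) _⟩ :=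
      wblk_conj'
    rw [e] at hconj
    rw [show (⟨root 2 1 1, root_mem_cm (by decide) (by decide) (by decide) 1⟩ : cm) =
      (⟨root 2 1 (-1), root_mem_cm (by decide) (by decide) (by decide) _⟩ : cm) *
        ⟨root 2 1 (-1), root_mem_cm (by decide) (by decide) (by decide) _⟩ from
      Subtype.ext root21_double]
    exact mul_mem hconj hconj
  intro x
  obtain ⟨a, b, c, p, q, s, t', w, v, hx⟩ := cm_decomp x
  have hroot : ∀ (i j : Fin 4) (hij : i ≠ j) (hj : j ≠ 0) (hi : i ≠ 3),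
      (⟨root i j 1, root_mem_cm hij hj hi 1⟩ : cm) ∈ E →
      ∀ c, (⟨root i j c, root_mem_cm hij hj hi c⟩ : cm) ∈ E := by
    intro i j hij hj hi h c
    obtain ⟨k, hk⟩ := root_pow (i, j) c hij
    rw [show (⟨root i j c, root_mem_cm hij hj hi c⟩ : cm) = (⟨root i j 1, root_mem_cm hij hj hi 1⟩ : cm) ^ (k : ℕ)
      from Subtype.ext hk]
    exact pow_mem h _
  have hu12 := hroot 1 2 (by decide) (by decide) (by decide) hu
  have hu21 := hroot 2 1 (by decide) (by decide) (by decide) hu'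
  rw [show x = cc p q 0 * rc a b c *
    (⟨root 1 2 s, root_mem_cm (by decide) (by decide) (by decide) s⟩ *
      ⟨root 2 1 t', root_mem_cm (by decide) (by decide) (by decide) t'⟩ *
      ⟨root 1 2 w, root_mem_cm (by decide) (by decide) (by decide) w⟩ *
      ⟨root 2 1 v, root_mem_cm (by decide) (by decide) (by decide) v⟩) from Subtype.ext hx]
  exact hE (mul_mem (mul_mem (mc _ _ _) (mr _ _ _))
    (mul_mem (mul_mem (mul_mem (hu12 s) (hu21 t')) (hu12 w)) (hu21 v)))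

theorem rowGrp_le : rowGrp ≤ cm := fun g hg => by
  obtain ⟨a, b, c, rfl⟩ := mem_rowGrp.1 hg
  exact rowE_mem a b c

theorem colGrp_le : colGrp ≤ cm := fun g hg => by
  obtain ⟨a, b, c, rfl⟩ := mem_colGrp.1 hg
  exact colE_mem a b c

theorem hpara3_root : hpara3.1 * (root 0 3 1).1 = (root 0 3 (-1)).1 * hpara3.1 := by decide +kernel

theorem ofCm_resc (y x : cm) : (ofCm y).resc x = y * x * y⁻¹ := by
  refine Subtype.ext ?_
  rw [Subgroup.coe_mul, Subgroup.coe_mul, Subgroup.coe_inv]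
  exact ofCm_conj y x.1

theorem ofCm_res3 (y : cm) (g : para3) :
    (ofCm y).res3 g = (⟨y.1, y.2.2⟩ : para3) * g * (⟨y.1, y.2.2⟩ : para3)⁻¹ := by
  refine Subtype.ext ?_
  rw [Subgroup.coe_mul, Subgroup.coe_mul, Subgroup.coe_inv]
  exact ofCm_conj y g.1

theorem resc_zc_self (k : ZMod 3) (x : cm) : (ofCm (zc k)).resc x = x := by
  rw [ofCm_resc, ← zc_comm, mul_inv_cancel_right]

theorem neg_hpara : hpara3.1 = -hpara.1 := by decide +kernel

theorem hpara_sq : hpara * hpara = 1 := by decide +kernel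

theorem hpara3_sq : hpara3 * hpara3 = 1 := by decide +kernel

theorem conj_same (x : SL4) : hpara * x * hpara⁻¹ = hpara3 * x * hpara3⁻¹ := by
  rw [inv_eq_of_mul_eq_one_right hpara_sq, inv_eq_of_mul_eq_one_right hpara3_sq]
  refine Subtype.ext ?_
  rw [Matrix.SpecialLinearGroup.coe_mul, Matrix.SpecialLinearGroup.coe_mul,
    Matrix.SpecialLinearGroup.coe_mul, Matrix.SpecialLinearGroup.coe_mul, neg_hpara, neg_mul, neg_mul_neg]

theorem hpara3_conj' (j : ZMod 3) (h : root 0 3 (-j) ∈ para3) :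
    (⟨root 0 3 (-j), h⟩ : para3) * ⟨hpara3, hpara3_mem⟩ * (⟨root 0 3 (-j), h⟩ : para3)⁻¹ =
      ⟨hpara3, hpara3_mem⟩ * ⟨root 0 3 (-j), h⟩ := by
  refine Subtype.ext ?_
  rw [Subgroup.coe_mul, Subgroup.coe_mul, Subgroup.coe_mul, Subgroup.coe_inv]
  exact hpara3_conj j

/-- The last correction: a power of the central root. -/
theorem final_step {t : para3 →* G} (g : Good t₁ t) (heq : ∀ x, e₂ t x = e₁ t₁ x) (j : ZMod 3)
    (hb : t ⟨hpara3, hpara3_mem⟩ = t₁ ⟨hpara, hpara_mem⟩ * e₁ t₁ (zc j)) :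
    ∃ t₂' : para3 →* G, Function.Injective t₂' ∧
      (∀ (g : SL4) (hg : g ∈ para) (hg' : g ∈ para3), t₁ ⟨g, hg⟩ = t₂' ⟨g, hg'⟩) ∧
      t₁ ⟨hpara, hpara_mem⟩ = t₂' ⟨hpara3, hpara3_mem⟩ := by
  refine ⟨t.comp (ofCm (zc (-j))).res3, (g.comp (ofCm (zc (-j)))).inj, fun x hx hx' => ?_, ?_⟩
  · have e1 : e₂ (t.comp (ofCm (zc (-j))).res3) ⟨x, hx, hx'⟩ = e₁ t₁ ⟨x, hx, hx'⟩ := by
      rw [e₂_comp, resc_zc_self, heq]
    exact e1.symm
  · have hzj : t ⟨(zc (-j)).1, (zc (-j)).2.2⟩ = e₁ t₁ (zc (-j)) := heq (zc (-j))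
    rw [MonoidHom.comp_apply, ofCm_res3]
    have hc : (⟨(zc (-j)).1, (zc (-j)).2.2⟩ : para3) * ⟨hpara3, hpara3_mem⟩ *
        (⟨(zc (-j)).1, (zc (-j)).2.2⟩ : para3)⁻¹ =
        ⟨hpara3, hpara3_mem⟩ * ⟨(zc (-j)).1, (zc (-j)).2.2⟩ := hpara3_conj' j (zc (-j)).2.2
    rw [hc, map_mul, hb, hzj, mul_assoc, ← map_mul, zc_mul, add_neg_cancel, zc_eq_rc,
      show rc 0 0 0 = 1 from Subtype.ext rowE_zero, map_one, mul_one]

end CfsgLib.LFourThree.Adjust

namespace CfsgLib.LFourThree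

open CfsgLib.LFourThree.Adjust

variable {G : Type*} [Group G]

/-- Two embeddings of the parabolics agreeing on the centre of the common centraliser can be made to
agree on the common part and on the diagonal elements. -/
theorem exists_adjust (t₁ : para →* G) (t₂ : para3 →* G) (h₁ : Function.Injective t₁)
    (h₂ : Function.Injective t₂) (hz : t₂ ⟨zmat, zmat_mem_para3⟩ = t₁ ⟨zmat, zmat_mem_para⟩)
    (hC₁ : Subgroup.centralizer ({t₁ ⟨zmat, zmat_mem_para⟩} : Set G) = (cm.subgroupOf para).map t₁)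
    (hC₂ : Subgroup.centralizer ({t₁ ⟨zmat, zmat_mem_para⟩} : Set G) = (cm.subgroupOf para3).map t₂)
    (hrow : (rowGrp.subgroupOf para).map t₁ = (rowGrp.subgroupOf para3).map t₂)
    (hcol : (colGrp.subgroupOf para).map t₁ = (colGrp.subgroupOf para3).map t₂)
    (hclass : ∀ (m : ZMod 3) (hm : root 1 2 1 * root 0 3 m ∈ para), m ≠ 0 →
      ¬ IsConj (t₁ ⟨zmat, zmat_mem_para⟩) (t₁ ⟨root 1 2 1 * root 0 3 m, hm⟩)) :
    ∃ t₂' : para3 →* G, Function.Injective t₂' ∧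
      (∀ (g : SL4) (hg : g ∈ para) (hg' : g ∈ para3), t₁ ⟨g, hg⟩ = t₂' ⟨g, hg'⟩) ∧
      t₁ ⟨hpara, hpara_mem⟩ = t₂' ⟨hpara3, hpara3_mem⟩ := by
  have hrow' : ∀ a b c, ∃ a' b' c', e₂ t₂ (rc a b c) = e₁ t₁ (rc a' b' c') := by
    intro a b c
    obtain ⟨y, hy, hy'⟩ : e₂ t₂ (rc a b c) ∈ (rowGrp.subgroupOf para).map t₁ := by
      rw [hrow]; exact ⟨⟨rowE a b c, (rowE_mem a b c).2⟩, mem_rowGrp.2 ⟨a, b, c, rfl⟩, rfl⟩
    obtain ⟨a', b', c', h⟩ := mem_rowGrp.1 hy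
    exact ⟨a', b', c', by rw [← hy']; exact congrArg t₁ (Subtype.ext h)⟩
  have hcol' : ∀ a b c, ∃ a' b' c', e₂ t₂ (cc a b c) = e₁ t₁ (cc a' b' c') := by
    intro a b c
    obtain ⟨y, hy, hy'⟩ : e₂ t₂ (cc a b c) ∈ (colGrp.subgroupOf para).map t₁ := by
      rw [hcol]; exact ⟨⟨colE a b c, (colE_mem a b c).2⟩, mem_colGrp.2 ⟨a, b, c, rfl⟩, rfl⟩
    obtain ⟨a', b', c', h⟩ := mem_colGrp.1 hy
    exact ⟨a', b', c', by rw [← hy']; exact congrArg t₁ (Subtype.ext h)⟩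
  have g0 : Good t₁ t₂ := by
    refine ⟨h₂, fun c => ?_, fun x => ?_⟩
    · obtain ⟨k, hk⟩ := root_pow (0, 3) c (by decide)
      have e : zc c = (⟨zmat, ⟨zmat_mem_para, zmat_mem_para3⟩⟩ : cm) ^ (k : ℕ) := Subtype.ext hk
      rw [e, map_pow, map_pow]
      exact congrArg (· ^ (k : ℕ)) hz
    · obtain ⟨y, hy, hy'⟩ : e₂ t₂ x ∈ (cm.subgroupOf para).map t₁ := by
        rw [← hC₁, hC₂]; exact ⟨⟨x.1, x.2.2⟩, x.2, rfl⟩
      exact ⟨⟨y.1, hy⟩, hy'.symm⟩
  obtain ⟨A, ⟨k₁, hk₁⟩, ⟨k₂, hk₂⟩, ⟨k₃, hk₃⟩, ⟨k₄, hk₄⟩⟩ := step_block h₁ g0 hrow' hcol'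
  obtain ⟨B, f1, f2, f3, f4⟩ := step_radical (g0.comp A) hk₁ hk₂ hk₃ hk₄
  set t := (t₂.comp A.res3).comp B.res3
  have g : Good t₁ t := (g0.comp A).comp B
  have heq := eq_on_cm h₁ g f1 f2 f3 f4 hclass
  -- the diagonal elements
  set a := t₁ ⟨hpara, hpara_mem⟩
  set b := t ⟨hpara3, hpara3_mem⟩
  have hsame : ∀ x : cm, a * e₁ t₁ x * a⁻¹ = b * e₁ t₁ x * b⁻¹ := by
    intro x
    have h1 : hpara * x.1 * hpara⁻¹ = hpara3 * x.1 * hpara3⁻¹ := conj_same x.1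
    have hm3 : hpara * x.1 * hpara⁻¹ ∈ para3 := by
      rw [h1]; exact para3.mul_mem (para3.mul_mem hpara3_mem x.2.2) (para3.inv_mem hpara3_mem)
    have hm1 : hpara * x.1 * hpara⁻¹ ∈ para := para.mul_mem (para.mul_mem hpara_mem x.2.1) (para.inv_mem hpara_mem)
    let x' : cm := ⟨hpara * x.1 * hpara⁻¹, Subgroup.mem_inf.2 ⟨hm1, hm3⟩⟩
    have ea : a * e₁ t₁ x * a⁻¹ = e₁ t₁ x' := by
      rw [← map_inv]; show t₁ _ * t₁ _ * t₁ _ = _; rw [← map_mul, ← map_mul]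
      exact congrArg t₁ (Subtype.ext rfl)
    have eb : b * e₁ t₁ x * b⁻¹ = e₁ t₁ x' := by
      rw [← heq x, ← heq x', ← map_inv]; show t _ * t _ * t _ = _; rw [← map_mul, ← map_mul]
      exact congrArg t (Subtype.ext h1.symm)
    rw [ea, eb]
  have hk : ∀ x : cm, Commute (a⁻¹ * b) (e₁ t₁ x) := fun x => by
    show a⁻¹ * b * e₁ t₁ x = e₁ t₁ x * (a⁻¹ * b)
    calc a⁻¹ * b * e₁ t₁ x = a⁻¹ * (b * e₁ t₁ x * b⁻¹) * b := by group
      _ = e₁ t₁ x * (a⁻¹ * b) := by rw [← hsame]; group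
  obtain ⟨y, hy, hy'⟩ : a⁻¹ * b ∈ (cm.subgroupOf para).map t₁ := by
    rw [← hC₁, Subgroup.mem_centralizer_singleton_iff]
    exact hk ⟨zmat, zmat_mem_para, zmat_mem_para3⟩
  set yc : cm := ⟨y.1, hy⟩
  have hyc : e₁ t₁ yc = a⁻¹ * b := hy'
  have hcom : ∀ x : cm, Commute yc x := fun x => e₁_injective h₁ (by
    rw [map_mul, map_mul, hyc]; exact (hk x).eq)
  obtain ⟨j, hj⟩ := eq_zc_of_commute yc (hcom _) (hcom _) (hcom _) (hcom _)
  exact Adjust.final_step g heq j (by rw [← hj, hyc, mul_inv_cancel_left])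

end CfsgLib.LFourThree
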