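import Cfsg.Agent.Lib.LFourThree.Invol
import Cfsg.Agent.Lib.CommGraph.PSLThreeThreeGraph

/-!
The orders of the centralisers of `diag (1,-1,-1,1)`, and the parabolic: its order and quotient.
-/

set_option autoImplicit false
set_option maxRecDepth 100000

namespace CfsgLib.LFourThree.Count

open Matrix

/-- The diagonal of `dmat`. -/
theorem dmat_val : dmat.1 = Matrix.diagonal ![1, -1, -1, 1] := rfl

theorem entries_zero {g : M4} (h : g * dmat.1 = dmat.1 * g) :
    g 0 1 = 0 ∧ g 0 2 = 0 ∧ g 1 0 = 0 ∧ g 1 3 = 0 ∧ g 2 0 = 0 ∧ g 2 3 = 0 ∧ g 3 1 = 0 ∧ g 3 2 = 0 := by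
  have key : ∀ i j, g i j * (![1, -1, -1, 1] : Fin 4 → ZMod 3) j
      = (![1, -1, -1, 1] : Fin 4 → ZMod 3) i * g i j := fun i j => by
    have := congrFun (congrFun h i) j
    rwa [dmat_val, Matrix.mul_diagonal, Matrix.diagonal_mul] at this
  have z1 : ∀ x : ZMod 3, x * -1 = 1 * x → x = 0 := by decide
  have z2 : ∀ x : ZMod 3, x * 1 = -1 * x → x = 0 := by decide
  exact ⟨z1 _ (key 0 1), z1 _ (key 0 2), z2 _ (key 1 0), z2 _ (key 1 3), z2 _ (key 2 0), z2 _ (key 2 3),
    z1 _ (key 3 1), z1 _ (key 3 2)⟩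

/-- The pairs of `2 × 2` blocks of determinant one in all. -/
def blockPairs : Finset ((ZMod 3 × ZMod 3 × ZMod 3 × ZMod 3) × (ZMod 3 × ZMod 3 × ZMod 3 × ZMod 3)) :=
  Finset.univ.filter fun p =>
    (p.1.1 * p.1.2.2.2 - p.1.2.1 * p.1.2.2.1) * (p.2.1 * p.2.2.2.2 - p.2.2.1 * p.2.2.2.1) = 1

theorem card_blockPairs : blockPairs.card = 1152 := by decide +kernel

/-- The block data of a matrix. -/
def blocks (g : M4) : (ZMod 3 × ZMod 3 × ZMod 3 × ZMod 3) × (ZMod 3 × ZMod 3 × ZMod 3 × ZMod 3) :=
  ((g 0 0, g 0 3, g 3 0, g 3 3), (g 1 1, g 1 2, g 2 1, g 2 2))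

theorem det_blocks (g : M4) (h : g * dmat.1 = dmat.1 * g) :
    g.det = (g 0 0 * g 3 3 - g 0 3 * g 3 0) * (g 1 1 * g 2 2 - g 1 2 * g 2 1) := by
  obtain ⟨a, b, c, d, e, f, k, l⟩ := entries_zero h
  rw [Matrix.det_succ_row_zero, Fin.sum_univ_four, Matrix.det_fin_three, Matrix.det_fin_three,
    Matrix.det_fin_three, Matrix.det_fin_three]
  simp [Matrix.submatrix_apply, Fin.succAbove, a, b, c, d, e, f, k, l]
  ring

theorem card_commutant_le : Nat.card {g : SL4 // g.1 * dmat.1 = dmat.1 * g.1} ≤ 1152 := by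
  rw [← card_blockPairs, ← Nat.card_eq_finsetCard]
  refine Nat.card_le_card_of_injective
    (fun g => ⟨blocks g.1.1, Finset.mem_filter.2 ⟨Finset.mem_univ _, ?_⟩⟩) ?_
  · have := det_blocks _ g.2
    rw [g.1.2] at this
    exact this.symm
  · rintro ⟨g, hg⟩ ⟨g', hg'⟩ he
    obtain ⟨a, b, c, d, e, f, k, l⟩ := entries_zero hg
    obtain ⟨a', b', c', d', e', f', k', l'⟩ := entries_zero hg'
    have he' : blocks g.1 = blocks g'.1 := congrArg Subtype.val he
    simp only [blocks, Prod.mk.injEq] at he'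
    obtain ⟨⟨h1, h2, h3, h4⟩, h5, h6, h7, h8⟩ := he'
    refine Subtype.ext (Subtype.ext ?_)
    ext i j
    fin_cases i <;> fin_cases j <;> simp_all

/-- A permutation matrix moving `dmat` to its negative. -/
def wflip : SL4 := ⟨!![0, 1, 0, 0; 1, 0, 0, 0; 0, 0, 0, 1; 0, 0, 1, 0], by decide +kernel⟩

theorem wflip_dmat : wflip.1 * dmat.1 = -(dmat.1 * wflip.1) := by decide +kernel

/-- The centraliser in `PSL(4,3)` has at most 1152 elements. -/
theorem card_cent_PL4 : Nat.card (Subgroup.centralizer ({mk dmat} : Set PL4)) ≤ 1152 := by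
  classical
  set C := Subgroup.centralizer ({mk dmat} : Set PL4)
  have h2 : Nat.card (C.comap mk) = 2 * Nat.card C := by
    have e1 := (C.comap mk).card_mul_index
    rw [Subgroup.index_comap_of_surjective C mk_surjective, card_SL4] at e1
    have e2 := C.card_mul_index
    rw [card_PL4] at e2
    have hpos : 0 < C.index := Nat.pos_of_ne_zero fun h => by simp [h] at e2
    refine Nat.eq_of_mul_eq_mul_right hpos ?_
    rw [e1, mul_assoc, e2]; norm_num
  have h3 : Nat.card (C.comap mk) ≤ 2 * Nat.card {g : SL4 // g.1 * dmat.1 = dmat.1 * g.1} := by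
    rw [two_mul, ← Nat.card_sum]
    refine Nat.card_le_card_of_injective (β := {g : SL4 // g.1 * dmat.1 = dmat.1 * g.1} ⊕
      {g : SL4 // g.1 * dmat.1 = dmat.1 * g.1}) (fun g =>
        if hg : g.1.1 * dmat.1 = dmat.1 * g.1.1 then Sum.inl ⟨g.1, hg⟩
        else Sum.inr ⟨wflip * g.1, ?_⟩) ?_
    · have hm := (Subgroup.mem_centralizer_singleton_iff.1 (Subgroup.mem_comap.1 g.2))
      have h := (mk_commute (g := g.1) (h := dmat) hm).resolve_left hg
      rw [Matrix.SpecialLinearGroup.coe_mul, mul_assoc, h, mul_neg, ← mul_assoc, wflip_dmat, neg_mul,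
        neg_neg, mul_assoc]
    · intro a b hab
      by_cases ha : a.1.1 * dmat.1 = dmat.1 * a.1.1 <;> by_cases hb : b.1.1 * dmat.1 = dmat.1 * b.1.1 <;>
        simp only [ha, hb, ↓reduceDIte, Sum.inl.injEq, Sum.inr.injEq, reduceCtorEq, Subtype.mk.injEq,
          mul_right_inj] at hab
      · exact Subtype.ext hab
      · exact Subtype.ext hab
  have := card_commutant_le
  omega

/-! ### The parabolic -/

theorem para_det (g : para) : (g.1.1.submatrix Fin.succ Fin.succ).det = 1 := by
  have h := g.1.2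
  rw [Matrix.det_succ_column_zero, Fin.sum_univ_succ] at h
  simp only [para_apply] at h
  simpa [Fin.succAbove_zero, Matrix.one_apply, Fin.succ_ne_zero] using h

/-- The projection to the lower block. -/
def lower : para →* Matrix.SpecialLinearGroup (Fin 3) (ZMod 3) where
  toFun g := ⟨g.1.1.submatrix Fin.succ Fin.succ, para_det g⟩
  map_one' := Subtype.ext (by simp [Matrix.submatrix_one _ (Fin.succ_injective 3)])
  map_mul' g h := by
    refine Subtype.ext ?_
    ext i j
    show ((g * h).1.1) i.succ j.succ = (g.1.1.submatrix Fin.succ Fin.succ * h.1.1.submatrix Fin.succ Fin.succ) i j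
    rw [Subgroup.coe_mul, Matrix.SpecialLinearGroup.coe_mul, Matrix.mul_apply, Matrix.mul_apply,
      Fin.sum_univ_succ, para_apply g i.succ]
    simp [Fin.succ_ne_zero]

/-- The matrix with given first row tail and lower block. -/
def assemble (r : Fin 3 → ZMod 3) (b : Matrix (Fin 3) (Fin 3) (ZMod 3)) : M4 :=
  !![1, r 0, r 1, r 2; 0, b 0 0, b 0 1, b 0 2; 0, b 1 0, b 1 1, b 1 2; 0, b 2 0, b 2 1, b 2 2]

theorem assemble_det (r : Fin 3 → ZMod 3) (b : Matrix (Fin 3) (Fin 3) (ZMod 3)) :
    (assemble r b).det = b.det := by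
  rw [Matrix.det_succ_column_zero, Fin.sum_univ_four, Matrix.det_fin_three b, Matrix.det_fin_three,
    Matrix.det_fin_three, Matrix.det_fin_three, Matrix.det_fin_three]
  simp [assemble, Matrix.submatrix_apply, Fin.succAbove]

/-- `para` is a pair of a row tail and a block. -/
def paraEquiv : para ≃ (Fin 3 → ZMod 3) × Matrix.SpecialLinearGroup (Fin 3) (ZMod 3) where
  toFun g := (fun j => g.1.1 0 j.succ, lower g)
  invFun p := ⟨⟨assemble p.1 p.2.1, by rw [assemble_det, p.2.2]⟩, fun i => by
    show assemble p.1 p.2.1 i 0 = _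
    fin_cases i <;> simp [assemble, Matrix.one_apply]⟩
  left_inv g := by
    refine Subtype.ext (Subtype.ext ?_)
    show assemble _ (lower g).1 = g.1.1
    ext i j
    fin_cases j
    · have h := para_apply g i
      fin_cases i <;> simp [assemble, Matrix.one_apply] at h ⊢ <;> simp [h]
    all_goals (fin_cases i <;> rfl)
  right_inv p := by
    refine Prod.ext ?_ (Subtype.ext ?_)
    · funext j
      fin_cases j <;> rfl
    · ext i j
      fin_cases i <;> fin_cases j <;> rfl

theorem lower_surjective : Function.Surjective lower := fun b =>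
  ⟨paraEquiv.symm (0, b), congrArg Prod.snd (paraEquiv.apply_symm_apply (0, b))⟩

theorem card_para : Nat.card para = 151632 := by
  rw [Nat.card_congr paraEquiv, Nat.card_prod, CfsgLib.CommGraph.natCard_SL33, Nat.card_fun, Nat.card_zmod,
    Nat.card_eq_fintype_card, Fintype.card_fin]
  norm_num

theorem card_ker_lower : Nat.card lower.ker = 27 := by
  have h := Subgroup.card_eq_card_quotient_mul_card_subgroup lower.ker
  rw [card_para, Nat.card_congr (QuotientGroup.quotientKerEquivOfSurjective lower lower_surjective).toEquiv,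
    CfsgLib.CommGraph.natCard_SL33] at h
  omega

theorem card_cent_para : Nat.card (Subgroup.centralizer ({dpara} : Set para)) ≤ 729 := by
  have hz : ∀ g : Subgroup.centralizer ({dpara} : Set para), g.1.1.1 * dmat.1 = dmat.1 * g.1.1.1 := fun g => by
    have := Subgroup.mem_centralizer_singleton_iff.1 g.2
    exact congrArg (fun x : para => x.1.1) this
  have hinj : Function.Injective fun g : Subgroup.centralizer ({dpara} : Set para) =>
      (g.1.1.1 0 3, g.1.1.1 3 3, g.1.1.1 1 1, g.1.1.1 1 2, g.1.1.1 2 1, g.1.1.1 2 2) := by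
    intro g g' he
    simp only [Prod.mk.injEq] at he
    obtain ⟨h1, h2, h3, h4, h5, h6⟩ := he
    obtain ⟨a, b, c, d, e, f, k, l⟩ := entries_zero (hz g)
    obtain ⟨a', b', c', d', e', f', k', l'⟩ := entries_zero (hz g')
    refine Subtype.ext (Subtype.ext (Subtype.ext ?_))
    ext i j
    have hc := para_apply g.1 i
    have hc' := para_apply g'.1 i
    fin_cases i <;> fin_cases j <;> simp_all
  refine (Nat.card_le_card_of_injective _ hinj).trans (le_of_eq ?_)
  simp

end CfsgLib.LFourThree.Count
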