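import Cfsg.Agent.Lib.LFourThree.Pieces

/-!
Coordinates on the upper unitriangular subgroup of `SL(4,3)`, for the fusion of the root group at `(0,3)`.
-/

set_option autoImplicit false
set_option linter.style.haveILetI false
set_option maxRecDepth 100000

namespace CfsgLib.LFourThree.ZF

open Matrix

/-- The matrix with upper entries `(a₁, a₂, b; e, c₁; c₂)`. -/
def uMat (a₁ a₂ b e c₁ c₂ : ZMod 3) : Matrix (Fin 4) (Fin 4) (ZMod 3) :=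
  !![1, a₁, a₂, b; 0, 1, e, c₁; 0, 0, 1, c₂; 0, 0, 0, 1]

theorem det_uMat (a₁ a₂ b e c₁ c₂ : ZMod 3) : (uMat a₁ a₂ b e c₁ c₂).det = 1 := by
  rw [Matrix.det_of_upperTriangular]
  · simp [uMat, Fin.prod_univ_four]
  · intro i j hij
    fin_cases i <;> fin_cases j <;> simp_all [uMat]

/-- An upper unitriangular matrix by its entries. -/
def uEl (a₁ a₂ b e c₁ c₂ : ZMod 3) : SL4 := ⟨uMat a₁ a₂ b e c₁ c₂, det_uMat a₁ a₂ b e c₁ c₂⟩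

theorem coe_uEl (a₁ a₂ b e c₁ c₂ : ZMod 3) : (uEl a₁ a₂ b e c₁ c₂).1 = uMat a₁ a₂ b e c₁ c₂ := rfl

theorem uEl_mul (p₁ p₂ pb s r₁ r₂ a₁ a₂ b e c₁ c₂ : ZMod 3) :
    uEl p₁ p₂ pb s r₁ r₂ * uEl a₁ a₂ b e c₁ c₂ =
      uEl (a₁ + p₁) (a₂ + p₁ * e + p₂) (b + p₁ * c₁ + p₂ * c₂ + pb) (e + s) (c₁ + s * c₂ + r₁) (c₂ + r₂) := by
  apply Subtype.ext
  rw [Matrix.SpecialLinearGroup.coe_mul, coe_uEl, coe_uEl, coe_uEl]
  ext i j
  fin_cases i <;> fin_cases j <;> simp [uMat, Matrix.mul_apply, Fin.sum_univ_four]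

theorem uEl_inj {p₁ p₂ pb s r₁ r₂ a₁ a₂ b e c₁ c₂ : ZMod 3} (h : uEl p₁ p₂ pb s r₁ r₂ = uEl a₁ a₂ b e c₁ c₂) :
    p₁ = a₁ ∧ p₂ = a₂ ∧ pb = b ∧ s = e ∧ r₁ = c₁ ∧ r₂ = c₂ := by
  have h' : ∀ i j, uMat p₁ p₂ pb s r₁ r₂ i j = uMat a₁ a₂ b e c₁ c₂ i j := fun i j =>
    congrFun (congrFun (congrArg Subtype.val h) i) j
  exact ⟨by simpa [uMat] using h' 0 1, by simpa [uMat] using h' 0 2, by simpa [uMat] using h' 0 3,
    by simpa [uMat] using h' 1 2, by simpa [uMat] using h' 1 3, by simpa [uMat] using h' 2 3⟩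

theorem uEl_one : uEl 0 0 0 0 0 0 = 1 := Subtype.ext (by decide +kernel)

theorem uEl_inv (p₁ p₂ pb s r₁ r₂ : ZMod 3) : (uEl p₁ p₂ pb s r₁ r₂)⁻¹ =
    uEl (-p₁) (-p₂ + p₁ * s) (-pb + p₁ * r₁ + p₂ * r₂ - p₁ * s * r₂) (-s) (-r₁ + s * r₂) (-r₂) := by
  refine inv_eq_of_mul_eq_one_right ?_
  rw [uEl_mul, ← uEl_one]
  congr 1 <;> ring

theorem uEl_cube (a₁ a₂ b e c₁ c₂ : ZMod 3) : uEl a₁ a₂ b e c₁ c₂ ^ 3 = uEl 0 0 (a₁ * e * c₂) 0 0 0 := by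
  rw [pow_succ, pow_two, uEl_mul, uEl_mul]
  revert a₁ a₂ b e c₁ c₂
  decide +kernel

theorem uEl_comm_iff (p₁ p₂ pb s r₁ r₂ a₁ a₂ b e c₁ c₂ : ZMod 3) :
    uEl p₁ p₂ pb s r₁ r₂ * uEl a₁ a₂ b e c₁ c₂ = uEl a₁ a₂ b e c₁ c₂ * uEl p₁ p₂ pb s r₁ r₂ ↔
      p₁ * e = a₁ * s ∧ p₁ * c₁ + p₂ * c₂ = a₁ * r₁ + a₂ * r₂ ∧ s * c₂ = e * r₂ := by
  rw [uEl_mul, uEl_mul]
  constructor
  · intro h
    obtain ⟨-, h2, h3, -, h5, -⟩ := uEl_inj h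
    exact ⟨by linear_combination h2, by linear_combination h3, by linear_combination h5⟩
  · rintro ⟨h1, h2, h3⟩
    congr 1
    · ring
    · linear_combination h1
    · linear_combination h2
    · ring
    · linear_combination h3
    · ring

/-- The upper unitriangular group. -/
def uGrp : Subgroup SL4 where
  carrier := {g | ∃ a₁ a₂ b e c₁ c₂, g = uEl a₁ a₂ b e c₁ c₂}
  one_mem' := ⟨0, 0, 0, 0, 0, 0, uEl_one.symm⟩
  mul_mem' := by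
    rintro _ _ ⟨p₁, p₂, pb, s, r₁, r₂, rfl⟩ ⟨a₁, a₂, b, e, c₁, c₂, rfl⟩
    exact ⟨_, _, _, _, _, _, uEl_mul ..⟩
  inv_mem' := by
    rintro _ ⟨p₁, p₂, pb, s, r₁, r₂, rfl⟩
    exact ⟨_, _, _, _, _, _, uEl_inv ..⟩

theorem uEl_mem_para (a₁ a₂ b e c₁ c₂ : ZMod 3) : uEl a₁ a₂ b e c₁ c₂ ∈ para := fun i => by
  show uMat a₁ a₂ b e c₁ c₂ i 0 = _
  fin_cases i <;> simp [uMat] <;> rfl

theorem uEl_mem_para3 (a₁ a₂ b e c₁ c₂ : ZMod 3) : uEl a₁ a₂ b e c₁ c₂ ∈ para3 := fun j => by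
  show uMat a₁ a₂ b e c₁ c₂ 3 j = _
  fin_cases j <;> simp [uMat] <;> rfl

theorem root_eq : root 0 1 1 = uEl 1 0 0 0 0 0 ∧ root 0 2 1 = uEl 0 1 0 0 0 0 ∧ root 0 3 1 = uEl 0 0 1 0 0 0 ∧
    root 1 3 1 = uEl 0 0 0 0 1 0 ∧ root 2 3 1 = uEl 0 0 0 0 0 1 := by
  refine ⟨?_, ?_, ?_, ?_, ?_⟩ <;>
    · apply Subtype.ext
      rw [root, CfsgLib.Schur.SLFam.coe_tv (by decide), coe_uEl]
      decide +kernel

theorem root_prod_eq (m : ZMod 3) : root 1 2 1 * root 0 3 m = uEl 0 0 m 1 0 0 := by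
  apply Subtype.ext
  rw [Matrix.SpecialLinearGroup.coe_mul, root, root, CfsgLib.Schur.SLFam.coe_tv (by decide),
    CfsgLib.Schur.SLFam.coe_tv (by decide), coe_uEl]
  revert m
  decide +kernel

theorem zmat_eq : zmat = uEl 0 0 1 0 0 0 := root_eq.2.2.1

theorem mem_rowGrp {g : SL4} : g ∈ rowGrp ↔ ∃ a₁ a₂ b, g = uEl a₁ a₂ b 0 0 0 := by
  let R : Subgroup SL4 :=
    { carrier := {g | ∃ a₁ a₂ b, g = uEl a₁ a₂ b 0 0 0}
      one_mem' := ⟨0, 0, 0, uEl_one.symm⟩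
      mul_mem' := by
        rintro _ _ ⟨p₁, p₂, pb, rfl⟩ ⟨a₁, a₂, b, rfl⟩
        exact ⟨a₁ + p₁, a₂ + p₂, b + pb, by rw [uEl_mul]; congr 1 <;> ring⟩
      inv_mem' := by
        rintro _ ⟨p₁, p₂, pb, rfl⟩
        exact ⟨-p₁, -p₂, -pb, by rw [uEl_inv]; congr 1 <;> ring⟩ }
  constructor
  · intro h
    refine (Subgroup.closure_le (K := R)).2 ?_ h
    rintro x (rfl | rfl | rfl)
    exacts [⟨1, 0, 0, root_eq.1⟩, ⟨0, 1, 0, root_eq.2.1⟩, ⟨0, 0, 1, root_eq.2.2.1⟩]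
  · rintro ⟨a₁, a₂, b, rfl⟩
    have hm : ∀ n : ℕ, ∀ x ∈ ({root 0 1 1, root 0 2 1, root 0 3 1} : Set SL4), x ^ n ∈ rowGrp := fun n x hx =>
      pow_mem (Subgroup.subset_closure hx) n
    have e : uEl a₁ a₂ b 0 0 0 = uEl 1 0 0 0 0 0 ^ a₁.val * uEl 0 1 0 0 0 0 ^ a₂.val * uEl 0 0 1 0 0 0 ^ b.val := by
      revert a₁ a₂ b
      decide +kernel
    rw [e, ← root_eq.1, ← root_eq.2.1, ← root_eq.2.2.1]
    exact mul_mem (mul_mem (hm _ _ (by simp)) (hm _ _ (by simp))) (hm _ _ (by simp))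

theorem mem_colGrp {g : SL4} : g ∈ colGrp ↔ ∃ b c₁ c₂, g = uEl 0 0 b 0 c₁ c₂ := by
  let R : Subgroup SL4 :=
    { carrier := {g | ∃ b c₁ c₂, g = uEl 0 0 b 0 c₁ c₂}
      one_mem' := ⟨0, 0, 0, uEl_one.symm⟩
      mul_mem' := by
        rintro _ _ ⟨pb, r₁, r₂, rfl⟩ ⟨b, c₁, c₂, rfl⟩
        exact ⟨b + pb, c₁ + r₁, c₂ + r₂, by rw [uEl_mul]; congr 1 <;> ring⟩
      inv_mem' := by
        rintro _ ⟨pb, r₁, r₂, rfl⟩
        exact ⟨-pb, -r₁, -r₂, by rw [uEl_inv]; congr 1 <;> ring⟩ }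
  constructor
  · intro h
    refine (Subgroup.closure_le (K := R)).2 ?_ h
    rintro x (rfl | rfl | rfl)
    exacts [⟨1, 0, 0, root_eq.2.2.1⟩, ⟨0, 1, 0, root_eq.2.2.2.1⟩, ⟨0, 0, 1, root_eq.2.2.2.2⟩]
  · rintro ⟨b, c₁, c₂, rfl⟩
    have hm : ∀ n : ℕ, ∀ x ∈ ({root 0 3 1, root 1 3 1, root 2 3 1} : Set SL4), x ^ n ∈ colGrp := fun n x hx =>
      pow_mem (Subgroup.subset_closure hx) n
    have e : uEl 0 0 b 0 c₁ c₂ = uEl 0 0 1 0 0 0 ^ b.val * uEl 0 0 0 0 1 0 ^ c₁.val * uEl 0 0 0 0 0 1 ^ c₂.val := by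
      revert b c₁ c₂
      decide +kernel
    rw [e, ← root_eq.2.2.1, ← root_eq.2.2.2.1, ← root_eq.2.2.2.2]
    exact mul_mem (mul_mem (hm _ _ (by simp)) (hm _ _ (by simp))) (hm _ _ (by simp))

theorem mem_qGrp {g : SL4} : g ∈ qGrp ↔ ∃ a₁ a₂ b c₁ c₂, g = uEl a₁ a₂ b 0 c₁ c₂ := by
  let R : Subgroup SL4 :=
    { carrier := {g | ∃ a₁ a₂ b c₁ c₂, g = uEl a₁ a₂ b 0 c₁ c₂}
      one_mem' := ⟨0, 0, 0, 0, 0, uEl_one.symm⟩
      mul_mem' := by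
        rintro _ _ ⟨p₁, p₂, pb, r₁, r₂, rfl⟩ ⟨a₁, a₂, b, c₁, c₂, rfl⟩
        exact ⟨a₁ + p₁, a₂ + p₂, b + p₁ * c₁ + p₂ * c₂ + pb, c₁ + r₁, c₂ + r₂, by
          rw [uEl_mul]; congr 1 <;> ring⟩
      inv_mem' := by
        rintro _ ⟨p₁, p₂, pb, r₁, r₂, rfl⟩
        exact ⟨-p₁, -p₂, -pb + p₁ * r₁ + p₂ * r₂, -r₁, -r₂, by rw [uEl_inv]; congr 1 <;> ring⟩ }
  constructor
  · intro h
    refine (sup_le (c := R) ?_ ?_) h
    · intro x hx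
      obtain ⟨a₁, a₂, b, rfl⟩ := mem_rowGrp.1 hx
      exact ⟨a₁, a₂, b, 0, 0, rfl⟩
    · intro x hx
      obtain ⟨b, c₁, c₂, rfl⟩ := mem_colGrp.1 hx
      exact ⟨0, 0, b, c₁, c₂, rfl⟩
  · rintro ⟨a₁, a₂, b, c₁, c₂, rfl⟩
    have e : uEl a₁ a₂ b 0 c₁ c₂ = uEl a₁ a₂ 0 0 0 0 * uEl 0 0 (b - a₁ * c₁ - a₂ * c₂) 0 c₁ c₂ := by
      rw [uEl_mul]; congr 1 <;> ring
    rw [e]
    exact mul_mem (Subgroup.mem_sup_left (mem_rowGrp.2 ⟨_, _, _, rfl⟩))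
      (Subgroup.mem_sup_right (mem_colGrp.2 ⟨_, _, _, rfl⟩))

theorem uEl_mem_qGrp_iff {a₁ a₂ b e c₁ c₂ : ZMod 3} : uEl a₁ a₂ b e c₁ c₂ ∈ qGrp ↔ e = 0 := by
  rw [mem_qGrp]
  constructor
  · rintro ⟨p₁, p₂, pb, r₁, r₂, h⟩
    exact (uEl_inj h).2.2.2.1
  · rintro rfl
    exact ⟨_, _, _, _, _, rfl⟩

theorem rowGrp_le : rowGrp ≤ qGrp := le_sup_left

theorem colGrp_le : colGrp ≤ qGrp := le_sup_right

theorem qGrp_le_cm : qGrp ≤ cm := fun g hg => by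
  obtain ⟨a₁, a₂, b, c₁, c₂, rfl⟩ := mem_qGrp.1 hg
  exact ⟨uEl_mem_para a₁ a₂ b 0 c₁ c₂, uEl_mem_para3 a₁ a₂ b 0 c₁ c₂⟩

theorem uGrp_le_cm : uGrp ≤ cm := by
  rintro _ ⟨a₁, a₂, b, e, c₁, c₂, rfl⟩
  exact ⟨uEl_mem_para a₁ a₂ b e c₁ c₂, uEl_mem_para3 a₁ a₂ b e c₁ c₂⟩

/-! ### Conjugation -/

theorem row_val (w : Fin 4 → ZMod 3) (h : w 0 = 0) :
    uMat (w 1) (w 2) (w 3) 0 0 0 = 1 + vecMulVec (Pi.single 0 1) w := by
  ext i j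
  fin_cases i <;> fin_cases j <;> simp [uMat, vecMulVec, h]

theorem col_val (w : Fin 4 → ZMod 3) (h : w 3 = 0) :
    uMat 0 0 (w 0) 0 (w 1) (w 2) = 1 + vecMulVec w (Pi.single 3 1) := by
  ext i j
  fin_cases i <;> fin_cases j <;> simp [uMat, vecMulVec, h]

theorem conj_val (g x : SL4) (u v : Fin 4 → ZMod 3) (hx : x.1 = 1 + vecMulVec u v) :
    (g * x * g⁻¹).1 = 1 + vecMulVec (g.1 *ᵥ u) (v ᵥ* (g⁻¹).1) := by
  rw [Matrix.SpecialLinearGroup.coe_mul, Matrix.SpecialLinearGroup.coe_mul, hx, mul_add, add_mul, mul_one,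
    ← Matrix.SpecialLinearGroup.coe_mul, mul_inv_cancel, Matrix.SpecialLinearGroup.coe_one, mul_vecMulVec,
    vecMulVec_mul]

theorem para_single {g : SL4} (hg : g ∈ para) : g.1 *ᵥ Pi.single 0 1 = Pi.single 0 1 := by
  funext i
  rw [Matrix.mulVec_single_one]
  show g.1 i 0 = _
  rw [hg i, Matrix.one_apply, Pi.single_apply]

theorem para3_single {g : SL4} (hg : g ∈ para3) : Pi.single 3 1 ᵥ* g.1 = Pi.single 3 1 := by
  funext j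
  rw [Matrix.single_one_vecMul]
  show g.1 3 j = _
  rw [hg j, Matrix.one_apply, Pi.single_apply]
  exact if_congr eq_comm rfl rfl

theorem conj_rowGrp {g r : SL4} (hg : g ∈ para) (hr : r ∈ rowGrp) : g * r * g⁻¹ ∈ rowGrp := by
  obtain ⟨a₁, a₂, b, rfl⟩ := mem_rowGrp.1 hr
  set w := ![0, a₁, a₂, b] ᵥ* (g⁻¹).1 with hw
  have h0 : w 0 = 0 := by
    simp only [hw, Matrix.vecMul, dotProduct, inv_mem hg _]
    simp [Matrix.one_apply]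
  have e := conj_val g (uEl a₁ a₂ b 0 0 0) (Pi.single 0 1) ![0, a₁, a₂, b]
    (by rw [coe_uEl, ← row_val ![0, a₁, a₂, b] rfl]; rfl)
  rw [para_single hg, ← row_val w h0] at e
  exact mem_rowGrp.2 ⟨_, _, _, Subtype.ext e⟩

theorem conj_colGrp {g r : SL4} (hg : g ∈ para3) (hr : r ∈ colGrp) : g * r * g⁻¹ ∈ colGrp := by
  obtain ⟨b, c₁, c₂, rfl⟩ := mem_colGrp.1 hr
  set w := g.1 *ᵥ ![b, c₁, c₂, 0] with hw
  have h0 : w 3 = 0 := by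
    simp only [hw, Matrix.mulVec, dotProduct, hg _]
    simp [Matrix.one_apply]
  have e := conj_val g (uEl 0 0 b 0 c₁ c₂) ![b, c₁, c₂, 0] (Pi.single 3 1)
    (by rw [coe_uEl, ← col_val ![b, c₁, c₂, 0] rfl]; rfl)
  rw [para3_single (inv_mem hg), ← col_val w h0] at e
  exact mem_colGrp.2 ⟨_, _, _, Subtype.ext e⟩

theorem conj_qGrp {g r : SL4} (hg : g ∈ cm) (hr : r ∈ qGrp) : g * r * g⁻¹ ∈ qGrp := by
  obtain ⟨a₁, a₂, b, c₁, c₂, rfl⟩ := mem_qGrp.1 hr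
  have e : uEl a₁ a₂ b 0 c₁ c₂ = uEl a₁ a₂ 0 0 0 0 * uEl 0 0 (b - a₁ * c₁ - a₂ * c₂) 0 c₁ c₂ := by
    rw [uEl_mul]; congr 1 <;> ring
  rw [e, ← conj_mul]
  exact mul_mem (rowGrp_le (conj_rowGrp hg.1 (mem_rowGrp.2 ⟨_, _, _, rfl⟩)))
    (colGrp_le (conj_colGrp hg.2 (mem_colGrp.2 ⟨_, _, _, rfl⟩)))

/-- Products of the minors of `x - 1`. -/
theorem minor_zero {x : SL4} (hx : x ∈ rowGrp ∨ x ∈ colGrp) (g : SL4) (i j k l : Fin 4) :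
    ((g * x * g⁻¹).1 - 1) i j * ((g * x * g⁻¹).1 - 1) k l =
      ((g * x * g⁻¹).1 - 1) i l * ((g * x * g⁻¹).1 - 1) k j := by
  obtain ⟨u, v, e⟩ : ∃ u v, x.1 = 1 + vecMulVec u v := by
    rcases hx with hx | hx
    · obtain ⟨a₁, a₂, b, rfl⟩ := mem_rowGrp.1 hx
      exact ⟨_, _, row_val ![0, a₁, a₂, b] rfl⟩
    · obtain ⟨b, c₁, c₂, rfl⟩ := mem_colGrp.1 hx
      exact ⟨_, _, col_val ![b, c₁, c₂, 0] rfl⟩
  rw [conj_val g x u v e, add_sub_cancel_left]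
  simp only [vecMulVec_apply]
  ring

/-- The nontrivial elements of the first row are conjugate in `para`. -/
theorem row_transitive {r : SL4} (hr : r ∈ rowGrp) (h1 : r ≠ 1) : ∃ k ∈ para, k * zmat * k⁻¹ = r := by
  obtain ⟨v₁, v₂, v₃, rfl⟩ := mem_rowGrp.1 hr
  have hne : ¬ (v₁ = 0 ∧ v₂ = 0 ∧ v₃ = 0) := fun ⟨a, b, c⟩ => h1 (by rw [a, b, c, uEl_one])
  obtain ⟨M, hdet, hcol, hM⟩ : ∃ M : Matrix (Fin 4) (Fin 4) (ZMod 3), M.det = 1 ∧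
      (∀ i, M i 0 = (1 : Matrix (Fin 4) (Fin 4) (ZMod 3)) i 0) ∧ M 3 = ![0, v₁, v₂, v₃] := by
    by_cases h3 : v₃ = 0
    · by_cases h2 : v₂ = 0
      · refine ⟨!![1, 0, 0, 0; 0, 0, v₁, 0; 0, 0, 0, 1; 0, v₁, 0, 0], ?_, ?_, ?_⟩
        · clear h1 hr
          subst h2 h3
          revert v₁
          decide +kernel
        · intro i; fin_cases i <;> simp <;> rfl
        · subst h2 h3; ext j; fin_cases j <;> simp
      · refine ⟨!![1, 0, 0, 0; 0, v₂, 0, 0; 0, 0, 0, -1; 0, v₁, v₂, 0], ?_, ?_, ?_⟩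
        · clear h1 hr hne
          revert v₁ v₂
          decide +kernel
        · intro i; fin_cases i <;> simp <;> rfl
        · subst h3; ext j; fin_cases j <;> simp
    · refine ⟨!![1, 0, 0, 0; 0, v₃, 0, 0; 0, 0, 1, 0; 0, v₁, v₂, v₃], ?_, ?_, ?_⟩
      · clear h1 hr hne
        revert v₁ v₂ v₃
        decide +kernel
      · intro i; fin_cases i <;> simp <;> rfl
      · ext j; fin_cases j <;> simp
  let m : SL4 := ⟨M, hdet⟩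
  have hm : m ∈ para := hcol
  refine ⟨m⁻¹, inv_mem hm, Subtype.ext ?_⟩
  rw [conj_val m⁻¹ zmat (Pi.single 0 1) (Pi.single 3 1) (by
      rw [zmat_eq, coe_uEl, ← col_val (Pi.single 0 1) rfl]; rfl),
    para_single (inv_mem hm), inv_inv, coe_uEl]
  rw [Matrix.single_one_vecMul]
  show 1 + vecMulVec (Pi.single 0 1) (M 3) = _
  rw [hM]
  exact (row_val ![0, v₁, v₂, v₃] rfl).symm

/-- The nontrivial elements of the last column are conjugate in `para3`. -/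
theorem col_transitive {r : SL4} (hr : r ∈ colGrp) (h1 : r ≠ 1) : ∃ k ∈ para3, k * zmat * k⁻¹ = r := by
  obtain ⟨v₁, v₂, v₃, rfl⟩ := mem_colGrp.1 hr
  have hne : ¬ (v₁ = 0 ∧ v₂ = 0 ∧ v₃ = 0) := fun ⟨a, b, c⟩ => h1 (by rw [a, b, c, uEl_one])
  obtain ⟨M, hdet, hrow, hM⟩ : ∃ M : Matrix (Fin 4) (Fin 4) (ZMod 3), M.det = 1 ∧
      (∀ j, M 3 j = (1 : Matrix (Fin 4) (Fin 4) (ZMod 3)) 3 j) ∧ (fun i => M i 0) = ![v₁, v₂, v₃, 0] := by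
    by_cases h₁ : v₁ = 0
    · by_cases h₂ : v₂ = 0
      · refine ⟨!![0, v₃, 0, 0; 0, 0, 1, 0; v₃, 0, 0, 0; 0, 0, 0, 1], ?_, ?_, ?_⟩
        · clear h1 hr
          subst h₁ h₂
          revert v₃
          decide +kernel
        · intro j; fin_cases j <;> simp <;> rfl
        · subst h₁ h₂; ext i; fin_cases i <;> simp
      · refine ⟨!![0, -v₂, 0, 0; v₂, 0, 0, 0; v₃, 0, 1, 0; 0, 0, 0, 1], ?_, ?_, ?_⟩
        · clear h1 hr hne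
          revert v₂ v₃
          decide +kernel
        · intro j; fin_cases j <;> simp <;> rfl
        · subst h₁; ext i; fin_cases i <;> simp
    · refine ⟨!![v₁, 0, 0, 0; v₂, v₁, 0, 0; v₃, 0, 1, 0; 0, 0, 0, 1], ?_, ?_, ?_⟩
      · clear h1 hr hne
        revert v₁ v₂ v₃
        decide +kernel
      · intro j; fin_cases j <;> simp <;> rfl
      · ext i; fin_cases i <;> simp
  let m : SL4 := ⟨M, hdet⟩
  have hm : m ∈ para3 := hrow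
  refine ⟨m, hm, Subtype.ext ?_⟩
  rw [conj_val m zmat (Pi.single 0 1) (Pi.single 3 1) (by
      rw [zmat_eq, coe_uEl, ← col_val (Pi.single 0 1) rfl]; rfl),
    para3_single (inv_mem hm), Matrix.mulVec_single_one]
  show 1 + vecMulVec (fun i => M i 0) _ = _
  rw [hM]
  exact (col_val ![v₁, v₂, v₃, 0] rfl).symm

/-- The elements of the last column outside the centre are conjugate in the centralizer model. -/
theorem col_class {b c₁ c₂ : ZMod 3} (h : ¬ (c₁ = 0 ∧ c₂ = 0)) :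
    ∃ k ∈ cm, k * uEl 0 0 0 0 1 0 * k⁻¹ = uEl 0 0 b 0 c₁ c₂ := by
  obtain ⟨M, hdet, hrow, hcol, hM⟩ : ∃ M : Matrix (Fin 4) (Fin 4) (ZMod 3), M.det = 1 ∧
      (∀ j, M 3 j = (1 : Matrix (Fin 4) (Fin 4) (ZMod 3)) 3 j) ∧
      (∀ i, M i 0 = (1 : Matrix (Fin 4) (Fin 4) (ZMod 3)) i 0) ∧ (fun i => M i 1) = ![b, c₁, c₂, 0] := by
    by_cases h₁ : c₁ = 0
    · refine ⟨!![1, b, 0, 0; 0, 0, -c₂, 0; 0, c₂, 0, 0; 0, 0, 0, 1], ?_, ?_, ?_, ?_⟩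
      · subst h₁
        revert b c₂
        decide +kernel
      · intro j; fin_cases j <;> simp <;> rfl
      · intro i; fin_cases i <;> simp <;> rfl
      · subst h₁; ext i; fin_cases i <;> simp
    · refine ⟨!![1, b, 0, 0; 0, c₁, 0, 0; 0, c₂, c₁, 0; 0, 0, 0, 1], ?_, ?_, ?_, ?_⟩
      · revert b c₁ c₂
        decide +kernel
      · intro j; fin_cases j <;> simp <;> rfl
      · intro i; fin_cases i <;> simp <;> rfl
      · ext i; fin_cases i <;> simp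
  let m : SL4 := ⟨M, hdet⟩
  have hm : m ∈ cm := ⟨hcol, hrow⟩
  refine ⟨m, hm, Subtype.ext ?_⟩
  rw [conj_val m _ (Pi.single 1 1) (Pi.single 3 1) (by
      rw [coe_uEl, ← col_val (Pi.single 1 1) rfl]; rfl),
    para3_single (inv_mem hm.2), Matrix.mulVec_single_one]
  show 1 + vecMulVec (fun i => M i 1) _ = _
  rw [hM]
  exact (col_val ![b, c₁, c₂, 0] rfl).symm

/-- An element of order three commuting with an element outside the radical is upper unitriangular. -/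
theorem mem_uGrp_of_comm {q : SL4} (hq : q ∈ cm) (h3 : q ^ 3 = 1) {a₁ a₂ b e c₁ c₂ : ZMod 3} (he : e ≠ 0)
    (h : q * uEl a₁ a₂ b e c₁ c₂ = uEl a₁ a₂ b e c₁ c₂ * q) : q ∈ uGrp := by
  have h00 : q.1 0 0 = 1 := by simpa using hq.1 0
  have h10 : q.1 1 0 = 0 := by simpa using hq.1 1
  have h20 : q.1 2 0 = 0 := by simpa using hq.1 2
  have h30 : q.1 3 0 = 0 := by simpa using hq.1 3
  have h31 : q.1 3 1 = 0 := by simpa using hq.2 1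
  have h32 : q.1 3 2 = 0 := by simpa using hq.2 2
  have h33 : q.1 3 3 = 1 := by simpa using hq.2 3
  have e22 := congrFun (congrFun (congrArg Subtype.val h) 2) 2
  have e12 := congrFun (congrFun (congrArg Subtype.val h) 1) 2
  simp [Matrix.mul_apply, Fin.sum_univ_four, coe_uEl, uMat, h20, h32, he] at e22
  simp [Matrix.mul_apply, Fin.sum_univ_four, coe_uEl, uMat, h10, h32] at e12
  have h11 : q.1 1 1 = q.1 2 2 := mul_right_cancel₀ he (by linear_combination e12)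
  have ec : (q.1 * q.1 * q.1) 1 1 = 1 := by
    have := congrFun (congrFun (congrArg Subtype.val h3) 1) 1
    rw [pow_succ, pow_two, Matrix.SpecialLinearGroup.coe_mul, Matrix.SpecialLinearGroup.coe_mul] at this
    simpa using this
  simp [Matrix.mul_apply, Fin.sum_univ_four, h10, h20, h30, e22, h31] at ec
  have hcube : ∀ a : ZMod 3, a * a * a = 1 → a = 1 := by decide
  have h11' := hcube _ ec
  have h22' : q.1 2 2 = 1 := h11.symm.trans h11'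
  refine ⟨q.1 0 1, q.1 0 2, q.1 0 3, q.1 1 2, q.1 1 3, q.1 2 3, Subtype.ext ?_⟩
  rw [coe_uEl]
  ext i j
  fin_cases i <;> fin_cases j <;> simp [uMat, h00, h10, h20, h30, h31, h32, h33, e22, h11', h22']

end CfsgLib.LFourThree.ZF
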