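import Cfsg.Agent.Lib.LFourThree.Plane
import Cfsg.Agent.Lib.LFourThree.Cent
import Cfsg.Agent.Lib.LFourThree.ZFusionModel

/-!
The normaliser of the meet as the parabolic `3^3 : SL(3,3)`.
-/

set_option autoImplicit false
set_option linter.style.haveILetI false

namespace CfsgLib.LFourThree

open Matrix CfsgLib.LFourThree.Count

/-- The tail of the first row. -/
def tail (g : para) : Fin 3 → ZMod 3 := fun j => g.1.1 0 j.succ

theorem tail_mul (g h : para) : tail (g * h) = tail h + tail g ᵥ* (lower h).1 := by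
  funext j
  show (g.1.1 * h.1.1) 0 j.succ = _
  rw [Matrix.mul_apply, Fin.sum_univ_succ, para_apply g 0, Matrix.one_apply_eq, one_mul]
  rfl

theorem lower_eq_one_iff {g : para} : lower g = 1 ↔ (g : SL4) ∈ rowGrp := by
  rw [ZF.mem_rowGrp]
  constructor
  · intro h
    refine ⟨tail g 0, tail g 1, tail g 2, Subtype.ext ?_⟩
    have hl : ∀ i j : Fin 3, g.1.1 i.succ j.succ = (1 : Matrix (Fin 3) (Fin 3) (ZMod 3)) i j := fun i j =>
      congrFun (congrFun (congrArg Subtype.val h) i) j
    rw [ZF.coe_uEl]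
    ext i j
    induction j using Fin.cases with
    | zero => rw [para_apply g i]; fin_cases i <;> rfl
    | succ j =>
      induction i using Fin.cases with
      | zero => fin_cases j <;> rfl
      | succ i => rw [hl i j]; fin_cases i <;> fin_cases j <;> rfl
  · rintro ⟨a₁, a₂, b, e⟩
    refine Subtype.ext ?_
    show g.1.1.submatrix Fin.succ Fin.succ = 1
    rw [e, ZF.coe_uEl]
    ext i j
    fin_cases i <;> fin_cases j <;> rfl

variable {G : Type*} [Group G] [Finite G]

/-- The affine group on an elementary abelian group of order 27 with a complement of the order of `SL(3,3)`. -/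
theorem affine {E K : Subgroup G} (ι : (Fin 3 → ZMod 3) → G) (hadd : ∀ r r', ι (r + r') = ι r * ι r')
    (hinj : Function.Injective ι) (hE : ∀ x, x ∈ E ↔ ∃ r, ι r = x)
    (hcent : Subgroup.centralizer (E : Set G) ≤ E) (hK : K ≤ Subgroup.normalizer (E : Set G))
    (hKE : ∀ x ∈ K, x ∈ E → x = 1)
    (hspl : ∀ n ∈ Subgroup.normalizer (E : Set G), ∃ e ∈ E, ∃ k ∈ K, n = e * k)
    (hcard : Nat.card (Subgroup.normalizer (E : Set G)) = 151632) :
    ∃ θ : para →* G, Function.Injective θ ∧ θ.range = Subgroup.normalizer (E : Set G) ∧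
      (∀ g, θ g ∈ E ↔ lower g = 1) ∧ ∀ g, lower g = 1 → θ g = ι (tail g) := by
  classical
  have hι0 : ι 0 = 1 := by
    have h := hadd 0 0
    rwa [add_zero, left_eq_mul] at h
  have hιE : ∀ r, ι r ∈ E := fun r => (hE _).2 ⟨r, rfl⟩
  -- the action of the complement
  have hex : ∀ (k : K) (r : Fin 3 → ZMod 3), ∃ r', ι r' = (k : G)⁻¹ * ι r * k := fun k r => by
    refine (hE _).1 ?_
    have h := (Subgroup.mem_normalizer_iff.1 (inv_mem (hK k.2)) (ι r)).1 (hιE r)
    rwa [inv_inv] at h
  choose act hact using hex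
  have hact_add : ∀ k r r', act k (r + r') = act k r + act k r' := fun k r r' => hinj (by
    rw [hadd, hact, hact, hact, hadd]; group)
  let L : K → (Fin 3 → ZMod 3) →ₗ[ZMod 3] (Fin 3 → ZMod 3) := fun k =>
    (AddMonoidHom.mk' (act k) (hact_add k)).toZModLinearMap 3
  let M : K → Matrix (Fin 3) (Fin 3) (ZMod 3) := fun k => (LinearMap.toMatrix' (L k))ᵀ
  have hM : ∀ k r, ι (r ᵥ* M k) = (k : G)⁻¹ * ι r * k := fun k r => by
    rw [← hact k r]
    congr 1
    show r ᵥ* (LinearMap.toMatrix' (L k))ᵀ = L k r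
    rw [Matrix.vecMul_transpose, LinearMap.toMatrix'_mulVec]
  have hM_ext : ∀ A B : Matrix (Fin 3) (Fin 3) (ZMod 3), (∀ r, ι (r ᵥ* A) = ι (r ᵥ* B)) → A = B := fun A B h => by
    funext i
    have := hinj (h (Pi.single i 1))
    rwa [Matrix.single_one_vecMul, Matrix.single_one_vecMul] at this
  have hM_mul : ∀ k l : K, M (k * l) = M k * M l := fun k l => hM_ext _ _ fun r => by
    rw [← Matrix.vecMul_vecMul, hM, hM, hM, Subgroup.coe_mul]; group
  have hM_one : M 1 = 1 := hM_ext _ _ fun r => by rw [Matrix.vecMul_one, hM, OneMemClass.coe_one]; group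
  have hM_inj : ∀ k, M k = 1 → k = 1 := fun k h => Subtype.ext (hKE _ k.2 (hcent (by
    rw [Subgroup.mem_centralizer_iff]
    intro x hx
    obtain ⟨r, rfl⟩ := (hE x).1 hx
    have h1 := hM k r
    rw [h, Matrix.vecMul_one] at h1
    nth_rewrite 2 [h1]
    group)))
  -- the order of the complement
  have hcK : Nat.card K = 5616 := by
    let m : (Fin 3 → ZMod 3) × K → Subgroup.normalizer (E : Set G) := fun p =>
      ⟨ι p.1 * p.2, mul_mem (Subgroup.le_normalizer (hιE _)) (hK p.2.2)⟩
    have hm : Function.Bijective m := by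
      constructor
      · rintro ⟨r, k⟩ ⟨r', k'⟩ h
        have h' : ι r * (k : G) = ι r' * k' := congrArg Subtype.val h
        have hk : (k : G) * (k' : G)⁻¹ = (ι r)⁻¹ * ι r' := by
          rw [eq_inv_mul_iff_mul_eq, ← mul_assoc, h']; group
        have h1 := hKE _ (mul_mem k.2 (inv_mem k'.2)) (hk ▸ mul_mem (inv_mem (hιE r)) (hιE r'))
        rw [mul_inv_eq_one] at h1
        rw [h1] at h'
        exact Prod.ext (hinj (mul_right_cancel h')) (Subtype.ext h1)
      · rintro ⟨n, hn⟩
        obtain ⟨e, he, k, hk, rfl⟩ := hspl n hn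
        obtain ⟨r, rfl⟩ := (hE e).1 he
        exact ⟨(r, ⟨k, hk⟩), rfl⟩
    have h := Nat.card_eq_of_bijective m hm
    rw [hcard, Nat.card_prod, Nat.card_fun, Nat.card_zmod, Nat.card_eq_fintype_card, Fintype.card_fin] at h
    omega
  -- the determinant
  let Mh : K →* Matrix (Fin 3) (Fin 3) (ZMod 3) := { toFun := M, map_one' := hM_one, map_mul' := hM_mul }
  let D : K →* (ZMod 3)ˣ := (Matrix.detMonoidHom.comp Mh).toHomUnits
  have hD : ∀ k, (D k : ZMod 3) = (M k).det := fun k => rfl
  let σ0 : D.ker →* Matrix.SpecialLinearGroup (Fin 3) (ZMod 3) :=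
    { toFun := fun k => ⟨M k.1, by rw [← hD, MonoidHom.mem_ker.1 k.2]; rfl⟩
      map_one' := Subtype.ext hM_one
      map_mul' := fun a b => Subtype.ext (hM_mul a.1 b.1) }
  have hσ0 : Function.Injective σ0 := (injective_iff_map_eq_one σ0).2 fun k h =>
    Subtype.ext (hM_inj _ (congrArg Subtype.val h))
  have hSL := CfsgLib.CommGraph.natCard_SL33
  have hker : Nat.card D.ker = 5616 := by
    have h1 := D.ker.card_mul_index
    rw [Subgroup.index_ker, hcK] at h1
    have h2 : Nat.card D.range ≤ 2 := by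
      refine (Subgroup.card_le_card_group _).trans (le_of_eq ?_)
      rw [Nat.card_eq_fintype_card, ZMod.card_units]
    have h3 : 2808 ≤ Nat.card D.ker := by nlinarith
    have hR : Nat.card σ0.range = Nat.card D.ker := (Nat.card_congr (MonoidHom.ofInjective hσ0).toEquiv).symm
    have htop : σ0.range = ⊤ := by
      have h4 := σ0.range.card_mul_index
      rw [hR, hSL] at h4
      rcases (show σ0.range.index = 1 ∨ σ0.range.index = 2 by
        have : σ0.range.index ≤ 2 := by
          by_contra hc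
          have : Nat.card D.ker * 3 ≤ 5616 := h4 ▸ Nat.mul_le_mul_left _ (by omega)
          omega
        have : σ0.range.index ≠ 0 := fun e => by simp [e] at h4
        omega) with e | e
      · exact Subgroup.index_eq_one.1 e
      · exfalso
        haveI := Subgroup.normal_of_index_eq_two e
        haveI := CfsgLib.CommGraph.simple_SL33
        rcases Subgroup.Normal.eq_bot_or_eq_top (H := σ0.range) inferInstance with e' | e'
        · rw [e', Subgroup.index_bot, hSL] at e; omega
        · rw [e', Subgroup.index_top] at e; omega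
    rw [htop, Subgroup.card_top, hSL] at hR
    exact hR.symm
  have hdet : ∀ k, (M k).det = 1 := fun k => by
    have ht : D.ker = ⊤ := Subgroup.eq_top_of_card_eq _ (by rw [hker, hcK])
    rw [← hD, MonoidHom.mem_ker.1 (ht ▸ Subgroup.mem_top k : k ∈ D.ker)]; rfl
  let σ : K →* Matrix.SpecialLinearGroup (Fin 3) (ZMod 3) :=
    { toFun := fun k => ⟨M k, hdet k⟩, map_one' := Subtype.ext hM_one, map_mul' := fun a b => Subtype.ext (hM_mul a b) }
  have hσ : Function.Bijective σ := by
    have hi : Function.Injective σ := (injective_iff_map_eq_one σ).2 fun k h => hM_inj _ (congrArg Subtype.val h)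
    exact hi.bijective_of_nat_card_le (by rw [hcK, hSL])
  let e := MulEquiv.ofBijective σ hσ
  have hκ : ∀ (A : Matrix.SpecialLinearGroup (Fin 3) (ZMod 3)) r,
      ι (r ᵥ* A.1) = ((e.symm A : K) : G)⁻¹ * ι r * (e.symm A : K) := fun A r => by
    rw [← hM, show M (e.symm A) = A.1 from congrArg Subtype.val (e.apply_symm_apply A)]
  let θ : para →* G :=
    MonoidHom.mk' (fun g => ((e.symm (lower g) : K) : G) * ι (tail g)) fun g h => by
      rw [map_mul, map_mul, Subgroup.coe_mul, tail_mul, add_comm, hadd, hκ]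
      group
  have hθ : ∀ g, θ g ∈ E ↔ lower g = 1 := fun g => by
    constructor
    · intro h
      have h' : ((e.symm (lower g) : K) : G) ∈ E := by
        have := mul_mem h (inv_mem (hιE (tail g)))
        simpa [θ] using this
      have := hKE _ (e.symm (lower g)).2 h'
      exact e.symm.injective (Subtype.ext (this.trans (by rw [map_one]; rfl)))
    · intro h
      show ((e.symm (lower g) : K) : G) * ι (tail g) ∈ E
      rw [h, map_one, OneMemClass.coe_one, one_mul]
      exact hιE _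
  have hinjθ : Function.Injective θ := (injective_iff_map_eq_one θ).2 fun g h => by
    have hl := (hθ g).1 (h ▸ one_mem E)
    have h' : ι (tail g) = 1 := by
      have : ((e.symm (lower g) : K) : G) * ι (tail g) = 1 := h
      rwa [hl, map_one, OneMemClass.coe_one, one_mul] at this
    have ht : tail g = 0 := hinj (h'.trans hι0.symm)
    apply paraEquiv.injective
    show (tail g, lower g) = (tail 1, lower 1)
    rw [hl, map_one, ht]
    exact Prod.ext (funext fun j => by fin_cases j <;> rfl) rfl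
  refine ⟨θ, hinjθ, Subgroup.eq_of_le_of_card_ge ?_ ?_, hθ, fun g h => ?_⟩
  · rintro _ ⟨g, rfl⟩
    exact mul_mem (hK (e.symm (lower g)).2) (Subgroup.le_normalizer (hιE _))
  · rw [hcard, ← Nat.card_congr (MonoidHom.ofInjective hinjθ).toEquiv, card_para]
  · show ((e.symm (lower g) : K) : G) * ι (tail g) = _
    rw [h, map_one, OneMemClass.coe_one, one_mul]

/-- The parabolic of a pair. -/
theorem Pair.exists_theta {z w s : G} {Q Q' : Subgroup G} {π : Subgroup.centralizer ({z} : Set G) →* S2}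
    {π' : Subgroup.centralizer ({w} : Set G) →* S2} (P : Pair z w s Q Q' π π') :
    ∃ θ : para →* G, Function.Injective θ ∧ θ.range = Subgroup.normalizer ((Q ⊓ Q' : Subgroup G) : Set G) ∧
      θ ⟨zmat, zmat_mem_para⟩ = z ∧ (∀ g : para, θ g ∈ Q ⊓ Q' ↔ (g : SL4) ∈ rowGrp) ∧
      (∀ x ∈ Q ⊓ Q', x ≠ 1 → ∃ n ∈ θ.range, n * z * n⁻¹ = x) := by
  haveI := P.L.zq_normal
  letI := P.L.addCommGroup
  obtain ⟨w1, hw1, hcls⟩ := P.exists_w1
  obtain ⟨K, hK, hKE, hspl⟩ := P.exists_compl
  let ι : (Fin 3 → ZMod 3) → G := fun r => z ^ (r 2).val * w ^ (r 0).val * (w1 : G) ^ (r 1).val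
  have hιE : ∀ r, ι r ∈ Q ⊓ Q' := fun r =>
    mul_mem (mul_mem (pow_mem P.z_mem _) (pow_mem P.w_mem _)) (pow_mem hw1 _)
  have hadd : ∀ r r', ι (r + r') = ι r * ι r' := by
    intro r r'
    have hp : ∀ (x : G), x ∈ Q → ∀ a b : ZMod 3, x ^ (a + b).val = x ^ a.val * x ^ b.val := fun x hx a b => by
      conv_rhs => rw [← pow_add, ← Nat.mod_add_div (a.val + b.val) 3, pow_add, pow_mul, P.L.exp x hx, one_pow, mul_one]
      rw [ZMod.val_add]
    have c1 : Commute (w ^ (r' 0).val) ((w1 : G) ^ (r 1).val) := P.abel _ (pow_mem P.w_mem _) _ (pow_mem hw1 _)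
    have c2 : Commute (z ^ (r' 2).val) (w ^ (r 0).val * (w1 : G) ^ (r 1).val) :=
      P.abel _ (pow_mem P.z_mem _) _ (mul_mem (pow_mem P.w_mem _) (pow_mem hw1 _))
    simp only [ι, Pi.add_apply, hp z P.L.zmem, hp w P.hw, hp _ w1.2]
    calc z ^ (r 2).val * z ^ (r' 2).val * (w ^ (r 0).val * w ^ (r' 0).val) * ((w1 : G) ^ (r 1).val * (w1 : G) ^ (r' 1).val)
        = z ^ (r 2).val * z ^ (r' 2).val * w ^ (r 0).val * (w ^ (r' 0).val * (w1 : G) ^ (r 1).val) * (w1 : G) ^ (r' 1).val := by group
      _ = z ^ (r 2).val * (z ^ (r' 2).val * (w ^ (r 0).val * (w1 : G) ^ (r 1).val)) * w ^ (r' 0).val * (w1 : G) ^ (r' 1).val := by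
          rw [c1.eq]; group
      _ = _ := by rw [c2.eq]; group
  have hsurj : ∀ x ∈ Q ⊓ Q', ∃ r, ι r = x := fun x hx => by
    obtain ⟨a, b, c, rfl⟩ := P.mem_span hw1 hcls x hx
    have hv : ∀ a : Fin 3, ((a.val : ℕ) : ZMod 3).val = a.val := fun a => ZMod.val_cast_of_lt a.2
    exact ⟨![(b.val : ZMod 3), (c.val : ZMod 3), (a.val : ZMod 3)], by simp only [ι]; simp [hv]⟩
  have hinj : Function.Injective ι := by
    let f : (Fin 3 → ZMod 3) → (Q ⊓ Q' : Subgroup G) := fun r => ⟨ι r, hιE r⟩
    have hf : Function.Surjective f := fun x => by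
      obtain ⟨r, hr⟩ := hsurj x x.2
      exact ⟨r, Subtype.ext hr⟩
    have hb := hf.bijective_of_nat_card_le (by rw [P.card]; simp)
    exact fun r r' h => hb.1 (Subtype.ext h)
  obtain ⟨θ, h1, h2, h3, h4⟩ := affine (E := Q ⊓ Q') ι hadd hinj
    (fun x => ⟨hsurj x, fun ⟨r, hr⟩ => hr ▸ hιE r⟩) P.cent_le hK hKE hspl P.card_norm
  refine ⟨θ, h1, h2, ?_, fun g => (h3 g).trans lower_eq_one_iff, fun x hx hx1 => ?_⟩
  · have hz : (zmat : SL4) ∈ rowGrp := Subgroup.subset_closure (by simp [zmat])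
    rw [h4 _ (lower_eq_one_iff.2 hz)]
    have ht : ∀ j : Fin 3, zmat.1 0 j.succ = (![0, 0, 1] : Fin 3 → ZMod 3) j := by decide +kernel
    simp only [ι, tail, ht]
    simp [ZMod.val_one]
  · obtain ⟨n, hn, hne⟩ := P.trans hx hx1
    exact ⟨n, h2 ▸ hn, hne⟩

end CfsgLib.LFourThree
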