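import Cfsg.Agent.Lib.LFourThree.StrongII.CentV

/-!
A copy of `PSL(4,3)` containing the centraliser of a root element, and controlling it, contains the centraliser
of every element of order three and controls all of them.
-/

set_option autoImplicit false
set_option maxRecDepth 100000
set_option linter.style.haveILetI false
set_option linter.unusedSectionVars false

namespace CfsgLib.LFourThree

open Matrix StrongII

namespace StrongII

/-- `diag (1,1,1,-1)`. -/
def dFlip : Matrix (Fin 4) (Fin 4) (ZMod 3) := Matrix.diagonal ![1, 1, 1, -1]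

theorem dFlip_facts : dFlip * dFlip = 1 ∧ dFlip.det * dFlip.det = 1 := by decide +kernel

/-- Conjugation by `diag (1,1,1,-1)`. -/
def flipHom : SL4 →* SL4 :=
  MonoidHom.mk' (fun g => ⟨dFlip * g.1 * dFlip, by
    rw [Matrix.det_mul, Matrix.det_mul, g.2, mul_one, dFlip_facts.2]⟩) fun g h => Subtype.ext (by
    show dFlip * (g.1 * h.1) * dFlip = dFlip * g.1 * dFlip * (dFlip * h.1 * dFlip)
    calc dFlip * (g.1 * h.1) * dFlip = dFlip * g.1 * (dFlip * dFlip) * h.1 * dFlip := by
          rw [dFlip_facts.1, mul_one]; simp only [mul_assoc]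
      _ = _ := by simp only [mul_assoc])

theorem flipHom_invol (g : SL4) : flipHom (flipHom g) = g := Subtype.ext (by
  show dFlip * (dFlip * g.1 * dFlip) * dFlip = g.1
  calc dFlip * (dFlip * g.1 * dFlip) * dFlip = dFlip * dFlip * g.1 * (dFlip * dFlip) := by simp only [mul_assoc]
    _ = g.1 := by rw [dFlip_facts.1, one_mul, mul_one])

theorem flip_vals : (flipHom pRep).1 = mRep.1 ∧ (flipHom zRep).1 = (root 0 3 (-1)).1 ∧
    (root 0 3 (-1) * root 0 3 1).1 = 1 := by decide +kernel

theorem flip_center (g : SL4) : flipHom g ∈ Subgroup.center SL4 ↔ g ∈ Subgroup.center SL4 := by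
  have key : ∀ g : SL4, g ∈ Subgroup.center SL4 → flipHom g ∈ Subgroup.center SL4 := fun g hg =>
    Subgroup.mem_center_iff.2 fun h => by
      rw [← flipHom_invol h, ← map_mul, ← map_mul, Subgroup.mem_center_iff.1 hg]
  exact ⟨fun h => by simpa [flipHom_invol] using key _ h, key g⟩

variable {G : Type*} [Group G] {φ : SL4 →* G}

theorem Ctx.flip (D : Ctx φ) : Ctx (φ.comp flipHom) where
  ker := by
    ext g
    rw [MonoidHom.mem_ker, MonoidHom.comp_apply, phi_eq_one D, flip_center]
  zt := by
    intro g hg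
    have hr : (φ.comp flipHom).range = φ.range := by
      ext y
      exact ⟨fun ⟨s, hs⟩ => ⟨flipHom s, hs⟩, fun ⟨s, hs⟩ => ⟨flipHom s, by
        rw [MonoidHom.comp_apply, flipHom_invol, hs]⟩⟩
    rw [hr] at hg ⊢
    refine D.zt g ?_
    have e : φ (flipHom (root 0 3 1)) = (φ (root 0 3 1))⁻¹ := by
      rw [show flipHom (root 0 3 1) = root 0 3 (-1) from Subtype.ext flip_vals.2.1]
      exact eq_inv_of_mul_eq_one_left (by
        rw [← map_mul, show root 0 3 (-1) * root 0 3 1 = (1 : SL4) from Subtype.ext flip_vals.2.2, map_one])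
    rw [MonoidHom.comp_apply, e] at hg
    have := inv_mem hg
    simpa [mul_assoc] using this

variable [Finite G]

theorem cent_m (D : Ctx φ) : Subgroup.centralizer ({φ mRep} : Set G) ≤ φ.range := by
  have h := cent_p (Ctx.flip D)
  rw [MonoidHom.comp_apply, show flipHom pRep = mRep from Subtype.ext flip_vals.1] at h
  refine h.trans ?_
  rintro _ ⟨s, rfl⟩
  exact ⟨flipHom s, rfl⟩

theorem rep_comm : (zRep * uRep).1 = (uRep * zRep).1 ∧ (zRep * pRep).1 = (pRep * zRep).1 ∧
    (zRep * mRep).1 = (mRep * zRep).1 := by decide +kernel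

/-- An element of order three: its centraliser and a root element commuting with it. -/
theorem elem_three (D : Ctx φ) {x : G} (hx : x ∈ φ.range) (h3 : orderOf x = 3) :
    Subgroup.centralizer ({x} : Set G) ≤ φ.range ∧
      ∃ z₁ : SL4, ZT φ z₁ ∧ φ z₁ * x = x * φ z₁ := by
  obtain ⟨s, rfl, hs⟩ := lift_three D hx (by rw [← h3, pow_orderOf_eq_one])
  have main : ∀ a r : SL4, a * s * a⁻¹ = r → Subgroup.centralizer ({φ r} : Set G) ≤ φ.range →
      zRep * r = r * zRep → Subgroup.centralizer ({φ s} : Set G) ≤ φ.range ∧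
        ∃ z₁ : SL4, ZT φ z₁ ∧ φ z₁ * φ s = φ s * φ z₁ := by
    intro a r he hC hz
    have hs' : s = a⁻¹ * r * a := by rw [← he]; group
    refine ⟨fun c hc => ?_, a⁻¹ * zRep * a, ZT.of_conj (a := a) (y := zRep) (by group) (zt_zRep D), ?_⟩
    · have h1 : φ a * c * (φ a)⁻¹ ∈ φ.range := hC (Subgroup.mem_centralizer_singleton_iff.2 (by
        rw [← he, map_mul, map_mul, map_inv, conj_mul, conj_mul,
          Subgroup.mem_centralizer_singleton_iff.1 hc]))
      simpa [mul_assoc] using mul_mem (mul_mem (inv_mem (show φ a ∈ φ.range from ⟨a, rfl⟩)) h1)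
        (show φ a ∈ φ.range from ⟨a, rfl⟩)
    · rw [← map_mul, ← map_mul, hs']
      have key : a⁻¹ * zRep * a * (a⁻¹ * r * a) = a⁻¹ * r * a * (a⁻¹ * zRep * a) := by
        calc a⁻¹ * zRep * a * (a⁻¹ * r * a) = a⁻¹ * (zRep * r) * a := by group
          _ = a⁻¹ * (r * zRep) * a := by rw [hz]
          _ = _ := by group
      rw [key]
  rcases classify hs with rfl | ⟨a, h | h | h | h⟩
  · rw [map_one, orderOf_one] at h3
    norm_num at h3
  · exact main a _ h (zt_zRep D).centralizer_le rfl
  · exact main a _ h (cent_u_le D) (Subtype.ext rep_comm.1)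
  · exact main a _ h (cent_p D) (Subtype.ext rep_comm.2.1)
  · exact main a _ h (cent_m D) (Subtype.ext rep_comm.2.2)

end StrongII

/-- Control of a root element in a copy of `PSL(4,3)` gives control of all elements of order three. -/
theorem strong_psl {G : Type*} [Group G] [Finite G] (φ : SL4 →* G) (hker : φ.ker = Subgroup.center SL4)
    (hz : ∀ g, g * φ (root 0 3 1) * g⁻¹ ∈ φ.range → g ∈ φ.range) : Strong φ.range := by
  have D : Ctx φ := ⟨hker, hz⟩
  intro x hx h3 g hg
  obtain ⟨-, z₁, hz₁, hc⟩ := elem_three D hx h3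
  have h3' : orderOf (g * x * g⁻¹) = 3 := (orderOf_injective (MulAut.conj g).toMonoidHom
    (MulAut.conj g).injective x).trans h3
  refine hz₁ g ((elem_three D hg h3').1 (Subgroup.mem_centralizer_singleton_iff.2 ?_))
  rw [conj_mul, conj_mul, hc]

end CfsgLib.LFourThree
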