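import Cfsg.Agent.Lib.LFourThree.CaseTwo
import Cfsg.Agent.Lib.LFourThree.StrongII

/-!
A group with the 3-local structure of `PSL(4,3)` is `PSL(4,3)` or its parabolic `3^3 : SL(3,3)`.
-/

set_option autoImplicit false

namespace CfsgLib.LFourThree

open CfsgLib.LFourThree.Setup CfsgLib.LFourThree.ZF

/-- The recognition from the centraliser of an element of order three. -/
theorem classify {G : Type*} [Group G] [Finite G] {z : G} {Q : Subgroup G}
    {π : Subgroup.centralizer ({z} : Set G) →* S2} (L : Local z Q π) (hsyl : ¬ 3 ^ 7 ∣ Nat.card G) {x : G}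
    (hx : x * z * x⁻¹ ∈ Q) (hxz : x * z * x⁻¹ ∉ Subgroup.zpowers z) :
    Nonempty (G ≃* Matrix.ProjectiveSpecialLinearGroup (Fin 4) (ZMod 3)) ∨
    ∃ (P : Subgroup (Matrix.ProjectiveSpecialLinearGroup (Fin 4) (ZMod 3))),
      IsCoatom P ∧ Nat.card (Cfsg.pCore 3 P) = 27 ∧
      Nonempty (P ⧸ Cfsg.pCore 3 P ≃* Matrix.SpecialLinearGroup (Fin 3) (ZMod 3)) ∧ Nonempty (G ≃* P) := by
  obtain ⟨t, ht, htz, hle, -⟩ := exists_t L hx hxz
  by_cases hI : ∀ g : G, g * z * g⁻¹ ∈ Q → g * z * g⁻¹ ∈ tImg t rowGrp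
  · exact Or.inr (case_one L hsyl ht htz hle hI)
  · push Not at hI
    obtain ⟨g₀, hg₀, hg₀'⟩ := hI
    obtain ⟨φ, hker, hz⟩ := exists_phi L hsyl ht htz hle hg₀ hg₀'
    exact Or.inl (case_two φ hker (strong_psl φ hker fun g hg => hz g hg))

end CfsgLib.LFourThree
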