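import Mathlib
import Cfsg.Agent.Lib.Schur.SLRank

/-!
Models and predicates for the 3-local recognition of `PSL(4,3)`.
-/

set_option autoImplicit false

namespace CfsgLib.LFourThree

open Matrix

/-- `SL(4,3)`. -/
abbrev SL4 : Type := Matrix.SpecialLinearGroup (Fin 4) (ZMod 3)

/-- `PSL(4,3)`. -/
abbrev PL4 : Type := Matrix.ProjectiveSpecialLinearGroup (Fin 4) (ZMod 3)

/-- The projection. -/
def mk : SL4 →* PL4 := QuotientGroup.mk' (Subgroup.center SL4)

/-- The root element `1 + c E_{ij}`. -/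
def root (i j : Fin 4) (c : ZMod 3) : SL4 := CfsgLib.Schur.SLFam.tv i j c

/-- The parabolic `3^3 : SL(3,3)`: the matrices with first column `e_0`. -/
def para : Subgroup SL4 where
  carrier := {g | ∀ i, g.1 i 0 = (1 : Matrix (Fin 4) (Fin 4) (ZMod 3)) i 0}
  one_mem' := fun _ => rfl
  mul_mem' := by
    intro a b ha hb i
    simp only [Set.mem_ofPred_eq] at ha hb
    show (a.1 * b.1) i 0 = _
    rw [Matrix.mul_apply]
    simp only [hb, Matrix.one_apply, mul_ite, mul_one, mul_zero, Finset.sum_ite_eq', Finset.mem_univ, if_true]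
    simpa [Matrix.one_apply] using ha i
  inv_mem' := by
    intro a ha i
    simp only [Set.mem_ofPred_eq] at ha
    have h : ((a⁻¹).1 * a.1) i 0 = (1 : Matrix (Fin 4) (Fin 4) (ZMod 3)) i 0 := by
      have := congrArg Subtype.val (inv_mul_cancel a)
      exact congrFun (congrFun this i) 0
    rw [Matrix.mul_apply] at h
    simpa [ha, Matrix.one_apply] using h

/-- `diag (1,-1,-1,1)`. -/
def dmat : SL4 := ⟨Matrix.diagonal ![1, -1, -1, 1], by decide +kernel⟩

/-- `dmat` as an element of the parabolic. -/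
def dpara : para :=
  ⟨dmat, show ∀ i, dmat.1 i 0 = (1 : Matrix (Fin 4) (Fin 4) (ZMod 3)) i 0 by decide +kernel⟩

variable {G : Type*} [Group G]

/-- A subgroup which is strongly 3-embedded in the weak sense. -/
def Strong (G₀ : Subgroup G) : Prop :=
  ∀ x ∈ G₀, orderOf x = 3 → ∀ g : G, g * x * g⁻¹ ∈ G₀ → g ∈ G₀

theorem Strong.centralizer_le {G₀ : Subgroup G} (h : Strong G₀) {x : G} (hx : x ∈ G₀) (h3 : orderOf x = 3) :
    Subgroup.centralizer ({x} : Set G) ≤ G₀ := fun g hg => h x hx h3 g (by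
  rw [(Subgroup.mem_centralizer_singleton_iff.1 hg), mul_inv_cancel_right]; exact hx)

end CfsgLib.LFourThree
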