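import Mathlib
import Cfsg.Agent.Lib.LFourThree.Cent

/-!
Computable model of the centraliser of `diag (1,-1,-1,1)`: pairs of `2 × 2` blocks on the
coordinates `(0,3)` and `(1,2)`, possibly preceded by the exchange of the two planes.
-/

set_option autoImplicit false
set_option maxRecDepth 100000
set_option synthInstance.maxSize 2000

namespace CfsgLib.LFourThree.Blocks

open Count

/-- A `2 × 2` matrix. -/
abbrev Q : Type := ZMod 3 × ZMod 3 × ZMod 3 × ZMod 3

def qmul : Q → Q → Q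
  | (a, b, c, d), (a', b', c', d') => (a * a' + b * c', a * b' + b * d', c * a' + d * c', c * b' + d * d')

def qneg : Q → Q
  | (a, b, c, d) => (-a, -b, -c, -d)

def qdet : Q → ZMod 3
  | (a, b, c, d) => a * d - b * c

def qadj : Q → Q
  | (a, b, c, d) => (d, -b, -c, a)

def qone : Q := (1, 0, 0, 1)
def qi : Q := (0, -1, 1, 0)
def qj : Q := (1, 1, 1, -1)
def qk : Q := qmul qi qj
def qt (c : ZMod 3) : Q := (1, c, 0, 1)
def qdelta : Q := (1, 0, 0, -1)

/-- The label of the axis of a quaternion. -/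
def label (q : Q) : ZMod 3 :=
  if q = qi ∨ q = qneg qi then 0 else if q = qj ∨ q = qneg qj then 1 else 2

/-- The translation part of the action on the three axes. -/
def shift (A : Q) : ZMod 3 := label (qmul (qmul A qi) (qadj A))

theorem qdet_mul : ∀ A B : Q, qdet (qmul A B) = qdet A * qdet B := by decide +kernel

theorem shift_mul : ∀ A B : Q, qdet A ≠ 0 → qdet B ≠ 0 →
    shift (qmul A B) = shift A + qdet A * shift B := by decide +kernel

theorem neg_invariants : ∀ A : Q, qdet A ≠ 0 → qdet (qneg A) = qdet A ∧ shift (qneg A) = shift A := by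
  decide +kernel

/-- The six quaternions of order four. -/
def quat : Fin 6 → Q := ![qi, qneg qi, qj, qneg qj, qk, qneg qk]

theorem sq_neg_one : ∀ A : Q, qmul A A = qneg qone →
    qdet A = 1 ∧ shift A = 0 ∧ ∃ n, quat n = A := by decide +kernel

theorem sq_one_det : ∀ A : Q, qmul A A = qone → qdet A = 1 → A = qone ∨ A = qneg qone := by decide +kernel

theorem kernel_pow_four : ∀ A : Q, qdet A = 1 → shift A = 0 →
    qmul (qmul A A) (qmul A A) = qone := by decide +kernel

theorem comm_inverse : ∀ A B : Q, (qmul A B = qone → qmul B A = qone) ∧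
    (qmul A B = qneg qone → qmul B A = qneg qone) := by decide +kernel

theorem shift_qt : ∀ c, qdet (qt c) = 1 ∧ shift (qt c) = c := by decide +kernel

theorem scalar_of_comm : ∀ A : Q, qdet A ≠ 0 → qmul A qi = qmul qi A → qmul A qj = qmul qj A →
    A = qone ∨ A = qneg qone := by decide +kernel

theorem not_fix_mul : ∀ A : Q, qdet A ≠ 0 →
    qmul A qi ≠ A ∧ qmul A qi ≠ qneg A ∧ qmul A qone ≠ qneg A ∧ qmul qone A ≠ qneg A ∧
      qmul A qone = A ∧ qmul qone A = A := by decide +kernel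

/-- An element of the model. -/
abbrev Blk : Type := Bool × Q × Q

def bmul : Blk → Blk → Blk
  | (s, A, B), (t, C, D) => if t then (!s, qmul B C, qmul A D) else (s, qmul A C, qmul B D)

def bneg : Blk → Blk
  | (s, A, B) => (s, qneg A, qneg B)

/-- The determinant condition. -/
def Ok (x : Blk) : Prop := qdet x.2.1 * qdet x.2.2 = 1

theorem ok_dets : ∀ a b : ZMod 3, a * b = 1 → a ≠ 0 ∧ b = a := by decide

theorem Ok.det_ne {x : Blk} (h : Ok x) : qdet x.2.1 ≠ 0 ∧ qdet x.2.2 ≠ 0 :=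
  ⟨(ok_dets _ _ h).1, (ok_dets _ _ h).2 ▸ (ok_dets _ _ h).1⟩

/-- The matrix of a model element. -/
def toM : Blk → M4
  | (false, (a, b, c, d), (e, f, g, h)) => !![a, 0, 0, b; 0, e, f, 0; 0, g, h, 0; c, 0, 0, d]
  | (true, (a, b, c, d), (e, f, g, h)) => !![0, e, f, 0; a, 0, 0, b; c, 0, 0, d; 0, g, h, 0]

theorem toM_bmul (x y : Blk) : toM (bmul x y) = toM x * toM y := by
  obtain ⟨s, ⟨a, b, c, d⟩, ⟨e, f, g, h⟩⟩ := x
  obtain ⟨t, ⟨a', b', c', d'⟩, ⟨e', f', g', h'⟩⟩ := y
  cases s <;> cases t <;>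
    (ext i j; fin_cases i <;> fin_cases j <;>
      simp [toM, bmul, qmul, Matrix.mul_apply, Fin.sum_univ_four, add_comm])

theorem toM_bneg (x : Blk) : toM (bneg x) = -toM x := by
  obtain ⟨s, ⟨a, b, c, d⟩, ⟨e, f, g, h⟩⟩ := x
  cases s <;> (ext i j; fin_cases i <;> fin_cases j <;> simp [toM, bneg, qneg])

/-- The entries of a model element. -/
def ofM (g : M4) : Blk :=
  if g 0 0 = 0 ∧ g 0 3 = 0 then (true, (g 1 0, g 1 3, g 2 0, g 2 3), (g 0 1, g 0 2, g 3 1, g 3 2))
  else (false, (g 0 0, g 0 3, g 3 0, g 3 3), (g 1 1, g 1 2, g 2 1, g 2 2))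

theorem row_ne : ∀ A : Q, qdet A ≠ 0 → ¬ (A.1 = 0 ∧ A.2.1 = 0) := by decide +kernel

theorem ofM_toM {x : Blk} (hx : Ok x) : ofM (toM x) = x := by
  have h := hx.det_ne
  obtain ⟨s, ⟨a, b, c, d⟩, ⟨e, f, g, k⟩⟩ := x
  have := row_ne _ h.1
  cases s <;> simp [ofM, toM] <;> simp_all

theorem toM_inj {x y : Blk} (hx : Ok x) (hy : Ok y) (h : toM x = toM y) : x = y := by
  rw [← ofM_toM hx, h, ofM_toM hy]

theorem Ok.mul {x y : Blk} (hx : Ok x) (hy : Ok y) : Ok (bmul x y) := by
  obtain ⟨s, A, B⟩ := x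
  obtain ⟨t, C, D⟩ := y
  unfold Ok at hx hy ⊢
  simp only at hx hy
  cases t <;> simp only [bmul, Bool.false_eq_true, if_false, if_true, qdet_mul] <;>
    linear_combination (qdet C * qdet D) * hx + hy

theorem Ok.neg {x : Blk} (hx : Ok x) : Ok (bneg x) := by
  obtain ⟨s, A, B⟩ := x
  unfold Ok at hx ⊢
  simp only [bneg]
  rw [(neg_invariants A (ok_dets _ _ hx).1).1,
    (neg_invariants B ((ok_dets _ _ hx).2 ▸ (ok_dets _ _ hx).1)).1]
  exact hx

/-- The affine permutation `x ↦ ε x + r` of the three points. -/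
def aff (ε r : ZMod 3) : Equiv.Perm (Fin 3) :=
  let r' : Fin 3 := r
  (Equiv.addLeft r' : Equiv.Perm (Fin 3)) * (if ε = 1 then (1 : Equiv.Perm (Fin 3)) else Equiv.neg (Fin 3))

/-- The two maps to the symmetric group on three points, from the invariants. -/
def pair (i : Bool) (s : Bool) (ε a b : ZMod 3) : Equiv.Perm (Fin 3) :=
  if i then (if s then aff (-ε) (a - b) else aff ε (b - a)) else aff ε (a + b)

theorem pair_mul : ∀ i s t : Bool, ∀ ε η a b c d : ZMod 3, ε ≠ 0 → η ≠ 0 →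
    pair i (if t then !s else s) (ε * η) ((if t then b else a) + ε * c) ((if t then a else b) + ε * d) =
      pair i s ε a b * pair i t η c d := by decide +kernel

theorem pair_eq_one : ∀ s : Bool, ∀ ε a b : ZMod 3, ε ≠ 0 → pair false s ε a b = 1 → pair true s ε a b = 1 →
    s = false ∧ ε = 1 ∧ a = 0 ∧ b = 0 := by decide +kernel

theorem pair_even : ∀ s : Bool, ∀ ε a b : ZMod 3, ε ≠ 0 → Equiv.Perm.sign (pair false s ε a b) = 1 →
    Equiv.Perm.sign (pair true s ε a b) = 1 → s = false ∧ ε = 1 := by decide +kernel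

/-- The two maps on the model. -/
def bpi (i : Bool) : Blk → Equiv.Perm (Fin 3)
  | (s, A, B) => pair i s (qdet A) (shift A) (shift B)

theorem bpi_mul (i : Bool) {x y : Blk} (hx : Ok x) (hy : Ok y) :
    bpi i (bmul x y) = bpi i x * bpi i y := by
  obtain ⟨hA, hB⟩ := hx.det_ne
  obtain ⟨hC, hD⟩ := hy.det_ne
  obtain ⟨s, A, B⟩ := x
  obtain ⟨t, C, D⟩ := y
  have hAB : qdet B = qdet A := (ok_dets _ _ hx).2
  simp only at hA hB hC hD
  cases t <;>
    simp only [bpi, bmul, Bool.false_eq_true, if_false, if_true, qdet_mul, shift_mul _ _ hA hC,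
      shift_mul _ _ hB hD, shift_mul _ _ hA hD, shift_mul _ _ hB hC, hAB]
  · exact pair_mul i s false _ _ _ _ _ _ hA hC
  · exact pair_mul i s true _ _ _ _ _ _ hA hC

theorem bpi_neg (i : Bool) {x : Blk} (hx : Ok x) : bpi i (bneg x) = bpi i x := by
  obtain ⟨hA, hB⟩ := hx.det_ne
  obtain ⟨s, A, B⟩ := x
  simp only at hA hB
  simp only [bpi, bneg, (neg_invariants A hA).1, (neg_invariants A hA).2, (neg_invariants B hB).2]

/-- Matrices of determinant one commuting or anticommuting with `dmat` are in the model. -/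
theorem exists_blk_of_commute {g : M4} (hg : g.det = 1) (h : g * dmat.1 = dmat.1 * g) :
    ∃ x : Blk, Ok x ∧ x.1 = false ∧ toM x = g := by
  refine ⟨(false, (g 0 0, g 0 3, g 3 0, g 3 3), (g 1 1, g 1 2, g 2 1, g 2 2)), ?_, rfl, ?_⟩
  · unfold Ok qdet
    rw [← hg, det_blocks g h]
  · obtain ⟨a, b, c, d, e, f, k, l⟩ := entries_zero h
    ext i j
    fin_cases i <;> fin_cases j <;> simp_all [toM]

theorem toM_wflip : toM (true, qone, qone) = wflip.1 := by decide +kernel

theorem wflip_sq : wflip.1 * wflip.1 = 1 := by decide +kernel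

theorem exists_blk {g : SL4} (h : Commute (mk g) (mk dmat)) : ∃ x : Blk, Ok x ∧ toM x = g.1 := by
  rcases mk_commute h with h | h
  · obtain ⟨x, hx, -, e⟩ := exists_blk_of_commute g.2 h
    exact ⟨x, hx, e⟩
  · obtain ⟨x, hx, -, e⟩ := exists_blk_of_commute (g := (wflip * g).1) (wflip * g).2 (by
      rw [Matrix.SpecialLinearGroup.coe_mul, mul_assoc, h, mul_neg, ← mul_assoc, wflip_dmat, neg_mul,
        neg_neg, mul_assoc])
    refine ⟨bmul (true, qone, qone) x, Ok.mul (show Ok (true, qone, qone) by unfold Ok; decide) hx, ?_⟩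
    rw [toM_bmul, e, toM_wflip, Matrix.SpecialLinearGroup.coe_mul, ← mul_assoc, wflip_sq, one_mul]

end CfsgLib.LFourThree.Blocks
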