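import Cfsg.Prelude.Def_Solvable
import Cfsg.Prelude.Def_CaseTheorems
import Cfsg.Agent.Lib.Fitting.Basic
import Cfsg.Agent.Lib.LFourThree.Cent

/-!
The closing count: a strongly 3-embedded subgroup isomorphic to `PSL(4,3)` or to `3^3 : SL(3,3)`
containing the centraliser of `diag (1,-1,-1,1)` is the whole group.
-/

set_option autoImplicit false
set_option linter.style.haveILetI false

namespace CfsgLib.LFourThree

open Matrix CfsgLib.LFourThree.Count

universe u

variable {G : Type u} [Group G] [Finite G] {X : Type*} [Group X] [Finite X]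

namespace Count

/-- A subgroup with no element of order three and no conjugate of `d` has at most half the
3'-order. -/
theorem card_le_half {k j r : ℕ} (hX : Nat.card X = 3 ^ k * (2 ^ j * r))
    {d : X} (hd : orderOf d = 2) (hj : ¬ 2 ∣ r) (D : Subgroup X) (hno3 : ∀ y ∈ D, orderOf y ≠ 3)
    (hnod : ∀ g : X, g * d * g⁻¹ ∉ D) : 2 * Nat.card D ≤ 2 ^ j * r := by
  haveI : Fact (Nat.Prime 2) := ⟨Nat.prime_two⟩
  haveI : Fact (Nat.Prime 3) := ⟨Nat.prime_three⟩
  have hD3 : ¬ 3 ∣ Nat.card D := fun h => by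
    obtain ⟨y, hy⟩ := exists_prime_orderOf_dvd_card' 3 h
    exact hno3 y y.2 (by rw [Subgroup.orderOf_coe, hy])
  have hdvd : Nat.card D ∣ 2 ^ j * r := by
    have hcop : Nat.Coprime (Nat.card D) (3 ^ k) :=
      ((Nat.Prime.coprime_iff_not_dvd Nat.prime_three).2 hD3).symm.pow_right k
    have hdiv : Nat.card D ∣ 3 ^ k * (2 ^ j * r) := hX ▸ Subgroup.card_subgroup_dvd_card D
    exact hcop.dvd_of_dvd_mul_left hdiv
  obtain ⟨m, hm⟩ := hdvd
  have hr0 : r ≠ 0 := fun h => hj (by simp [h])
  rcases Nat.lt_or_ge m 2 with hlt | hge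
  · interval_cases m
    · simp [hr0] at hm
    · exfalso
      obtain ⟨S, hS⟩ := Sylow.exists_subgroup_card_pow_prime (G := D) 2
        (show 2 ^ j ∣ Nat.card D by rw [mul_one] at hm; exact ⟨r, hm.symm⟩)
      set S' := S.map D.subtype
      have hS' : Nat.card S' = 2 ^ j := by
        rw [Subgroup.card_map_of_injective D.subtype_injective, hS]
      have hSp : IsPGroup 2 S' := IsPGroup.of_card hS'
      obtain ⟨P, hP⟩ := hSp.exists_le_sylow
      have hPc : Nat.card P = 2 ^ j := by
        rw [P.card_eq_multiplicity, hX]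
        congr 1
        rw [Nat.factorization_mul (by positivity) (by positivity), Nat.factorization_mul (by positivity) hr0,
          Nat.Prime.factorization_pow Nat.prime_three, Nat.Prime.factorization_pow Nat.prime_two,
          Finsupp.add_apply, Finsupp.add_apply, Nat.factorization_eq_zero_of_not_dvd hj,
          Finsupp.single_eq_same, Finsupp.single_eq_of_ne (by norm_num)]
        simp
      have hPS : S' = (P : Subgroup X) := Subgroup.eq_of_le_of_card_ge hP (by rw [hS', hPc])
      have hdp : IsPGroup 2 (Subgroup.zpowers d) :=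
        IsPGroup.of_card (n := 1) (by rw [Nat.card_zpowers, hd, pow_one])
      obtain ⟨Q, hQ⟩ := hdp.exists_le_sylow
      obtain ⟨g, hg⟩ := MulAction.exists_smul_eq X Q P
      apply hnod g
      have hmem : g * d * g⁻¹ ∈ ((g • Q : Sylow 2 X) : Subgroup X) := by
        rw [Sylow.coe_subgroup_smul]
        exact ⟨d, hQ (Subgroup.mem_zpowers d), rfl⟩
      rw [hg, ← hPS] at hmem
      obtain ⟨s, -, hs⟩ := hmem
      exact hs ▸ s.2
  · rw [hm, mul_comm 2]
    exact Nat.mul_le_mul_left _ hge

/-- The count. -/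
theorem range_eq_top (ψ : X →* G) (hinj : Function.Injective ψ) (hs : Strong ψ.range) {d : X}
    (hd : orderOf d = 2) (hC : Subgroup.centralizer ({ψ d} : Set G) ≤ ψ.range)
    (hinv : ∀ t : X, t * t = 1 → ∃ y : X, orderOf y = 3 ∧ Commute t y) {b : ℕ}
    (hsub : ∀ D : Subgroup X, (∀ y ∈ D, orderOf y ≠ 3) → (∀ g : X, g * d * g⁻¹ ∉ D) → Nat.card D ≤ b)
    (hb : b * Nat.card (Subgroup.centralizer ({d} : Set X)) < Nat.card X) : ψ.range = ⊤ := by
  classical
  haveI : Fintype G := Fintype.ofFinite G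
  set G₀ := ψ.range with hG₀
  have hdd : d * d = 1 := by rw [← sq, ← hd, pow_orderOf_eq_one]
  have htt : ∀ g : G, (g * ψ d * g⁻¹) * (g * ψ d * g⁻¹) = 1 := fun g => by
    rw [show g * ψ d * g⁻¹ * (g * ψ d * g⁻¹) = g * (ψ d * ψ d) * g⁻¹ by group, ← map_mul, hdd, map_one,
      mul_one, mul_inv_cancel]
  have hconj : ∀ g : G, g * ψ d * g⁻¹ ∈ G₀ → g ∈ G₀ := by
    intro g hg
    obtain ⟨s, hs'⟩ := hg
    obtain ⟨y, hy3, hy⟩ := hinv s (hinj (by rw [map_mul, hs', htt, map_one]))
    have hy' : g⁻¹ * ψ y * g ∈ G₀ := hC (Subgroup.mem_centralizer_singleton_iff.2 (by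
      have h := (hy.map ψ).eq
      rw [hs'] at h
      calc g⁻¹ * ψ y * g * ψ d = g⁻¹ * (ψ y * (g * ψ d * g⁻¹)) * g := by group
        _ = g⁻¹ * (g * ψ d * g⁻¹ * ψ y) * g := by rw [h]
        _ = ψ d * (g⁻¹ * ψ y * g) := by group))
    have h := hs (ψ y) ⟨y, rfl⟩ (by rw [orderOf_injective ψ hinj, hy3]) g⁻¹ (by rwa [inv_inv])
    simpa using inv_mem h
  by_contra hne
  let f : G → G ⧸ G₀ := fun g => (g * ψ d * g⁻¹ : G)
  let q₀ : G ⧸ G₀ := ((1 : G) : G ⧸ G₀)
  have hcardX : Nat.card G₀ = Nat.card X := (Nat.card_congr (MonoidHom.ofInjective hinj).toEquiv).symm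
  have hfib0 : (Finset.univ.filter fun g => f g = q₀).card ≤ Nat.card X := by
    rw [← hcardX, ← Nat.card_eq_finsetCard]
    refine Nat.card_le_card_of_injective (fun g => ⟨g.1, ?_⟩) (fun a b h => Subtype.ext (congrArg (fun z : G₀ => z.1) h))
    have h := (Finset.mem_filter.1 g.2).2
    exact hconj g.1 (by simpa using (QuotientGroup.eq (s := G₀)).1 h.symm)
  obtain ⟨q, hq, hqc⟩ : ∃ q, q ≠ q₀ ∧ Nat.card X ≤ (Finset.univ.filter fun g => f g = q).card := by
    haveI : Fintype (G ⧸ G₀) := Fintype.ofFinite _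
    by_contra hall
    push Not at hall
    have hsum : Fintype.card G = ∑ q, (Finset.univ.filter fun g => f g = q).card := by
      rw [← Finset.card_univ]
      exact Finset.card_eq_sum_card_fiberwise fun g _ => Finset.mem_univ (f g)
    have hlt : ∑ q, (Finset.univ.filter fun g => f g = q).card < ∑ _q : G ⧸ G₀, Nat.card X := by
      obtain ⟨q₁, hq₁⟩ : ∃ q₁ : G ⧸ G₀, q₁ ≠ q₀ := by
        obtain ⟨a, ha⟩ : ∃ a, a ∉ G₀ := by
          by_contra h
          push Not at h
          exact hne (eq_top_iff.2 fun x _ => h x)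
        exact ⟨(a : G), fun e => ha (by simpa using inv_mem ((QuotientGroup.eq (s := G₀)).1 e.symm))⟩
      refine Finset.sum_lt_sum (fun q _ => ?_) ⟨q₁, Finset.mem_univ _, hall q₁ hq₁⟩
      rcases eq_or_ne q q₀ with rfl | h
      · exact hfib0
      · exact (hall q h).le
    rw [Finset.sum_const, Finset.card_univ, smul_eq_mul, ← Nat.card_eq_fintype_card, ← hcardX,
      ← Subgroup.card_eq_card_quotient_mul_card_subgroup, ← hsum, Nat.card_eq_fintype_card] at hlt
    exact lt_irrefl _ hlt
  obtain ⟨g₀, hg₀⟩ : (Finset.univ.filter fun g => f g = q).Nonempty := by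
    rw [← Finset.card_pos]
    exact lt_of_lt_of_le Nat.card_pos hqc
  set a := g₀ * ψ d * g₀⁻¹
  have ha2 : a * a = 1 := htt g₀
  have hai : a⁻¹ = a := inv_eq_of_mul_eq_one_right ha2
  have hfa : (a : G ⧸ G₀) = q := (Finset.mem_filter.1 hg₀).2
  have ha : a ∉ G₀ := fun h => hq (by
    rw [← hfa]; exact (QuotientGroup.eq (s := G₀)).2 (by simpa using inv_mem h))
  let D : Subgroup X := G₀.comap ((MulAut.conj a).toMonoidHom.comp ψ)
  have hDmem : ∀ y : X, y ∈ D ↔ a * ψ y * a⁻¹ ∈ G₀ := fun y => Iff.rfl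
  have hD3 : ∀ y ∈ D, orderOf y ≠ 3 := fun y hy h3 =>
    ha (hs (ψ y) ⟨y, rfl⟩ (by rw [orderOf_injective ψ hinj, h3]) a ((hDmem y).1 hy))
  have hDd : ∀ g : X, g * d * g⁻¹ ∉ D := fun g hg => by
    rw [hDmem, map_mul, map_mul, map_inv] at hg
    have h := hconj (a * ψ g) (by
      rwa [show a * ψ g * ψ d * (a * ψ g)⁻¹ = a * (ψ g * ψ d * (ψ g)⁻¹) * a⁻¹ by group])
    exact ha (by simpa using mul_mem h (inv_mem (show ψ g ∈ G₀ from ⟨g, rfl⟩)))
  set T := (Finset.univ.filter fun g => f g = q).image fun g => g * ψ d * g⁻¹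
  have hT : T.card ≤ Nat.card D := by
    rw [← Nat.card_eq_finsetCard]
    have hmem : ∀ t ∈ T, a * t ∈ G₀ ∧ t * t = 1 := by
      intro t ht
      obtain ⟨g, hg, rfl⟩ := Finset.mem_image.1 ht
      refine ⟨?_, htt g⟩
      have := (QuotientGroup.eq (s := G₀)).1 (hfa.trans (Finset.mem_filter.1 hg).2.symm)
      rwa [hai] at this
    choose x hx using fun t : T => (hmem t.1 t.2).1
    refine Nat.card_le_card_of_injective (fun t => ⟨x t, (hDmem _).2 ?_⟩) fun t t' e => ?_
    · rw [hx, hai, ← mul_assoc a a, ha2, one_mul]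
      have h := inv_mem (hmem t.1 t.2).1
      rwa [_root_.mul_inv_rev, hai, inv_eq_of_mul_eq_one_right (hmem t.1 t.2).2] at h
    · have := congrArg (fun z : D => ψ z.1) e
      simp only [hx] at this
      exact Subtype.ext (mul_left_cancel this)
  have hle : (Finset.univ.filter fun g => f g = q).card ≤
      Nat.card (Subgroup.centralizer ({d} : Set X)) * T.card := by
    refine Finset.card_le_mul_card_image _ _ fun t ht => ?_
    obtain ⟨g, -, rfl⟩ := Finset.mem_image.1 ht
    rw [← Nat.card_eq_finsetCard]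
    have hmem : ∀ h ∈ (Finset.univ.filter fun g => f g = q).filter
        (fun h => h * ψ d * h⁻¹ = g * ψ d * g⁻¹),
        ∃ c ∈ Subgroup.centralizer ({d} : Set X), ψ c = g⁻¹ * h := by
      intro h hh
      have he := (Finset.mem_filter.1 hh).2
      have hc : g⁻¹ * h ∈ Subgroup.centralizer ({ψ d} : Set G) :=
        Subgroup.mem_centralizer_singleton_iff.2 (by
          calc g⁻¹ * h * ψ d = g⁻¹ * (h * ψ d * h⁻¹) * h := by group
            _ = g⁻¹ * (g * ψ d * g⁻¹) * h := by rw [he]
            _ = ψ d * (g⁻¹ * h) := by group)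
      obtain ⟨c, hc'⟩ := hC hc
      refine ⟨c, Subgroup.mem_centralizer_singleton_iff.2 (hinj ?_), hc'⟩
      rw [map_mul, map_mul, hc']
      exact Subgroup.mem_centralizer_singleton_iff.1 hc
    choose c hc hcψ using hmem
    refine Nat.card_le_card_of_injective (fun h => ⟨c h.1 h.2, hc h.1 h.2⟩) fun h h' e => ?_
    have := congrArg (fun z : Subgroup.centralizer ({d} : Set X) => ψ z.1) e
    simp only [hcψ] at this
    exact Subtype.ext (mul_left_cancel this)
  have h1 : Nat.card X ≤ Nat.card (Subgroup.centralizer ({d} : Set X)) * b :=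
    hqc.trans (hle.trans (Nat.mul_le_mul_left _ (hT.trans (hsub D hD3 hDd))))
  rw [mul_comm] at h1
  omega

theorem dmat_sq : dmat * dmat = 1 := Subtype.ext (by decide +kernel)

theorem orderOf_mk_dmat : orderOf (mk dmat) = 2 := by
  haveI : Fact (Nat.Prime 2) := ⟨Nat.prime_two⟩
  refine orderOf_eq_prime (by rw [sq, ← map_mul, dmat_sq, map_one]) fun h => ?_
  rcases center_cases (mk_eq_one.1 h) with h | h <;> revert h <;> decide +kernel

end Count

/-- The case of `PSL(4,3)`. -/
theorem final_psl (φ : SL4 →* G) (hker : φ.ker = Subgroup.center SL4) (hS : Strong φ.range)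
    (hC : Subgroup.centralizer ({φ dmat} : Set G) ≤ φ.range) : Nonempty (G ≃* PL4) := by
  let ψ : PL4 →* G := QuotientGroup.lift (Subgroup.center SL4) φ (le_of_eq hker.symm)
  have hψ : ∀ x, ψ (mk x) = φ x := fun x => rfl
  have hinj : Function.Injective ψ := by
    refine (injective_iff_map_eq_one ψ).2 fun y hy => ?_
    obtain ⟨x, rfl⟩ := mk_surjective y
    exact mk_eq_one.2 (hker ▸ (by rwa [hψ] at hy : φ x = 1))
  have hr : ψ.range = φ.range := by
    ext g
    constructor
    · rintro ⟨y, rfl⟩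
      obtain ⟨x, rfl⟩ := mk_surjective y
      exact ⟨x, rfl⟩
    · rintro ⟨x, rfl⟩
      exact ⟨mk x, rfl⟩
  have htop : ψ.range = ⊤ := range_eq_top ψ hinj (hr ▸ hS) orderOf_mk_dmat (by rw [hr, hψ]; exact hC)
    (fun t ht => exists_three_PL4 ht) (b := 4160)
    (fun D h1 h2 => by
      have := card_le_half (k := 6) (j := 7) (r := 65) (card_PL4.trans (by norm_num))
        orderOf_mk_dmat (by norm_num) D h1 h2
      omega)
    (by rw [card_PL4]; have := card_cent_PL4; omega)
  exact ⟨(MulEquiv.ofBijective ψ ⟨hinj, MonoidHom.range_eq_top.1 htop⟩).symm⟩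

namespace Count

theorem card_points : Nat.card (Projectivization (ZMod 3) (Fin 4 → ZMod 3)) = 40 := by
  have h := CfsgLib.Classical.MinIndex.sub_one_mul_card_points (F := ZMod 3) 4
  norm_num at h
  omega

theorem mk_para_injective : Function.Injective (mk.comp para.subtype) := by
  refine (injective_iff_map_eq_one _).2 fun g hg => ?_
  rcases center_cases (mk_eq_one.1 hg) with h | h
  · exact Subtype.ext (Subtype.ext h)
  · exfalso
    have h0 := para_apply g 0
    have h' : g.1.1 0 0 = -1 := by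
      have := congrFun (congrFun h 0) 0
      simpa using this
    rw [h'] at h0
    revert h0
    decide

theorem isCoatom_para : IsCoatom (mk.comp para.subtype).range := by
  set P := (mk.comp para.subtype).range
  have hP : Nat.card P = 151632 := by
    rw [← Nat.card_congr (MonoidHom.ofInjective mk_para_injective).toEquiv, card_para]
  have hi : P.index = 40 := by
    have := P.card_mul_index
    rw [hP, card_PL4] at this
    omega
  refine ⟨fun h => by rw [h, Subgroup.index_top] at hi; omega, fun H hH => ?_⟩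
  by_contra hne
  have h40 : 40 ≤ H.index := by
    rw [← card_points, ← Subgroup.index_comap_of_surjective H mk_surjective]
    refine CfsgLib.Classical.MinIndex.card_points_le_index (H.comap mk) (by norm_num)
      (fun h => by simp at h) fun h => hne ?_
    exact Subgroup.comap_injective mk_surjective (by rw [h, Subgroup.comap_top])
  have h1 := H.card_mul_index
  rw [card_PL4] at h1
  have h2 : Nat.card H ≤ Nat.card P := by
    rw [hP]
    by_contra hlt
    have := Nat.mul_le_mul (Nat.succ_le_of_lt (not_le.1 hlt)) h40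
    omega
  exact hH.ne (Subgroup.eq_of_le_of_card_ge hH.le h2)

theorem pCore_para : Cfsg.pCore 3 para = lower.ker := by
  haveI : Fact (Nat.Prime 3) := ⟨Nat.prime_three⟩
  have hle : lower.ker ≤ Cfsg.pCore 3 para :=
    Fitting.le_pCore inferInstance (IsPGroup.of_card (n := 3) (by rw [card_ker_lower]; norm_num))
  refine le_antisymm ?_ hle
  haveI := CfsgLib.CommGraph.simple_SL33
  haveI : ((Cfsg.pCore 3 para).map lower).Normal := (Fitting.pCore_normal 3).map lower lower_surjective
  rcases Subgroup.Normal.eq_bot_or_eq_top (H := (Cfsg.pCore 3 para).map lower) inferInstance with h | h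
  · exact fun x hx => MonoidHom.mem_ker.2 (Subgroup.mem_bot.1 (h ▸ Subgroup.mem_map_of_mem _ hx))
  · exfalso
    have hp := (Fitting.pCore_isPGroup (G := para) 3).map lower
    rw [h] at hp
    obtain ⟨n, hn⟩ := IsPGroup.iff_card.1 hp
    rw [Subgroup.card_top, CfsgLib.CommGraph.natCard_SL33] at hn
    have h2 : 2 ∣ 3 ^ n := ⟨2808, by omega⟩
    exact absurd (Nat.prime_two.dvd_of_dvd_pow h2) (by norm_num)

end Count

/-- The case of the parabolic. -/
theorem final_para (φ : para →* G) (hinj : Function.Injective φ) (hS : Strong φ.range)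
    (hC : Subgroup.centralizer ({φ dpara} : Set G) ≤ φ.range) :
    ∃ P : Subgroup (Matrix.ProjectiveSpecialLinearGroup (Fin 4) (ZMod 3)),
      IsCoatom P ∧ Nat.card (Cfsg.pCore 3 P) = 27 ∧
      Nonempty (P ⧸ Cfsg.pCore 3 P ≃* Matrix.SpecialLinearGroup (Fin 3) (ZMod 3)) ∧ Nonempty (G ≃* P) := by
  have hd : orderOf dpara = 2 := by
    haveI : Fact (Nat.Prime 2) := ⟨Nat.prime_two⟩
    refine orderOf_eq_prime (Subtype.ext (by rw [sq]; exact dmat_sq)) fun h => ?_
    have h' : dmat.1 = 1 := congrArg (fun x : para => x.1.1) h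
    revert h'
    decide +kernel
  have htop : φ.range = ⊤ := range_eq_top φ hinj hS hd hC (fun t ht => exists_three_para ht) (b := 104)
    (fun D h1 h2 => by
      have := card_le_half (k := 6) (j := 4) (r := 13) (card_para.trans (by norm_num))
        hd (by norm_num) D h1 h2
      omega)
    (by rw [card_para]; have := card_cent_para; omega)
  set P := (mk.comp para.subtype).range
  let e : para ≃* P := MonoidHom.ofInjective mk_para_injective
  have hmap : (lower.ker).map e.toMonoidHom = Cfsg.pCore 3 P := by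
    rw [← pCore_para]
    apply le_antisymm
    · exact Fitting.le_pCore ((Fitting.pCore_normal 3).map _ e.surjective)
        ((Fitting.pCore_isPGroup (G := para) 3).map e.toMonoidHom)
    · intro x hx
      refine ⟨e.symm x, Fitting.le_pCore ((Fitting.pCore_normal 3).map _ e.symm.surjective)
        ((Fitting.pCore_isPGroup (G := P) 3).map e.symm.toMonoidHom) ⟨x, hx, rfl⟩, e.apply_symm_apply x⟩
  refine ⟨P, isCoatom_para, ?_, ?_, ⟨(MulEquiv.ofBijective φ ⟨hinj, MonoidHom.range_eq_top.1 htop⟩).symm.trans e⟩⟩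
  · rw [← hmap]; exact (Subgroup.card_map_of_injective e.injective).trans card_ker_lower
  · haveI := Fitting.pCore_normal (G := P) 3
    exact ⟨(QuotientGroup.congr lower.ker (Cfsg.pCore 3 P) e hmap).symm.trans
      (QuotientGroup.quotientKerEquivOfSurjective lower lower_surjective)⟩

end CfsgLib.LFourThree
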