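import Mathlib
import Cfsg.Agent.Lib.NineTI.Isolated

/-!
The normal subgroup of a virtual character of norm three, for a whole set of elements at once:
it is the kernel of a constituent which does not depend on the element.
-/

set_option autoImplicit false
set_option linter.style.haveILetI false

namespace CfsgLib.LFourThree

open Cfsg CfsgLib.Char
open CfsgLib.NineTI (two_terms)
open scoped ComplexConjugate

variable {G : Type*} [Group G] [Finite G]

theorem exists_normal_of_norm_three_excl (N : Subgroup G) [Fintype N] (S : Set G)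
    (hTI : ∀ g : G, g ∉ N → ∀ t ∈ S, g * t * g⁻¹ ∈ S → t = 1) (f : N → ℂ)
    (hgen : IsGeneralizedCharacter N f) (hsupp : ∀ n : N, (n : G) ∉ S → f n = 0) (h1 : f 1 = 0)
    (hnorm : classInner f f = 3) (hone : classInner f (fun _ => (1 : ℂ)) = 1)
    (E : Set G) (ha : ∀ a ∈ E, ∀ g : G, g * a * g⁻¹ ∉ S)
    (hno : ∀ a ∈ E, ∀ n : N, f n ≠ 0 → ∀ u v : G, IsConj a u → IsConj a v → u * v ≠ n) :
    ∃ K : Subgroup G, K.Normal ∧ E ⊆ K ∧ ∀ n : N, f n ≠ 0 → (n : G) ∉ K := by
  classical
  haveI : Fintype G := Fintype.ofFinite G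
  haveI : Finite (IrrCharacter G) := finite_irrCharacter
  have hcl : IsClassFunction N f := isClassFunction_of_isGeneralized hgen
  obtain ⟨c, hc⟩ := isGeneralized_iff.mp (isGeneralized_indFun N hgen)
  have hcoef : ∀ χ : IrrCharacter G, classInner (indFun N f) (χ : G → ℂ) = (c χ : ℂ) := fun χ => by
    rw [hc, classInner_sum_smul_irr]
  have hrec : ∀ χ : IrrCharacter G, (c χ : ℂ) = classInner f (fun n : N => (χ : G → ℂ) n) :=
    fun χ => by rw [← hcoef, frobenius_reciprocity N f (isClassFunction_irr χ)]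
  have hsq : ∑ χ : IrrCharacter G, c χ ^ 2 = 3 := by
    have e := classInner_indFun_of_ti N S hTI f f hcl hsupp hsupp h1
    rw [hnorm, hc, sum_sq_coeff] at e
    exact_mod_cast e
  choose d hd0 hd using fun χ : IrrCharacter G => exists_nat_degree_irr χ.2
  have hd0' : ∀ χ, d χ ≠ 0 := fun χ e => irr_degree_ne_zero χ.2 (by rw [hd, e, Nat.cast_zero])
  let one : IrrCharacter G := ⟨fun _ => 1, isIrrCharacter_one⟩
  have hc1 : c one = 1 := by
    have := hrec one
    rw [show (fun n : N => (one : G → ℂ) n) = (fun _ => (1 : ℂ)) from rfl, hone] at this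
    exact_mod_cast this
  have e1 : ∑ χ : IrrCharacter G, (c χ : ℂ) * (d χ : ℂ) = 0 := by
    have e := congrFun hc 1
    rw [indFun_one, h1, mul_zero, Finset.sum_apply] at e
    exact (Finset.sum_congr rfl fun χ _ => by rw [Pi.smul_apply, smul_eq_mul, hd]).trans e.symm
  let T := (Finset.univ : Finset (IrrCharacter G)).filter fun χ => c χ ≠ 0
  have hle : ∀ χ ∈ T, c χ ^ 2 = 1 := by
    intro χ hχ
    have h := (Finset.single_le_sum (f := fun x => c x ^ 2) (fun _ _ => sq_nonneg _)
      (Finset.mem_univ χ)).trans_eq hsq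
    have hne := (Finset.mem_filter.mp hχ).2
    have : -1 ≤ c χ ∧ c χ ≤ 1 := ⟨by nlinarith, by nlinarith⟩
    rcases (by omega : c χ = 1 ∨ c χ = -1) with e | e <;> rw [e] <;> norm_num
  have hcard : T.card = 3 := by
    have e : ∑ χ ∈ T, c χ ^ 2 = 3 := by
      rw [← hsq]
      exact Finset.sum_subset (Finset.subset_univ _) fun χ _ hχ => by
        have : c χ = 0 := by simpa [T] using hχ
        rw [this]; norm_num
    rw [Finset.sum_congr rfl hle, Finset.sum_const, nsmul_eq_mul, mul_one] at e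
    exact_mod_cast e
  have hone_mem : one ∈ T := Finset.mem_filter.mpr ⟨Finset.mem_univ _, by rw [hc1]; norm_num⟩
  obtain ⟨A, B, hAB, he⟩ := Finset.card_eq_two.mp
    (show (T.erase one).card = 2 by rw [Finset.card_erase_of_mem hone_mem, hcard])
  have hA : A ≠ one ∧ A ∈ T := Finset.mem_erase.mp (he ▸ Finset.mem_insert_self A _)
  have hB : B ≠ one ∧ B ∈ T :=
    Finset.mem_erase.mp (he ▸ Finset.mem_insert_of_mem (Finset.mem_singleton_self B))
  have hT : T = {one, A, B} := by
    rw [← Finset.insert_erase hone_mem, he]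
  have three : ∀ F : IrrCharacter G → ℂ, ∑ χ : IrrCharacter G, (c χ : ℂ) * F χ =
      F one + (c A : ℂ) * F A + (c B : ℂ) * F B := by
    intro F
    rw [← Finset.sum_subset (Finset.subset_univ T) (fun χ _ hχ => by
      have : c χ = 0 := by simpa [T] using hχ
      rw [this, Int.cast_zero, zero_mul]), hT, Finset.sum_insert (by simp [hA.1.symm, hB.1.symm]),
      Finset.sum_pair hAB, hc1]
    push_cast; ring
  rw [three] at e1
  have hd1 : (d one : ℂ) = 1 := (hd one).symm
  rw [hd1] at e1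
  have hAall : ∀ a ∈ E, (A : G → ℂ) a = (d A : ℂ) ∧ (B : G → ℂ) a = (d B : ℂ) := by
    intro a haE
    have e2 : ∑ χ : IrrCharacter G, (c χ : ℂ) * (χ : G → ℂ) a = 0 := by
      have hz : indFun N f a = 0 := by
        simp only [indFun]
        rw [Finset.sum_eq_zero fun x _ => ?_, mul_zero]
        by_cases hx : x⁻¹ * a * x ∈ N
        · rw [extendByZero_mem N f hx]
          exact hsupp _ (by simpa using ha a haE x⁻¹)
        · exact extendByZero_notMem N f hx
      have e := congrFun hc a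
      rw [hz, Finset.sum_apply] at e
      exact e.symm.trans rfl
    have e3 : ∑ χ : IrrCharacter G, (c χ : ℂ) * ((χ : G → ℂ) a ^ 2 / (d χ : ℂ)) = 0 := by
      have hz : ∀ n : N, f n * ∑ χ : IrrCharacter G,
          (χ : G → ℂ) a * (χ : G → ℂ) a * conj ((χ : G → ℂ) n) / (χ : G → ℂ) 1 = 0 := by
        intro n
        by_cases hn : f n = 0
        · rw [hn, zero_mul]
        have hm := class_mult a a (n : G)
        haveI : IsEmpty {p : G × G // IsConj a p.1 ∧ IsConj a p.2 ∧ p.1 * p.2 = (n : G)} :=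
          ⟨fun p => hno a haE n hn _ _ p.2.1 p.2.2.1 p.2.2.2⟩
        rw [Nat.card_of_isEmpty, Nat.cast_zero] at hm
        rcases mul_eq_zero.mp hm.symm with h | h
        · exfalso
          rcases div_eq_zero_iff.mp h with h | h
          · rcases mul_eq_zero.mp h with h | h <;>
              exact Subgroup.index_ne_zero_of_finite (Nat.cast_eq_zero.mp h)
          · exact Nat.card_pos.ne' (Nat.cast_eq_zero.mp h)
        · rw [h, mul_zero]
      calc ∑ χ : IrrCharacter G, (c χ : ℂ) * ((χ : G → ℂ) a ^ 2 / (d χ : ℂ))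
          = (Nat.card N : ℂ)⁻¹ * ∑ n : N, f n * ∑ χ : IrrCharacter G,
            (χ : G → ℂ) a * (χ : G → ℂ) a * conj ((χ : G → ℂ) n) / (χ : G → ℂ) 1 := by
            simp only [hrec, classInner, Finset.mul_sum, Finset.sum_mul]
            rw [Finset.sum_comm]
            refine Finset.sum_congr rfl fun n _ => Finset.sum_congr rfl fun χ _ => ?_
            rw [hd]; ring
        _ = 0 := by rw [Finset.sum_eq_zero fun n _ => hz n, mul_zero]
    rw [three] at e2 e3
    rw [hd1] at e3
    have ha1 : (one : G → ℂ) a = 1 := rfl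
    rw [ha1] at e2 e3
    have hAa : (A : G → ℂ) a - (d A : ℂ) = 0 := by
      have hdA : (d A : ℂ) ≠ 0 := Nat.cast_ne_zero.mpr (hd0' A)
      have hdB : (d B : ℂ) ≠ 0 := Nat.cast_ne_zero.mpr (hd0' B)
      refine two_terms (hle A hA.2) (hle B hB.2) (hd0' A) (hd0' B)
        (uB := (B : G → ℂ) a - (d B : ℂ)) ?_ ?_ ?_
      · have : ((1 + c A * (d A : ℤ) + c B * (d B : ℤ) : ℤ) : ℂ) = 0 := by
          push_cast; linear_combination e1
        exact_mod_cast this
      · linear_combination e2 - e1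
      · have hx : ∀ w q : ℂ, q ≠ 0 → (w - q) ^ 2 / q = w ^ 2 / q - 2 * w + q := by
          intro w q hq; field_simp; ring
        rw [hx _ _ hdA, hx _ _ hdB]
        linear_combination e3 - 2 * e2 + e1
    refine ⟨sub_eq_zero.mp hAa, ?_⟩
    have hcB : (c B : ℂ) ^ 2 = 1 := by exact_mod_cast hle B hB.2
    linear_combination (c B : ℂ) * (e2 - e1) - (c B : ℂ) * (c A : ℂ) * hAa -
      ((B : G → ℂ) a - (d B : ℂ)) * hcB
  obtain ⟨K, hK, hmem, -⟩ := exists_kernel (isCharacter_of_isIrr A.2)
  obtain ⟨K', hK', hmem', -⟩ := exists_kernel (isCharacter_of_isIrr B.2)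
  haveI := hK
  haveI := hK'
  refine ⟨K ⊓ K', inferInstance, fun a haE => ⟨(hmem a).mpr (by rw [hd]; exact (hAall a haE).1),
    (hmem' a).mpr (by rw [hd]; exact (hAall a haE).2)⟩, fun n hn hnK => ?_⟩
  have hnS : (n : G) ∈ S := by
    by_contra h
    exact hn (hsupp n h)
  have e := indFun_eq_of_ti N S hTI f hcl hsupp n hnS (fun e => hn (by rw [e, h1]))
  rw [hc, Finset.sum_apply] at e
  have e' := (Finset.sum_congr rfl fun χ _ => by rw [Pi.smul_apply, smul_eq_mul]).symm.trans e
  rw [three, (hmem _).mp hnK.1, (hmem' _).mp hnK.2, hd, hd] at e'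
  exact hn (e'.symm.trans (by rw [show (one : G → ℂ) (n : G) = 1 from rfl]; linear_combination e1))

/-- The kernel is proper. -/
theorem exists_normal_of_norm_three_set (N : Subgroup G) [Fintype N] (S : Set G)
    (hTI : ∀ g : G, g ∉ N → ∀ t ∈ S, g * t * g⁻¹ ∈ S → t = 1) (f : N → ℂ)
    (hgen : IsGeneralizedCharacter N f) (hsupp : ∀ n : N, (n : G) ∉ S → f n = 0) (h1 : f 1 = 0)
    (hnorm : classInner f f = 3) (hone : classInner f (fun _ => (1 : ℂ)) = 1)
    (E : Set G) (ha : ∀ a ∈ E, ∀ g : G, g * a * g⁻¹ ∉ S)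
    (hno : ∀ a ∈ E, ∀ n : N, f n ≠ 0 → ∀ u v : G, IsConj a u → IsConj a v → u * v ≠ n) :
    ∃ K : Subgroup G, K.Normal ∧ K ≠ ⊤ ∧ E ⊆ K := by
  obtain ⟨K, hK, hE, hex⟩ := exists_normal_of_norm_three_excl N S hTI f hgen hsupp h1 hnorm hone E ha hno
  refine ⟨K, hK, fun htop => ?_, hE⟩
  have h0 : ∀ n : N, f n = 0 := fun n => by
    by_contra hn
    exact hex n hn (htop ▸ Subgroup.mem_top _)
  have : classInner f f = 0 := by simp [classInner, h0]
  rw [hnorm] at this
  norm_num at this

end CfsgLib.LFourThree
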