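import Mathlib
import Cfsg.Agent.Lib.LFourThree.Basic
import Cfsg.Agent.Lib.LFourThree.NormThree
import Cfsg.Agent.Lib.Coprime.Generation
import Cfsg.Agent.Lib.Char.StrongRealAverage
import Cfsg.Agent.Lib.Transfer.Basic
import Cfsg.Agent.Lib.PSolvable.Core

/-!
A finite group with a central element whose subgroup of the shape of the centraliser of
`diag (1,-1,-1,1)` is strongly 3-embedded is equal to that subgroup: abstract part.

`O` is the extraspecial (or quaternion) normal subgroup, `T` the elementary abelian group of order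
nine and `π` the two maps to `S₃` killing `O`.
-/

set_option autoImplicit false
set_option linter.style.haveILetI false

namespace CfsgLib.LFourThree

open Cfsg CfsgLib.Char

/-- What is used about the centraliser. -/
structure CentData (C : Type*) [Group C] (d : C) where
  O : Subgroup C
  T : Subgroup C
  O_normal : O.Normal
  O_coprime : ¬ 3 ∣ Nat.card O
  d_sq : d * d = 1
  d_ne : d ≠ 1
  sq_mem : ∀ u : C, u * u = d → u ∈ O
  T_comm : ∀ s ∈ T, ∀ t ∈ T, s * t = t * s
  T_cube : ∀ t ∈ T, t ^ 3 = 1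
  T_card : Nat.card T = 9
  not27 : ¬ 27 ∣ Nat.card C
  π : Bool → C →* Equiv.Perm (Fin 3)
  π_ker : ∀ g, (∀ i, π i g = 1) → g ∈ O
  π_T : ∀ i, ∃ t ∈ T, π i t ≠ 1
  π_sign : ∀ g, (∀ i, Equiv.Perm.sign (π i g) = 1) → g ∈ O ⊔ T
  cent_T : ∀ c : C, (∀ o ∈ O, c * o = o * c) → ∀ t ∈ T, c * t = t * c
  k : ℕ
  a : Fin k → C
  a_sq : ∀ i, a i * a i = d
  gen : O ≤ Subgroup.closure (Set.range a)
  bound : Nat.card {v : Fin k → C // (∀ i, v i * v i = d) ∧
      ∀ i j, (v i * v j = v j * v i ↔ a i * a j = a j * a i)} *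
    Nat.card (Subgroup.centralizer (O : Set C)) < 4 * Nat.card C

/-- A nontrivial `3'`-subgroup of `S₃` is not normalised by a three-cycle. -/
theorem perm_three_norm : ∀ σ c : Equiv.Perm (Fin 3), c ≠ 1 → c ^ 3 = 1 → σ ≠ 1 →
    σ ^ 3 = 1 ∨ ((σ * (c * σ * c⁻¹)) ^ 3 = 1 ∧ σ * (c * σ * c⁻¹) ≠ 1) := by decide +kernel

theorem perm_three_odd : ∀ σ c : Equiv.Perm (Fin 3), c ≠ 1 → c ^ 3 = 1 → Equiv.Perm.sign σ = -1 →
    ∀ x : Fin 3, x = 0 ∨ (σ * (c * σ * c⁻¹)) 0 = x ∨ ((σ * (c * σ * c⁻¹)) ^ 2) 0 = x := by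
  decide +kernel

theorem perm_three_value : ∀ σ : Equiv.Perm (Fin 3),
    (2 + ((Equiv.Perm.sign σ : ℤˣ) : ℤ) - ((Finset.univ.filter fun i => σ i = i).card : ℤ) = 0 ∨
      (2 + ((Equiv.Perm.sign σ : ℤˣ) : ℤ) - ((Finset.univ.filter fun i => σ i = i).card : ℤ) = 3 ∧
        σ ^ 3 = 1 ∧ σ ≠ 1)) := by decide +kernel

theorem mem_normalizer_of_forall {G : Type*} [Group G] [Finite G] {H : Subgroup G} {g : G}
    (h : ∀ x ∈ H, g * x * g⁻¹ ∈ H) : g ∈ Subgroup.normalizer (H : Set G) := by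
  rw [Subgroup.mem_normalizer_iff]
  intro x
  refine ⟨h x, fun hx => ?_⟩
  obtain ⟨⟨y, hy⟩, e⟩ := (Finite.injective_iff_surjective
    (f := fun y : H => (⟨g * y * g⁻¹, h y y.2⟩ : H))).1
      (fun y z e => Subtype.ext (mul_left_cancel (mul_right_cancel (congrArg Subtype.val e)))) ⟨_, hx⟩
  rw [← mul_left_cancel (mul_right_cancel (congrArg Subtype.val e))]
  exact hy

theorem closure_range_map {G H : Type*} [Group G] [Group H] {ι : Type*} (f : G →* H) (v : ι → G) :
    (Subgroup.closure (Set.range v)).map f = Subgroup.closure (Set.range fun i => f (v i)) := by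
  rw [MonoidHom.map_closure, ← Set.range_comp]
  rfl

namespace CentData

variable {C M : Type*} [Group C] [Group M] [Finite M] {d : C} (D : CentData C d) (ψ : C →* M)

section

variable {ψ}

theorem card_O (hψ : Function.Injective ψ) : ¬ 3 ∣ Nat.card (D.O.map ψ) := by
  rw [Subgroup.card_map_of_injective hψ]; exact D.O_coprime

theorem le_normalizer_O : ψ.range ≤ Subgroup.normalizer ((D.O.map ψ : Subgroup M) : Set M) := by
  rintro _ ⟨g, rfl⟩
  refine mem_normalizer_of_forall ?_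
  rintro _ ⟨o, ho, rfl⟩
  exact ⟨g * o * g⁻¹, D.O_normal.conj_mem o ho g, by simp⟩

theorem sq_mem' (hψ : Function.Injective ψ) {u : M} (hu : u ∈ ψ.range) (h : u * u = ψ d) :
    u ∈ D.O.map ψ := by
  obtain ⟨g, rfl⟩ := hu
  exact ⟨g, D.sq_mem g (hψ (by rw [map_mul, h])), rfl⟩

include D in
/-- No square root of `d` inverts an element of order three. -/
theorem not_inverts (hψ : Function.Injective ψ) {u x : M} (hu : u ∈ ψ.range) (hx : x ∈ ψ.range)
    (h : u * u = ψ d) (h3 : orderOf x = 3) : u * x * u⁻¹ ≠ x⁻¹ := fun e => by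
  have ho := D.sq_mem' hψ hu h
  have h1 : x * u⁻¹ * x⁻¹ ∈ D.O.map ψ :=
    (Subgroup.mem_normalizer_iff.1 (D.le_normalizer_O hx) _).1 (inv_mem ho)
  have h2 : u * (x * u⁻¹ * x⁻¹) = x := by
    have h3' : x ^ 3 = 1 := orderOf_dvd_iff_pow_eq_one.1 h3.dvd
    calc u * (x * u⁻¹ * x⁻¹) = u * x * u⁻¹ * x⁻¹ := by group
      _ = x⁻¹ * x⁻¹ := by rw [e]
      _ = x := by
        rw [← mul_inv_rev, inv_eq_iff_mul_eq_one, ← h3', pow_succ, pow_two]
  have hmem : x ∈ D.O.map ψ := h2 ▸ mul_mem ho h1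
  have h4 := orderOf_dvd_natCard (⟨x, hmem⟩ : D.O.map ψ)
  rw [Subgroup.orderOf_mk, h3] at h4
  exact D.card_O hψ h4

theorem mul_eq_inv_mul {G : Type*} [Group G] {u v e : G} (hu : u * u = e) (hv : v * v = e)
    (hc : ∀ g, g * e = e * g) (hee : e * e = 1) : u * (u * v) * u⁻¹ = (u * v)⁻¹ := by
  have hv' : v⁻¹ = e * v := inv_eq_of_mul_eq_one_right (by rw [← hc v, ← mul_assoc, hv, hee])
  rw [mul_inv_rev, hv', ← hu]
  group

variable (hψ : Function.Injective ψ) (hS : Strong ψ.range) (hc : ∀ g, g * ψ d = ψ d * g)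

include hψ in
theorem card_T' : Nat.card (D.T.map ψ) = 9 := by
  rw [Subgroup.card_map_of_injective hψ, D.T_card]

include hψ in
theorem orderOf_T {t : M} (ht : t ∈ D.T.map ψ) (h1 : t ≠ 1) : orderOf t = 3 := by
  obtain ⟨s, hs, rfl⟩ := ht
  haveI : Fact (Nat.Prime 3) := ⟨Nat.prime_three⟩
  exact orderOf_eq_prime (by rw [← map_pow, D.T_cube s hs, map_one]) h1

theorem T_comm' {s t : M} (hs : s ∈ D.T.map ψ) (ht : t ∈ D.T.map ψ) : s * t = t * s := by
  obtain ⟨s, hs, rfl⟩ := hs
  obtain ⟨t, ht, rfl⟩ := ht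
  rw [← map_mul, D.T_comm s hs t ht, map_mul]

include hψ hS in
theorem normalizer_T_le : Subgroup.normalizer ((D.T.map ψ : Subgroup M) : Set M) ≤ ψ.range := by
  intro g hg
  obtain ⟨t, ht, h1⟩ := (Subgroup.ne_bot_iff_exists_ne_one (H := D.T.map ψ)).1 (fun h => by
    have := D.card_T' hψ
    rw [h, Subgroup.card_bot] at this
    omega) |> fun ⟨t, h⟩ => (⟨t.1, t.2, fun e => h (Subtype.ext e)⟩ : ∃ t, t ∈ D.T.map ψ ∧ t ≠ 1)
  exact hS t (Subgroup.map_le_range ψ _ ht) (D.orderOf_T hψ ht h1) g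
    (Subgroup.map_le_range ψ _ ((Subgroup.mem_normalizer_iff.1 hg t).1 ht))

include D hψ hS in
theorem not27' : ¬ 27 ∣ Nat.card M := fun h => by
  haveI : Fact (Nat.Prime 3) := ⟨Nat.prime_three⟩
  obtain ⟨K, hK, hle⟩ := Sylow.exists_subgroup_card_pow_succ (p := 3) (n := 2) (by simpa using h)
    (H := D.T.map ψ) (by rw [D.card_T' hψ]; norm_num)
  have hi : ((D.T.map ψ).subgroupOf K).index = 3 := by
    have e := ((D.T.map ψ).subgroupOf K).card_mul_index
    rw [Nat.card_congr (Subgroup.subgroupOfEquivOfLe hle).toEquiv, D.card_T' hψ, hK] at e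
    omega
  haveI : ((D.T.map ψ).subgroupOf K).Normal := by
    refine Subgroup.normal_of_index_eq_minFac_card ?_
    rw [hi, hK, Nat.Prime.pow_minFac Nat.prime_three (by norm_num)]
  have hKN := (Subgroup.le_normalizer_of_normal_subgroupOf (K := K) hle).trans (D.normalizer_T_le hψ hS)
  have h1 := Subgroup.card_dvd_of_le hKN
  rw [hK, ← Nat.card_congr (MonoidHom.ofInjective hψ).toEquiv] at h1
  exact D.not27 (by simpa using h1)

include hψ in
/-- Inside the centraliser a `T`-invariant `3'`-subgroup lies in `O`. -/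
theorem le_O_of_le_range {L : Subgroup M} (hL : L ≤ ψ.range) (h3 : ¬ 3 ∣ Nat.card L)
    (hTL : D.T.map ψ ≤ Subgroup.normalizer (L : Set M)) : L ≤ D.O.map ψ := by
  intro g hg
  obtain ⟨g, rfl⟩ := hL hg
  refine ⟨g, D.π_ker g fun i => ?_, rfl⟩
  by_contra hne
  obtain ⟨t, ht, ht1⟩ := D.π_T i
  have hc3 : D.π i t ^ 3 = 1 := by rw [← map_pow, D.T_cube t ht, map_one]
  have key : ∀ h : C, ψ h ∈ L → D.π i h ≠ 1 → D.π i h ^ 3 = 1 → False := fun h hh h1 h2 => by
    haveI : Fact (Nat.Prime 3) := ⟨Nat.prime_three⟩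
    have e := orderOf_map_dvd (D.π i) h
    rw [orderOf_eq_prime h2 h1, ← orderOf_injective ψ hψ] at e
    have e2 := orderOf_dvd_natCard (⟨_, hh⟩ : L)
    rw [Subgroup.orderOf_mk] at e2
    exact h3 (e.trans e2)
  rcases perm_three_norm _ _ ht1 hc3 hne with h | ⟨h, h'⟩
  · exact key g hg hne h
  · refine key (g * (t * g * t⁻¹)) ?_ (by simpa using h') (by simpa using h)
    rw [map_mul, map_mul, map_mul, map_inv]
    exact mul_mem hg ((Subgroup.mem_normalizer_iff.1 (hTL (Subgroup.mem_map_of_mem ψ ht)) _).1 hg)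

include hψ hS in
/-- A `T`-invariant `3'`-subgroup lies in `O`. -/
theorem le_O {L : Subgroup M} (h3 : ¬ 3 ∣ Nat.card L)
    (hTL : D.T.map ψ ≤ Subgroup.normalizer (L : Set M)) : L ≤ D.O.map ψ := by
  refine D.le_O_of_le_range hψ ?_ h3 hTL
  haveI : IsMulCommutative (D.T.map ψ) := ⟨⟨fun s t => Subtype.ext (D.T_comm' s.2 t.2)⟩⟩
  refine CfsgLib.Coprime.le_of_centralizer_le ?_ hTL ?_ fun g hg h1 => ?_
  · refine CfsgLib.Coprime.not_isCyclic_of_exponent (p := 3) ?_ (by norm_num) ?_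
    · rintro _ ⟨t, ht, rfl⟩
      rw [← map_pow, D.T_cube t ht, map_one]
    · rw [D.card_T' hψ]; norm_num
  · rw [D.card_T' hψ]
    exact ((Nat.prime_three.coprime_iff_not_dvd.2 h3).pow_left 2)
  · exact inf_le_right.trans (hS.centralizer_le (Subgroup.map_le_range ψ _ hg) (D.orderOf_T hψ hg h1))

include hψ hS in
/-- An overgroup of `T` with controlled intersection with the centraliser lies in `O T`. -/
theorem small {W : Subgroup M} (hTW : D.T.map ψ ≤ W)
    (h : ∀ w ∈ W, w ∈ ψ.range → w ∈ Subgroup.normalizer ((D.T.map ψ : Subgroup M) : Set M) →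
      ∀ t ∈ D.T.map ψ, w * t = t * w) : W ≤ D.O.map ψ ⊔ D.T.map ψ := by
  haveI : Fact (Nat.Prime 3) := ⟨Nat.prime_three⟩
  set S := (D.T.map ψ).subgroupOf W
  have hS9 : Nat.card S = 9 := by
    rw [Nat.card_congr (Subgroup.subgroupOfEquivOfLe hTW).toEquiv, D.card_T' hψ]
  have h27 : ¬ 27 ∣ Nat.card W := fun e => D.not27' hψ hS (e.trans W.card_subgroup_dvd_card)
  have hfac : (Nat.card W).factorization 3 = 2 := by
    refine Nat.le_antisymm ?_ ?_
    · by_contra hlt
      exact h27 ((Nat.prime_three.pow_dvd_iff_le_factorization Nat.card_pos.ne').2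
        (by omega : 3 ≤ _))
    · exact (Nat.prime_three.pow_dvd_iff_le_factorization Nat.card_pos.ne').1
        (by have := S.card_subgroup_dvd_card; rwa [hS9] at this)
  let P : Sylow 3 W := Sylow.ofCard S (by rw [hS9, hfac]; norm_num)
  have hP : Subgroup.normalizer ((P : Subgroup W) : Set W) ≤ Subgroup.centralizer ((P : Subgroup W) : Set W) := by
    intro w hw
    rw [Sylow.coe_ofCard] at hw ⊢
    have hwN : (w : M) ∈ Subgroup.normalizer ((D.T.map ψ : Subgroup M) : Set M) := by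
      refine mem_normalizer_of_forall fun x hx => ?_
      exact (Subgroup.mem_normalizer_iff.1 hw ⟨x, hTW hx⟩).1 hx
    intro t ht
    exact Subtype.ext (h w w.2 (D.normalizer_T_le hψ hS hwN) hwN t ht).symm
  obtain ⟨K, hKn, hcompl⟩ : ∃ K : Subgroup W, K.Normal ∧ Subgroup.IsComplement' K (P : Subgroup W) :=
    ⟨_, MonoidHom.normal_ker _, MonoidHom.ker_transferSylow_isComplement' P hP⟩
  have hK3 : ¬ 3 ∣ Nat.card (K.map W.subtype) := by
    rw [Subgroup.card_map_of_injective W.subtype_injective]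
    intro e
    have hm := hcompl.card_mul_card
    rw [Sylow.coe_ofCard, hS9] at hm
    exact h27 (hm ▸ Nat.mul_dvd_mul_right e 9)
  have hKO : K.map W.subtype ≤ D.O.map ψ := by
    refine D.le_O hψ hS hK3 fun t ht => mem_normalizer_of_forall ?_
    rintro _ ⟨x, hx, rfl⟩
    exact ⟨⟨t, hTW ht⟩ * x * ⟨t, hTW ht⟩⁻¹, hKn.conj_mem x hx _, rfl⟩
  intro w hw
  have hmem : (⟨w, hw⟩ : W) ∈ K ⊔ (P : Subgroup W) := by rw [hcompl.sup_eq_top]; trivial
  haveI := hKn
  obtain ⟨x, hx, s, hs, e⟩ := Subgroup.mem_sup_of_normal_left.1 hmem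
  rw [Sylow.coe_ofCard] at hs
  have e' : (x : M) * s = w := congrArg Subtype.val e
  rw [← e']
  exact Subgroup.mul_mem_sup (hKO (Subgroup.mem_map_of_mem W.subtype hx)) hs

include hψ in
/-- Elements of `O T` normalising `T` centralise it. -/
theorem sup_cases {w : M} (hw : w ∈ D.O.map ψ ⊔ D.T.map ψ)
    (hN : w ∈ Subgroup.normalizer ((D.T.map ψ : Subgroup M) : Set M)) :
    ∀ t ∈ D.T.map ψ, w * t = t * w := by
  have hON : D.T.map ψ ≤ Subgroup.normalizer ((D.O.map ψ : Subgroup M) : Set M) :=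
    (Subgroup.map_le_range ψ _).trans D.le_normalizer_O
  rw [← SetLike.mem_coe, Subgroup.coe_mul_of_right_le_normalizer_left _ _ hON, Set.mem_mul] at hw
  obtain ⟨o, ho, s, hs, rfl⟩ := hw
  intro t ht
  have h1 : o * t * o⁻¹ ∈ D.T.map ψ := by
    have := (Subgroup.mem_normalizer_iff.1 hN t).1 ht
    rwa [show o * s * t * (o * s)⁻¹ = o * (s * t * s⁻¹) * o⁻¹ by group, D.T_comm' hs ht,
      mul_inv_cancel_right] at this
  have h2 : o * t * o⁻¹ * t⁻¹ ∈ D.T.map ψ := mul_mem h1 (inv_mem ht)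
  have h3 : o * t * o⁻¹ * t⁻¹ ∈ D.O.map ψ := by
    rw [show o * t * o⁻¹ * t⁻¹ = o * (t * o⁻¹ * t⁻¹) by group]
    exact mul_mem ho ((Subgroup.mem_normalizer_iff.1 (hON ht) _).1 (inv_mem ho))
  have h4 : o * t * o⁻¹ * t⁻¹ = 1 := by
    by_contra hne
    have e := orderOf_dvd_natCard (⟨_, h3⟩ : D.O.map ψ)
    rw [Subgroup.orderOf_mk, D.orderOf_T hψ h2 hne] at e
    exact D.card_O hψ e
  rw [mul_inv_eq_one, mul_inv_eq_iff_eq_mul] at h4
  rw [mul_assoc, D.T_comm' hs ht, ← mul_assoc, h4, mul_assoc]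

include hψ hS hc in
/-- One of the two maps is onto: a proper normal subgroup of `R` containing the square roots of `d`. -/
theorem exists_normal {R : Subgroup M} (hOR : D.O.map ψ ≤ R)
    (hR : ψ.range ≤ Subgroup.normalizer (R : Set M)) (i : Bool) {g : C} (hgR : ψ g ∈ R)
    (hg : Equiv.Perm.sign (D.π i g) = -1) :
    ∃ K : Subgroup R, K.Normal ∧ K ≠ ⊤ ∧ {a : R | (a : M) ∈ ψ.range ∧ (a : M) * a = ψ d} ⊆ K := by
  classical
  let N : Subgroup R := ψ.range.subgroupOf R
  haveI : Fintype N := Fintype.ofFinite _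
  let ρ : N →* Equiv.Perm (Fin 3) :=
    ((D.π i).comp (MonoidHom.ofInjective hψ).symm.toMonoidHom).comp
      ((R.subtype.comp N.subtype).codRestrict ψ.range fun n => n.2)
  have hρ : ∀ (n : N) (c : C), ψ c = ((n : R) : M) → ρ n = D.π i c := fun n c e => by
    refine congrArg (D.π i) ((MulEquiv.symm_apply_eq _).2 (Subtype.ext ?_))
    exact e.symm
  letI : MulAction N (Fin 3) := MulAction.compHom (Fin 3) ρ
  have hsmul : ∀ (n : N) (x : Fin 3), n • x = ρ n x := fun _ _ => rfl
  obtain ⟨t, ht, ht1⟩ := D.π_T i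
  have hc3 : D.π i t ^ 3 = 1 := by rw [← map_pow, D.T_cube t ht, map_one]
  have hg'R : ψ (g * (t * g * t⁻¹)) ∈ R := by
    rw [map_mul, map_mul, map_mul, map_inv]
    exact mul_mem hgR ((Subgroup.mem_normalizer_iff.1 (hR ⟨t, rfl⟩) _).1 hgR)
  let n₁ : N := ⟨⟨_, hgR⟩, ⟨g, rfl⟩⟩
  let n₂ : N := ⟨⟨_, hg'R⟩, ⟨_, rfl⟩⟩
  have hn₁ : ρ n₁ = D.π i g := hρ n₁ g rfl
  have hn₂ : ρ n₂ = D.π i g * (D.π i t * D.π i g * (D.π i t)⁻¹) := by
    rw [hρ n₂ _ rfl]; simp
  haveI : MulAction.IsPretransitive N (Fin 3) := by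
    have h0 : ∀ x : Fin 3, ∃ n : N, n • (0 : Fin 3) = x := fun x => by
      rcases perm_three_odd _ _ ht1 hc3 hg x with e | e | e
      · exact ⟨1, by rw [e, one_smul]⟩
      · exact ⟨n₂, by rw [hsmul, hn₂, e]⟩
      · exact ⟨n₂ ^ 2, by rw [hsmul, map_pow, hn₂, e]⟩
    refine ⟨fun x y => ?_⟩
    obtain ⟨n, rfl⟩ := h0 x
    obtain ⟨m, rfl⟩ := h0 y
    exact ⟨m * n⁻¹, by rw [mul_smul, inv_smul_smul]⟩
  let sgn : N →* ℂˣ := (Units.map ((Int.castRingHom ℂ).toMonoidHom)).comp (Equiv.Perm.sign.comp ρ)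
  let f : N → ℂ := fun n => 2 + (sgn n : ℂ) - (Nat.card (MulAction.fixedBy (Fin 3) n) : ℂ)
  have hgen : IsGeneralizedCharacter N f := by
    have h2 : IsCharacter N (fun _ : N => (2 : ℂ)) := by
      have := isCharacter_add (isCharacter_one (G := N)) (isCharacter_one (G := N))
      have e : ((fun _ : N => (1 : ℂ)) + fun _ => 1) = fun _ => 2 := funext fun _ => by
        simp [one_add_one_eq_two]
      exact e ▸ this
    exact isGeneralized_sub (isGeneralized_of_isCharacter (isCharacter_add h2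
      (isCharacter_monoidHom sgn))) (isGeneralized_of_isCharacter (isCharacter_perm (Fin 3)))
  have hfval : ∀ n : N, f n = ((2 + ((Equiv.Perm.sign (ρ n) : ℤˣ) : ℤ) -
      ((Finset.univ.filter fun x => ρ n x = x).card : ℤ) : ℤ) : ℂ) := fun n => by
    have hfix : Nat.card (MulAction.fixedBy (Fin 3) n) = (Finset.univ.filter fun x => ρ n x = x).card := by
      rw [← Fintype.card_subtype, ← Nat.card_eq_fintype_card]
      exact Nat.card_congr (Equiv.subtypeEquivRight fun x => Iff.rfl)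
    simp only [f, hfix]
    push_cast
    rfl
  -- the support consists of elements of order divisible by three
  let S : Set R := {x | (x : M) ∈ ψ.range ∧ 3 ∣ orderOf x}
  have hsupp3 : ∀ n : N, f n ≠ 0 → 3 ∣ orderOf n := fun n hn => by
    rcases perm_three_value (ρ n) with e | ⟨-, e1, e2⟩
    · exact absurd (by rw [hfval, e, Int.cast_zero]) hn
    · haveI : Fact (Nat.Prime 3) := ⟨Nat.prime_three⟩
      exact orderOf_eq_prime e1 e2 ▸ orderOf_map_dvd ρ n
  have hsupp : ∀ n : N, (n : R) ∉ S → f n = 0 := fun n hn => by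
    by_contra hne
    exact hn ⟨n.2, by rw [Subgroup.orderOf_coe]; exact hsupp3 n hne⟩
  have three_part : ∀ x : R, 3 ∣ orderOf x → orderOf (((x : M)) ^ (orderOf x / 3)) = 3 := fun x hx => by
    have hpos := orderOf_pos x
    rw [← Subgroup.coe_pow, Subgroup.orderOf_coe,
      orderOf_pow_of_dvd (Nat.div_pos (Nat.le_of_dvd hpos hx) (by norm_num)).ne' (Nat.div_dvd_of_dvd hx),
      Nat.div_div_self hx hpos.ne']
  have hTI : ∀ g : R, g ∉ N → ∀ t ∈ S, g * t * g⁻¹ ∈ S → t = 1 := by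
    intro r hr x hx hx'
    exfalso
    refine hr (hS _ (pow_mem hx.1 _) (three_part x hx.2) r ?_)
    rw [← conj_pow]
    exact pow_mem hx'.1 _
  have h1 : f 1 = 0 := by
    rcases perm_three_value (ρ 1) with e | ⟨-, -, e⟩
    · rw [hfval, e, Int.cast_zero]
    · exact absurd (map_one ρ) e
  have hone : classInner f (fun _ => (1 : ℂ)) = 1 := by
    have hsum : ∑ n : N, (sgn n : ℂ) = 0 := by
      refine StrongReal.sum_hom_eq_zero sgn fun hs => ?_
      have := congrArg Units.val (DFunLike.congr_fun hs n₁)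
      simp only [sgn, MonoidHom.comp_apply, MonoidHom.one_apply, Units.coe_map, Units.val_one,
        hn₁, hg] at this
      norm_num at this
    have hburn : ∑ n : N, (Nat.card (MulAction.fixedBy (Fin 3) n) : ℂ) = (Nat.card N : ℂ) := by
      have hb := MulAction.sum_card_fixedBy_eq_card_orbits_mul_card_group N (Fin 3)
      haveI : Subsingleton (Quotient (MulAction.orbitRel N (Fin 3))) :=
        (MulAction.pretransitive_iff_subsingleton_quotient N (Fin 3)).mp inferInstance
      have h1' : Fintype.card (Quotient (MulAction.orbitRel N (Fin 3))) = 1 :=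
        Fintype.card_eq_one_iff.mpr ⟨Quotient.mk'' 0, fun q => Subsingleton.elim _ _⟩
      have h2' : ∑ n : N, Nat.card (MulAction.fixedBy (Fin 3) n) = Nat.card N := by
        simp only [Nat.card_eq_fintype_card]
        rw [h1', one_mul] at hb
        exact hb
      exact_mod_cast h2'
    simp only [classInner, f, map_one, mul_one]
    rw [Finset.sum_sub_distrib, Finset.sum_add_distrib, hsum, hburn, Finset.sum_const,
      Finset.card_univ, nsmul_eq_mul, ← Nat.card_eq_fintype_card, add_zero]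
    have : (Nat.card N : ℂ) ≠ 0 := Nat.cast_ne_zero.mpr Nat.card_pos.ne'
    field_simp
    ring
  have hnorm : classInner f f = 3 := by
    have e : classInner f f = 3 * classInner f (fun _ => (1 : ℂ)) := by
      simp only [classInner, Finset.mul_sum]
      refine Finset.sum_congr rfl fun n _ => ?_
      rcases perm_three_value (ρ n) with e | ⟨e, -⟩ <;> rw [hfval n, e] <;> push_cast <;>
        simp only [map_zero, map_ofNat, map_one] <;> ring
    rw [e, hone, mul_one]
  have hdd : ψ d * ψ d = 1 := by rw [← map_mul, D.d_sq, map_one]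
  refine exists_normal_of_norm_three_set N S hTI f hgen hsupp h1 hnorm hone _ ?_ ?_
  · rintro a ⟨-, haa⟩ r hr
    have h4 : (r * a * r⁻¹) ^ 4 = 1 := by
      rw [conj_pow]
      have : a ^ 4 = 1 := Subtype.ext (by
        rw [Subgroup.coe_pow, Subgroup.coe_one, show (4 : ℕ) = 2 * 2 from rfl, pow_mul, sq, sq, haa, hdd])
      rw [this, mul_one, mul_inv_cancel]
    exact absurd (hr.2.trans (orderOf_dvd_of_pow_eq_one h4)) (by norm_num)
  · rintro a ⟨-, haa⟩ n hn u v hu hv e
    have hconj : ∀ w : R, IsConj a w → (w : M) * w = ψ d := by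
      intro w hw
      obtain ⟨r, rfl⟩ := isConj_iff.mp hw
      simp only [Subgroup.coe_mul, InvMemClass.coe_inv]
      calc (r : M) * a * (r : M)⁻¹ * (r * a * (r : M)⁻¹) = r * ((a : M) * a) * (r : M)⁻¹ := by group
        _ = ψ d := by rw [haa, hc, mul_inv_cancel_right]
    have hinv : (u : M) * (n : R) * (u : M)⁻¹ = ((n : R) : M)⁻¹ := by
      rw [← e, Subgroup.coe_mul]
      exact mul_eq_inv_mul (hconj u hu) (hconj v hv) hc hdd
    have h3 : 3 ∣ orderOf (n : R) := by rw [Subgroup.orderOf_coe]; exact hsupp3 n hn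
    have hxi : (u : M) * ((n : R) : M) ^ (orderOf (n : R) / 3) * (u : M)⁻¹ =
        (((n : R) : M) ^ (orderOf (n : R) / 3))⁻¹ := by rw [← conj_pow, hinv, inv_pow]
    have hxm : ((n : R) : M) ^ (orderOf (n : R) / 3) ∈ ψ.range := pow_mem n.2 _
    have humem : (u : M) ∈ ψ.range := hS _ hxm (three_part _ h3) u (hxi ▸ inv_mem hxm)
    exact D.not_inverts hψ humem hxm (hconj u hu) (three_part _ h3) hxi

include hψ hS hc in
/-- Subgroups normalised by the centraliser and containing `O` normalise `O`. -/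
theorem normalize_O (n : ℕ) : ∀ R : Subgroup M, Nat.card R ≤ n → D.O.map ψ ≤ R →
    ψ.range ≤ Subgroup.normalizer (R : Set M) → R ≤ Subgroup.normalizer ((D.O.map ψ : Subgroup M) : Set M) := by
  induction n with
  | zero => exact fun R h => absurd h (by have := Nat.card_pos (α := R); omega)
  | succ n ih =>
  intro R hn hOR hR
  by_cases hodd : ∃ i g, ψ g ∈ R ∧ Equiv.Perm.sign (D.π i g) = -1
  · obtain ⟨i, g, hgR, hg⟩ := hodd
    obtain ⟨K, hKn, hKt, hEK⟩ := D.exists_normal hψ hS hc hOR hR i hgR hg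
    set Km := K.map R.subtype
    let K' : Subgroup M := ⨅ m : ψ.range, Km.comap (MulAut.conj (m : M)).toMonoidHom
    have hmem : ∀ r, r ∈ K' ↔ ∀ m ∈ ψ.range, m * r * m⁻¹ ∈ Km := fun r => by
      simp [K', Subgroup.mem_iInf]
    have hK'R : K' ≤ Km := fun r hr => by simpa using (hmem r).1 hr 1 (one_mem _)
    have hlt : Nat.card K' < Nat.card R := by
      refine lt_of_le_of_lt (Nat.le_of_dvd Nat.card_pos (Subgroup.card_dvd_of_le hK'R)) ?_
      rw [Subgroup.card_map_of_injective R.subtype_injective]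
      exact lt_of_le_of_ne (Subgroup.card_le_card_group K) fun e => hKt (Subgroup.card_eq_iff_eq_top _ |>.1 e)
    have hOKm : D.O.map ψ ≤ Km := by
      refine (Subgroup.map_mono D.gen).trans ?_
      rw [closure_range_map, Subgroup.closure_le]
      rintro _ ⟨j, rfl⟩
      have hj : ψ (D.a j) ∈ D.O.map ψ := Subgroup.mem_map_of_mem ψ (D.sq_mem _ (D.a_sq j))
      exact ⟨⟨_, hOR hj⟩, hEK ⟨⟨_, rfl⟩, by rw [← map_mul, D.a_sq]⟩, rfl⟩
    have hOK : D.O.map ψ ≤ K' := fun o ho => (hmem o).2 fun m hm =>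
      hOKm ((Subgroup.mem_normalizer_iff.1 (D.le_normalizer_O hm) o).1 ho)
    have hMK : ψ.range ≤ Subgroup.normalizer (K' : Set M) := fun m hm =>
      mem_normalizer_of_forall fun r hr => (hmem _).2 fun m' hm' => by
        rw [show m' * (m * r * m⁻¹) * m'⁻¹ = m' * m * r * (m' * m)⁻¹ by group]
        exact (hmem r).1 hr _ (mul_mem hm' hm)
    have hRK : R ≤ Subgroup.normalizer (K' : Set M) := fun r hr =>
      mem_normalizer_of_forall fun x hx => (hmem _).2 fun m hm => by
        obtain ⟨y, hy, ey⟩ := (hmem x).1 hx m hm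
        have hr' : m * r * m⁻¹ ∈ R := (Subgroup.mem_normalizer_iff.1 (hR hm) r).1 hr
        refine ⟨⟨_, hr'⟩ * y * ⟨_, hr'⟩⁻¹, hKn.conj_mem y hy _, ?_⟩
        simp only [Subgroup.coe_subtype, Subgroup.coe_mul, InvMemClass.coe_inv]
        rw [show (y : M) = m * x * m⁻¹ from ey]
        group
    have hON := ih K' (by omega) hOK hMK
    -- `O` is the `3'`-core of `K'`
    set Q := (Cfsg.pPrimeCore 3 K').map K'.subtype
    have hO' : D.O.map ψ ≤ Q := by
      rw [← Subgroup.map_subgroupOf_eq_of_le hOK]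
      refine Subgroup.map_mono (le_sSup ⟨(Subgroup.normal_subgroupOf_iff_le_normalizer hOK).2 hON, ?_⟩)
      rw [Nat.card_congr (Subgroup.subgroupOfEquivOfLe hOK).toEquiv]
      exact (Nat.prime_three.coprime_iff_not_dvd.2 (D.card_O hψ)).symm
    have hQ : Q ≤ D.O.map ψ := by
      refine D.le_O hψ hS ?_ ?_
      · rw [Subgroup.card_map_of_injective K'.subtype_injective]
        exact Nat.prime_three.coprime_iff_not_dvd.1 (CfsgLib.Transfer.pPrimeCore_coprime 3).symm
      · exact CfsgLib.PSolvable.le_normalizer_map_of_characteristic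
          ((Subgroup.map_le_range ψ _).trans hMK) _
    rw [le_antisymm hO' hQ]
    exact CfsgLib.PSolvable.le_normalizer_map_of_characteristic hRK _
  · push Not at hodd
    set W := R ⊔ D.T.map ψ
    have hR0 : ∀ r ∈ R, r ∈ ψ.range → r ∈ D.O.map ψ ⊔ D.T.map ψ := by
      rintro _ hr ⟨g, rfl⟩
      rw [← Subgroup.map_sup]
      exact Subgroup.mem_map_of_mem ψ (D.π_sign g fun i =>
        (Int.units_eq_one_or _).resolve_right (hodd i g hr))
    have hTR : D.T.map ψ ≤ Subgroup.normalizer (R : Set M) := (Subgroup.map_le_range ψ _).trans hR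
    have hW := D.small hψ hS (W := W) le_sup_right fun w hw hwM hwN => by
      rw [← SetLike.mem_coe, Subgroup.coe_mul_of_right_le_normalizer_left _ _ hTR, Set.mem_mul] at hw
      obtain ⟨r, hr, t, ht, rfl⟩ := hw
      refine D.sup_cases hψ (mul_mem (hR0 r hr ?_) (Subgroup.mem_sup_right ht)) hwN
      have := mul_mem hwM (inv_mem (Subgroup.map_le_range ψ _ ht))
      rwa [mul_inv_cancel_right] at this
    exact le_sup_left.trans (hW.trans (sup_le Subgroup.le_normalizer
      ((Subgroup.map_le_range ψ _).trans D.le_normalizer_O)))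

end

include D in
/-- The group is the centraliser. -/
theorem surjective (hψ : Function.Injective ψ) (hS : Strong ψ.range)
    (hc : ∀ g, g * ψ d = ψ d * g) : Function.Surjective ψ := by
  classical
  haveI : Fact (Nat.Prime 3) := ⟨Nat.prime_three⟩
  haveI : Finite C := Finite.of_injective ψ hψ
  have hN := D.normalize_O hψ hS hc (Nat.card (⊤ : Subgroup M)) ⊤ le_rfl le_top
    (fun _ _ => Subgroup.le_normalizer trivial)
  set Cm := Subgroup.centralizer ((D.O.map ψ : Subgroup M) : Set M)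
  have hCN : ∀ g : M, g ∈ Subgroup.normalizer (Cm : Set M) := fun g =>
    mem_normalizer_of_forall fun c hcm o ho => by
      have h1 : g⁻¹ * o * g ∈ D.O.map ψ := (Subgroup.mem_normalizer_iff''.1 (hN trivial) o).1 ho
      have h2 := hcm _ h1
      calc o * (g * c * g⁻¹) = g * (g⁻¹ * o * g * c) * g⁻¹ := by group
        _ = g * (c * (g⁻¹ * o * g)) * g⁻¹ := by rw [h2]
        _ = _ := by group
  have hcentT : ∀ c ∈ Cm, c ∈ ψ.range → ∀ t ∈ D.T.map ψ, c * t = t * c := by
    rintro _ hcm ⟨c, rfl⟩ _ ⟨t, ht, rfl⟩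
    rw [← map_mul, ← map_mul, D.cent_T c (fun o ho => hψ ?_) t ht]
    rw [map_mul, map_mul]
    exact (hcm _ (Subgroup.mem_map_of_mem ψ ho)).symm
  have hW := D.small hψ hS (W := Cm ⊔ D.T.map ψ) le_sup_right fun w hw hwM _ => by
    rw [← SetLike.mem_coe, Subgroup.coe_mul_of_right_le_normalizer_left _ _ (fun g _ => hCN g),
      Set.mem_mul] at hw
    obtain ⟨c, hcm, s, hs, rfl⟩ := hw
    intro t ht
    have hcM : c ∈ ψ.range := by
      have := mul_mem hwM (inv_mem (Subgroup.map_le_range ψ _ hs))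
      rwa [mul_inv_cancel_right] at this
    rw [mul_assoc, D.T_comm' hs ht, ← mul_assoc, hcentT c hcm hcM t ht, mul_assoc]
  have hCm : Cm ≤ ψ.range :=
    le_sup_left.trans (hW.trans (sup_le (Subgroup.map_le_range ψ _) (Subgroup.map_le_range ψ _)))
  -- counting automorphisms of `O`
  have hC0 : Nat.card Cm ≤ Nat.card (Subgroup.centralizer (D.O : Set C)) := by
    refine Nat.card_le_card_of_injective (fun c => ⟨(MonoidHom.ofInjective hψ).symm ⟨c, hCm c.2⟩,
      fun o ho => hψ ?_⟩) fun x y e => ?_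
    · rw [map_mul, map_mul, MonoidHom.apply_ofInjective_symm]
      exact c.2 _ (Subgroup.mem_map_of_mem ψ ho)
    · have e1 := congrArg (fun z : Subgroup.centralizer (D.O : Set C) => ψ z.1) e
      simp only [MonoidHom.apply_ofInjective_symm] at e1
      exact Subtype.ext e1
  have hidx : Cm.index ≤ Nat.card {v : Fin D.k → C // (∀ i, v i * v i = d) ∧
      ∀ i j, (v i * v j = v j * v i ↔ D.a i * D.a j = D.a j * D.a i)} := by
    have haO : ∀ i (g : M), ∃ c, ψ c = g * ψ (D.a i) * g⁻¹ := fun i g => Subgroup.map_le_range ψ _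
      ((Subgroup.mem_normalizer_iff.1 (hN (Subgroup.mem_top g)) _).1
        (Subgroup.mem_map_of_mem ψ (D.sq_mem _ (D.a_sq i))))
    choose b hb using haO
    refine Nat.card_le_card_of_injective (fun q : M ⧸ Cm => ⟨fun i => b i q.out, fun i => hψ ?_,
      fun i j => ?_⟩) fun q q' e => ?_
    · rw [map_mul, hb]
      calc q.out * ψ (D.a i) * q.out⁻¹ * (q.out * ψ (D.a i) * q.out⁻¹) =
          q.out * (ψ (D.a i) * ψ (D.a i)) * q.out⁻¹ := by group
        _ = ψ d := by rw [← map_mul, D.a_sq, hc, mul_inv_cancel_right]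
    · rw [← hψ.eq_iff, ← hψ.eq_iff (a := D.a i * D.a j), map_mul, map_mul, map_mul, map_mul, hb, hb]
      have cm : ∀ x y : M, q.out * x * q.out⁻¹ * (q.out * y * q.out⁻¹) = q.out * (x * y) * q.out⁻¹ :=
        fun x y => by group
      rw [cm, cm, mul_left_inj, mul_right_inj]
    · have e' : ∀ i, b i q.out = b i q'.out := fun i => congrFun (congrArg Subtype.val e) i
      rw [← q.out_eq, ← q'.out_eq]
      refine QuotientGroup.eq.2 ?_
      rw [Subgroup.mem_centralizer_iff]
      intro o ho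
      have hle : D.O.map ψ ≤ Subgroup.centralizer ({q.out⁻¹ * q'.out} : Set M) := by
        refine (Subgroup.map_mono D.gen).trans ?_
        rw [closure_range_map, Subgroup.closure_le]
        rintro _ ⟨i, rfl⟩
        rw [SetLike.mem_coe, Subgroup.mem_centralizer_singleton_iff]
        have := hb i q.out
        rw [e', hb] at this
        calc ψ (D.a i) * (q.out⁻¹ * q'.out) = q.out⁻¹ * (q.out * ψ (D.a i) * q.out⁻¹) * q'.out := by group
          _ = q.out⁻¹ * (q'.out * ψ (D.a i) * q'.out⁻¹) * q'.out := by rw [this]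
          _ = _ := by group
      exact Subgroup.mem_centralizer_singleton_iff.1 (hle ho)
  have hlt : ψ.range.index < 4 := by
    have h1 := Cm.card_mul_index
    have h2 := ψ.range.card_mul_index
    rw [← Nat.card_congr (MonoidHom.ofInjective hψ).toEquiv] at h2
    have h3 := Nat.mul_le_mul hC0 hidx
    have h4 := D.bound
    by_contra hge
    have h5 := Nat.mul_le_mul_left (Nat.card C) (not_lt.1 hge)
    rw [mul_comm] at h4
    omega
  -- the fixed cosets of `T`
  have hfix : Nat.card (MulAction.fixedPoints (D.T.map ψ) (M ⧸ ψ.range)) = 1 := by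
    rw [Nat.card_eq_one_iff_unique]
    refine ⟨⟨fun x y => ?_⟩, ⟨⟨QuotientGroup.mk 1, fun t => ?_⟩⟩⟩
    · suffices ∀ z : MulAction.fixedPoints (D.T.map ψ) (M ⧸ ψ.range), z.1 = QuotientGroup.mk 1 from
        Subtype.ext ((this x).trans (this y).symm)
      rintro ⟨z, hz⟩
      obtain ⟨g, rfl⟩ := QuotientGroup.mk_surjective z
      obtain ⟨t, ht, h1⟩ := D.π_T true
      have htne : ψ t ≠ 1 := fun e => h1 (by rw [hψ (e.trans (map_one ψ).symm), map_one])
      have e := hz ⟨ψ t, Subgroup.mem_map_of_mem ψ ht⟩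
      rw [show (⟨ψ t, _⟩ : D.T.map ψ) • (QuotientGroup.mk g : M ⧸ ψ.range) =
        QuotientGroup.mk (ψ t * g) from rfl, eq_comm, QuotientGroup.eq] at e
      refine QuotientGroup.eq.2 ?_
      rw [mul_one]
      refine hS (ψ t) ⟨t, rfl⟩ (D.orderOf_T hψ (Subgroup.mem_map_of_mem ψ ht) htne) g⁻¹ ?_
      rwa [inv_inv, mul_assoc]
    · rw [show t • (QuotientGroup.mk 1 : M ⧸ ψ.range) = QuotientGroup.mk ((t : M) * 1) from rfl,
        QuotientGroup.eq]
      simpa using inv_mem (Subgroup.map_le_range ψ _ t.2)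
  have hmod := (IsPGroup.of_card (n := 2) (show Nat.card (D.T.map ψ) = 3 ^ 2 by
    rw [D.card_T' hψ]; norm_num)).card_modEq_card_fixedPoints (M ⧸ ψ.range)
  rw [hfix, Nat.ModEq] at hmod
  change ψ.range.index % 3 = 1 % 3 at hmod
  have h0 : ψ.range.index ≠ 0 := Subgroup.index_ne_zero_of_finite
  exact MonoidHom.range_eq_top.1 (Subgroup.index_eq_one.1 (by omega))

end CentData

end CfsgLib.LFourThree
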