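import Mathlib
import Cfsg.Agent.Lib.LFourThree.InvCentCore
import Cfsg.Agent.Lib.LFourThree.Blocks

/-!
The centraliser of `diag (1,-1,-1,1)` in the parabolic `3^3 : SL(3,3)` is not strongly 3-embedded
in a larger group in which this element stays central.
-/

set_option autoImplicit false
set_option maxRecDepth 100000
set_option synthInstance.maxSize 2000

namespace CfsgLib.LFourThree

open Count Blocks

namespace InvPar

/-- The centraliser. -/
abbrev CZ : Type := ↥(Subgroup.centralizer ({dpara} : Set para))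

/-- The block data of an element. -/
def blk (a h : ZMod 3) (B : Q) : Blk := (false, (1, a, 0, h), B)

/-- `x` represents `g`. -/
def Rep (g : CZ) (x : Blk) : Prop :=
  g.1.1.1 = toM x ∧ Ok x ∧ ∃ a h B, x = blk a h B

theorem exists_rep (g : CZ) : ∃ x, Rep g x := by
  have hc : g.1.1.1 * dmat.1 = dmat.1 * g.1.1.1 :=
    congrArg (fun x : para => x.1.1) (Subgroup.mem_centralizer_singleton_iff.1 g.2)
  obtain ⟨⟨s, ⟨p, q, r, t⟩, B⟩, hx, hs, e⟩ := exists_blk_of_commute g.1.1.2 hc
  simp only at hs
  subst hs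
  refine ⟨_, e.symm, hx, q, t, B, ?_⟩
  obtain ⟨b1, b2, b3, b4⟩ := B
  have h0 := para_apply g.1 0
  have h3 := para_apply g.1 3
  rw [← e] at h0 h3
  simp [toM] at h0 h3
  simp [blk, h0, h3]

/-- A representative. -/
noncomputable def rep (g : CZ) : Blk := (exists_rep g).choose

theorem rep_spec (g : CZ) : Rep g (rep g) := (exists_rep g).choose_spec

theorem rep_unique {g g' : CZ} {x y : Blk} (h : Rep g x) (h' : Rep g' y) : g = g' ↔ x = y := by
  constructor
  · rintro rfl
    exact toM_inj h.2.1 h'.2.1 (h.1.symm.trans h'.1)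
  · rintro rfl
    exact Subtype.ext (Subtype.ext (Subtype.ext (h.1.trans h'.1.symm)))

theorem Rep.mul {g g' : CZ} {x y : Blk} (h : Rep g x) (h' : Rep g' y) : Rep (g * g') (bmul x y) := by
  refine ⟨?_, h.2.1.mul h'.2.1, ?_⟩
  · rw [toM_bmul, ← h.1, ← h'.1]
    rfl
  · obtain ⟨a, k, B, rfl⟩ := h.2.2
    obtain ⟨a', k', B', rfl⟩ := h'.2.2
    exact ⟨a' + a * k', k * k', qmul B B', by simp [bmul, blk, qmul]⟩

theorem exists_of_blk (a h : ZMod 3) (B : Q) (hok : Ok (blk a h B)) : ∃ g : CZ, Rep g (blk a h B) := by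
  obtain ⟨e1, e2, e3, e4⟩ := B
  have hc : toM (blk a h (e1, e2, e3, e4)) * dmat.1 = dmat.1 * toM (blk a h (e1, e2, e3, e4)) := by
    ext i j
    fin_cases i <;> fin_cases j <;> simp [toM, blk, dmat, Matrix.mul_diagonal, Matrix.diagonal_mul]
  obtain ⟨g, hg⟩ : ∃ g : SL4, g.1 = toM (blk a h (e1, e2, e3, e4)) :=
    ⟨⟨_, (det_blocks _ hc).trans hok⟩, rfl⟩
  have hmem : g ∈ para := fun i => by
    rw [hg]
    fin_cases i <;> simp [toM, blk, Matrix.one_apply]
  refine ⟨⟨⟨g, hmem⟩, Subgroup.mem_centralizer_singleton_iff.2 (Subtype.ext (Subtype.ext ?_))⟩,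
    hg, hok, a, h, _, rfl⟩
  show g.1 * dmat.1 = dmat.1 * g.1
  rw [hg, hc]

theorem aff_mul : ∀ ε η a b : ZMod 3, ε ≠ 0 → η ≠ 0 → aff (ε * η) (a + ε * b) = aff ε a * aff η b := by
  decide +kernel

/-- The two maps on the model. -/
def bq (i : Bool) : Blk → Equiv.Perm (Fin 3)
  | (_, A, B) => aff (qdet A) (if i then shift B else shift A)

theorem bq_mul (i : Bool) {x y : Blk} (hx : Ok x) (hy : Ok y) (ht : y.1 = false) :
    bq i (bmul x y) = bq i x * bq i y := by
  obtain ⟨hA, hB⟩ := hx.det_ne
  obtain ⟨hC, hD⟩ := hy.det_ne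
  obtain ⟨s, A, B⟩ := x
  obtain ⟨t, C, D⟩ := y
  simp only at hA hB hC hD ht
  subst ht
  have hAB : qdet B = qdet A := (ok_dets _ _ hx).2
  cases i <;>
    simp only [bq, bmul, Bool.false_eq_true, if_false, if_true, qdet_mul, shift_mul _ _ hA hC,
      shift_mul _ _ hB hD, hAB] <;>
    exact aff_mul _ _ _ _ hA hC

/-- The two maps to the symmetric group on three points. -/
noncomputable def piHom (i : Bool) : CZ →* Equiv.Perm (Fin 3) :=
  MonoidHom.mk' (fun g => bq i (rep g)) fun g g' => by
    rw [(rep_unique (rep_spec (g * g')) ((rep_spec g).mul (rep_spec g'))).1 rfl,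
      bq_mul i (rep_spec g).2.1 (rep_spec g').2.1 (by
        obtain ⟨a, h, B, e⟩ := (rep_spec g').2.2
        rw [e]; rfl)]

theorem piHom_apply (i : Bool) {g : CZ} {x : Blk} (h : Rep g x) : piHom i g = bq i x :=
  congrArg (bq i) ((rep_unique (rep_spec g) h).1 rfl)

theorem aff_eq_one : ∀ ε a : ZMod 3, ε ≠ 0 → aff ε a = 1 → ε = 1 ∧ a = 0 := by decide +kernel

theorem aff_even : ∀ ε a : ZMod 3, ε ≠ 0 → Equiv.Perm.sign (aff ε a) = 1 → ε = 1 := by decide +kernel

theorem upper_eq : ∀ a h : ZMod 3, qdet (1, a, 0, h) = 1 → ((1, a, 0, h) : Q) = qt a := by decide +kernel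

/-- The element `dpara`. -/
noncomputable abbrev dZ : CZ := ⟨dpara, Subgroup.mem_centralizer_singleton_iff.2 rfl⟩

/-- The model of `dpara`. -/
def bd : Blk := (false, qone, qneg qone)

theorem rep_d : Rep dZ bd :=
  ⟨by decide +kernel, by unfold Ok; decide +kernel, 0, 1, qneg qone, rfl⟩

theorem rep_one : Rep (1 : CZ) (false, qone, qone) :=
  ⟨by decide +kernel, by unfold Ok; decide +kernel, 0, 1, qone, rfl⟩

theorem exists_det_one (a : ZMod 3) (B : Q) (hB : qdet B = 1) : ∃ g : CZ, Rep g (false, qt a, B) :=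
  exists_of_blk a 1 B (by unfold Ok; show qdet (qt a) * qdet B = 1; rw [(shift_qt a).1, hB, one_mul])

/-- The element of order three with the given translations. -/
noncomputable def tEl (a : ZMod 3 × ZMod 3) : CZ :=
  (exists_det_one a.1 (qt a.2) (shift_qt a.2).1).choose

theorem rep_tEl (a : ZMod 3 × ZMod 3) : Rep (tEl a) (false, qt a.1, qt a.2) :=
  (exists_det_one a.1 (qt a.2) (shift_qt a.2).1).choose_spec

theorem qt_table : ∀ a b : ZMod 3, qmul (qt a) (qt b) = qt (a + b) := by decide +kernel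

theorem qt_inj : ∀ a b a' b' : ZMod 3, ((false, qt a, qt b) : Blk) = (false, qt a', qt b') →
    a = a' ∧ b = b' := by decide +kernel

/-- The group of order nine. -/
noncomputable def tHom : Multiplicative (ZMod 3 × ZMod 3) →* CZ :=
  MonoidHom.mk' (fun a => tEl a.toAdd) fun a b => by
    refine (rep_unique (rep_tEl _) ((rep_tEl _).mul (rep_tEl _))).2 ?_
    simp [bmul, qt_table]

theorem tHom_injective : Function.Injective tHom := fun a b e => by
  obtain ⟨h1, h2⟩ := qt_inj _ _ _ _ ((rep_unique (rep_tEl _) (rep_tEl _)).1 e)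
  exact Multiplicative.toAdd.injective (Prod.ext h1 h2)

theorem quat_det : ∀ n : Fin 6, qdet (quat n) = 1 ∧ shift (quat n) = 0 := by decide +kernel

/-- The square roots of `d` in the block of `(1,2)`. -/
noncomputable def aEl (n : Fin 6) : CZ := (exists_det_one 0 (quat n) (quat_det n).1).choose

theorem rep_aEl (n : Fin 6) : Rep (aEl n) (false, qone, quat n) :=
  (exists_det_one 0 (quat n) (quat_det n).1).choose_spec

theorem upper_sq : ∀ a : ZMod 3, qmul (qt a) (qt a) = qone → a = 0 := by decide +kernel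

theorem sq_cases {g : CZ} (h : g * g = dZ) : ∃ n, Rep g (false, qone, quat n) := by
  obtain ⟨x, hx⟩ := exists_rep g
  have e := (rep_unique (hx.mul hx) rep_d).1 h
  obtain ⟨a, k, B, rfl⟩ := hx.2.2
  simp only [bmul, blk, bd, Bool.false_eq_true, if_false, Prod.mk.injEq, true_and] at e
  obtain ⟨hA, hB⟩ := e
  obtain ⟨d, -, m, rfl⟩ := sq_neg_one B hB
  have dA : qdet (1, a, 0, k) = 1 := by
    have : qdet (1, a, 0, k) * qdet (quat m) = 1 := hx.2.1
    rwa [d, mul_one] at this
  refine ⟨m, ?_⟩
  have hu := upper_eq a k dA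
  unfold blk at hx
  rw [hu] at hx hA
  rw [upper_sq a hA] at hx
  exact hx

theorem comm_iff {g g' : CZ} {m n : Fin 6} (h : Rep g (false, qone, quat m)) (h' : Rep g' (false, qone, quat n)) :
    g * g' = g' * g ↔ qmul (quat m) (quat n) = qmul (quat n) (quat m) := by
  rw [rep_unique (h.mul h') (h'.mul h)]
  simp [bmul]

/-- Good pairs. -/
def pairs : Finset (Fin 6 × Fin 6) :=
  Finset.univ.filter fun p => qmul (quat p.1) (quat p.2) ≠ qmul (quat p.2) (quat p.1)

theorem card_pairs : pairs.card = 24 := by decide +kernel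

/-- The two generators. -/
def gi : Fin 2 → Fin 6 := ![0, 2]

theorem gi_noncomm : qmul (quat (gi 0)) (quat (gi 1)) ≠ qmul (quat (gi 1)) (quat (gi 0)) := by decide +kernel

theorem kernel_words : ∀ B : Q, qdet B = 1 → shift B = 0 →
    ∃ u v : Fin 2, ∃ w : Fin 2,
      qmul (if u = 0 then qone else qi) (qmul (if v = 0 then qone else qj) (if w = 0 then qone else qmul qi qi)) = B := by
  decide +kernel

/-- The blocks with a given first row. -/
def units : Finset (ZMod 3 × Q) := Finset.univ.filter fun p => qdet p.2 ≠ 0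

theorem card_units : units.card = 144 := by decide +kernel

theorem upper_det : ∀ a k : ZMod 3, qdet (1, a, 0, k) = k := by decide +kernel

theorem sq_one_of_ne : ∀ k : ZMod 3, k ≠ 0 → k * k = 1 := by decide

theorem card_CZ : Nat.card CZ = 144 := by
  classical
  rw [← card_units, ← Nat.card_eq_finsetCard]
  refine le_antisymm ?_ ?_
  · choose a k B hb using fun g : CZ => (rep_spec g).2.2
    refine Nat.card_le_card_of_injective (fun g => ⟨(a g, B g), ?_⟩) fun g g' e => ?_
    · have := (rep_spec g).2.1.det_ne.2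
      rw [hb] at this
      exact Finset.mem_filter.2 ⟨Finset.mem_univ _, this⟩
    · have e1 := congrArg (fun p : units => p.1.1) e
      have e2 := congrArg (fun p : units => p.1.2) e
      simp only at e1 e2
      have hk : ∀ g, k g = qdet (B g) := fun g => by
        have := (rep_spec g).2.1
        rw [hb] at this
        have h2 : qdet (1, a g, 0, k g) * qdet (B g) = 1 := this
        rw [(ok_dets _ _ h2).2, upper_det]
      refine (rep_unique (rep_spec g) (rep_spec g')).2 ?_
      rw [hb, hb, hk, hk, e1, e2]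
  · have h : ∀ p : units, ∃ g : CZ, Rep g (blk p.1.1 (qdet p.1.2) p.1.2) := fun p =>
      exists_of_blk _ _ _ (by
        show qdet (1, p.1.1, 0, qdet p.1.2) * qdet p.1.2 = 1
        rw [upper_det]
        exact sq_one_of_ne _ (Finset.mem_filter.1 p.2).2)
    choose g hg using h
    refine Nat.card_le_card_of_injective g fun p p' e => ?_
    have := (rep_unique (hg p) (hg p')).1 e
    simp only [blk, Prod.mk.injEq, true_and] at this
    exact Subtype.ext (Prod.ext this.1.1 this.2)

theorem scalar_of_commutes {c : CZ} (hc : ∀ n : Fin 2, c * aEl (gi n) = aEl (gi n) * c) :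
    ∃ a B, Rep c (false, qt a, B) ∧ (B = qone ∨ B = qneg qone) := by
  obtain ⟨x, hx⟩ := exists_rep c
  obtain ⟨a, k, B, rfl⟩ := hx.2.2
  have hdet := hx.2.1.det_ne
  have h : ∀ n, qmul B (quat (gi n)) = qmul (quat (gi n)) B := fun n => by
    have := (rep_unique (hx.mul (rep_aEl _)) ((rep_aEl _).mul hx)).1 (hc n)
    simp only [bmul, blk, Bool.false_eq_true, if_false, Prod.mk.injEq, true_and] at this
    exact this.2
  have hB := scalar_of_comm B hdet.2 (h 0) (h 1)
  refine ⟨a, B, ?_, hB⟩
  have h1 : qdet B = 1 := by rcases hB with e | e <;> rw [e] <;> decide +kernel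
  have h2 : qdet (1, a, 0, k) * qdet B = 1 := hx.2.1
  rw [h1, mul_one] at h2
  rw [← upper_eq a k h2]
  exact hx

theorem scalar_comm_t : ∀ c : ZMod 3, ∀ B : Q, B = qone ∨ B = qneg qone → ∀ a b : ZMod 3,
    bmul (false, qt c, B) (false, qt a, qt b) = bmul (false, qt a, qt b) (false, qt c, B) := by
  decide +kernel

theorem mem_ker_aEl (n : Fin 6) : aEl n ∈ (piHom false).ker ⊓ (piHom true).ker := by
  rw [Subgroup.mem_inf, MonoidHom.mem_ker, MonoidHom.mem_ker, piHom_apply _ (rep_aEl n),
    piHom_apply _ (rep_aEl n)]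
  revert n
  decide +kernel

theorem ker_cases {g : CZ} (h : g ∈ (piHom false).ker ⊓ (piHom true).ker) :
    ∃ B, Rep g (false, qone, B) ∧ qdet B = 1 ∧ shift B = 0 := by
  obtain ⟨x, hx⟩ := exists_rep g
  obtain ⟨a, k, B, rfl⟩ := hx.2.2
  obtain ⟨h1, h2⟩ := Subgroup.mem_inf.1 h
  rw [MonoidHom.mem_ker, piHom_apply _ hx] at h1 h2
  obtain ⟨dA, rA⟩ := aff_eq_one _ _ hx.2.1.det_ne.1 h1
  obtain ⟨-, rB⟩ := aff_eq_one _ _ hx.2.1.det_ne.1 h2
  simp only [Bool.false_eq_true, if_false, if_true] at rA rB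
  have dB : qdet B = 1 := ((ok_dets _ _ hx.2.1).2).trans dA
  have hu := upper_eq a k dA
  rw [hu, (shift_qt a).2] at rA
  refine ⟨B, ?_, dB, rB⟩
  unfold blk at hx
  rw [hu, rA] at hx
  exact hx

/-- The data of the centraliser. -/
noncomputable def data : CentData CZ dZ where
  O := (piHom false).ker ⊓ (piHom true).ker
  T := tHom.range
  O_normal := inferInstance
  O_coprime := fun h => by
    haveI : Fact (Nat.Prime 3) := ⟨Nat.prime_three⟩
    obtain ⟨⟨g, hg⟩, e⟩ := exists_prime_orderOf_dvd_card' 3 h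
    rw [Subgroup.orderOf_mk] at e
    obtain ⟨B, hx, dB, rB⟩ := ker_cases hg
    have e4 : g * g * (g * g) = 1 := (rep_unique ((hx.mul hx).mul (hx.mul hx)) rep_one).2 (by
      simp [bmul, kernel_pow_four B dB rB, kernel_pow_four qone (by decide +kernel) (by decide +kernel)])
    have := orderOf_dvd_of_pow_eq_one (x := g) (n := 4)
      (by rw [pow_succ, pow_succ, pow_succ, pow_one, mul_assoc (g * g), e4])
    rw [e] at this
    norm_num at this
  d_sq := (rep_unique (rep_d.mul rep_d) rep_one).2 (by decide +kernel)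
  d_ne := fun h => by
    have := (rep_unique rep_d rep_one).1 h
    revert this
    decide +kernel
  sq_mem := fun u hu => by
    obtain ⟨n, hn⟩ := sq_cases hu
    rw [(rep_unique hn (rep_aEl n)).2 rfl]
    exact mem_ker_aEl n
  T_comm := by
    rintro _ ⟨a, rfl⟩ _ ⟨b, rfl⟩
    rw [← map_mul, mul_comm, map_mul]
  T_cube := by
    rintro _ ⟨a, rfl⟩
    rw [← map_pow]
    have : a ^ 3 = 1 := by revert a; decide +kernel
    rw [this, map_one]
  T_card := by
    rw [← Nat.card_congr (MonoidHom.ofInjective tHom_injective).toEquiv, Nat.card_eq_fintype_card]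
    rfl
  not27 := by rw [card_CZ]; norm_num
  π := piHom
  π_ker := fun g h => ⟨h false, h true⟩
  π_T := fun i => ⟨tHom (Multiplicative.ofAdd (1, 1)), ⟨_, rfl⟩, fun h => by
    have e : piHom i (tEl (1, 1)) = 1 := h
    rw [piHom_apply i (rep_tEl _)] at e
    exact absurd e (by clear h e; revert i; decide +kernel)⟩
  π_sign := fun g h => by
    obtain ⟨x, hx⟩ := exists_rep g
    obtain ⟨⟨s, A, B⟩, rfl⟩ : ∃ y : Blk, y = x := ⟨x, rfl⟩
    have h1 := h false
    rw [piHom_apply _ hx] at h1
    have hd := aff_even _ _ hx.2.1.det_ne.1 h1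
    have hg : g = g * (tHom (Multiplicative.ofAdd (shift A, shift B)))⁻¹ *
        tHom (Multiplicative.ofAdd (shift A, shift B)) := (inv_mul_cancel_right _ _).symm
    rw [hg]
    refine Subgroup.mul_mem_sup ?_ ⟨_, rfl⟩
    have key : ∀ i, piHom i (g * (tHom (Multiplicative.ofAdd (shift A, shift B)))⁻¹) = 1 := fun i => by
      rw [map_mul, map_inv, mul_inv_eq_one, piHom_apply i hx]
      show _ = piHom i (tEl (shift A, shift B))
      rw [piHom_apply i (rep_tEl _)]
      simp only at hd
      simp only [bq, hd, (shift_qt _).1, (shift_qt _).2]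
    exact ⟨key false, key true⟩
  cent_T := fun c hc t ht => by
    obtain ⟨a, rfl⟩ := ht
    obtain ⟨c', B, hx, hB⟩ := scalar_of_commutes fun n => hc _ (mem_ker_aEl _)
    exact (rep_unique (hx.mul (rep_tEl _)) ((rep_tEl _).mul hx)).2 (scalar_comm_t c' B hB _ _)
  k := 2
  a := fun n => aEl (gi n)
  a_sq := fun n => (rep_unique ((rep_aEl _).mul (rep_aEl _)) rep_d).2 (by revert n; decide +kernel)
  gen := fun g hg => by
    obtain ⟨B, hx, dB, rB⟩ := ker_cases hg
    obtain ⟨u, v, w, e⟩ := kernel_words B dB rB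
    have hgen : ∀ n : Fin 2, aEl (gi n) ∈ Subgroup.closure (Set.range fun n => aEl (gi n)) := fun n =>
      Subgroup.subset_closure ⟨n, rfl⟩
    obtain ⟨p, hp, hp'⟩ : ∃ p ∈ Subgroup.closure (Set.range fun n => aEl (gi n)),
        Rep p (false, qone, if u = 0 then qone else qi) := by
      split_ifs with h
      · exact ⟨1, one_mem _, rep_one⟩
      · exact ⟨_, hgen 0, rep_aEl _⟩
    obtain ⟨q, hq, hq'⟩ : ∃ p ∈ Subgroup.closure (Set.range fun n => aEl (gi n)),
        Rep p (false, qone, if v = 0 then qone else qj) := by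
      split_ifs with h
      · exact ⟨1, one_mem _, rep_one⟩
      · exact ⟨_, hgen 1, rep_aEl _⟩
    obtain ⟨r, hr, hr'⟩ : ∃ p ∈ Subgroup.closure (Set.range fun n => aEl (gi n)),
        Rep p (false, qone, if w = 0 then qone else qmul qi qi) := by
      split_ifs with h
      · exact ⟨1, one_mem _, rep_one⟩
      · exact ⟨_, mul_mem (hgen 0) (hgen 0), (rep_aEl _).mul (rep_aEl _)⟩
    rw [(rep_unique hx (hp'.mul (hq'.mul hr'))).2 (by
      simp only [bmul, Bool.false_eq_true, if_false, e]
      rfl)]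
    exact mul_mem hp (mul_mem hq hr)
  bound := by
    classical
    set V := {v : Fin 2 → CZ // (∀ i, v i * v i = dZ) ∧ ∀ i j,
      (v i * v j = v j * v i ↔ aEl (gi i) * aEl (gi j) = aEl (gi j) * aEl (gi i))}
    have hV : Nat.card V ≤ 24 := by
      choose n hn using fun (v : V) (i : Fin 2) => sq_cases (v.2.1 i)
      refine (Nat.card_le_card_of_injective (fun v : V => (⟨(n v 0, n v 1), ?_⟩ : pairs))
        ?_).trans (by rw [Nat.card_eq_finsetCard, card_pairs])
      · refine Finset.mem_filter.2 ⟨Finset.mem_univ _, fun e => gi_noncomm ?_⟩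
        exact (comm_iff (rep_aEl _) (rep_aEl _)).1 ((v.2.2 0 1).1 ((comm_iff (hn v 0) (hn v 1)).2 e))
      · intro v v' e
        have e0 := congrArg (fun p : pairs => p.1.1) e
        have e1 := congrArg (fun p : pairs => p.1.2) e
        simp only at e0 e1
        refine Subtype.ext (funext fun i => (rep_unique (hn v i) (hn v' i)).2 ?_)
        fin_cases i <;> simp [e0, e1]
    have hC : Nat.card (Subgroup.centralizer (((piHom false).ker ⊓ (piHom true).ker : Subgroup CZ) : Set CZ)) ≤ 6 := by
      have hmem : ∀ c : Subgroup.centralizer (((piHom false).ker ⊓ (piHom true).ker : Subgroup CZ) : Set CZ),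
          ∃ a : ZMod 3, ∃ b : Bool, Rep c.1 (false, qt a, if b then qneg qone else qone) := fun c => by
        obtain ⟨a, B, hx, hB⟩ := scalar_of_commutes fun n => (c.2 _ (mem_ker_aEl (gi n))).symm
        rcases hB with rfl | rfl
        · exact ⟨a, false, hx⟩
        · exact ⟨a, true, hx⟩
      choose a b hb using hmem
      refine (Nat.card_le_card_of_injective (β := ZMod 3 × Bool) (fun c => (a c, b c)) fun c c' e => ?_).trans
        (le_of_eq (by simp))
      simp only [Prod.mk.injEq] at e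
      exact Subtype.ext ((rep_unique (hb c) (hb c')).2 (by rw [e.1, e.2]))
    have := Nat.mul_le_mul hV hC
    rw [card_CZ]
    omega

end InvPar

/-- A group in which the centraliser of `diag (1,-1,-1,1)` in the parabolic is strongly 3-embedded,
with that element central, is that centraliser. -/
theorem cent_para {M : Type*} [Group M] [Finite M]
    (ψ : Subgroup.centralizer ({dpara} : Set para) →* M) (hinj : Function.Injective ψ)
    (hS : Strong ψ.range)
    (hc : ∀ g : M, g * ψ ⟨dpara, Subgroup.mem_centralizer_singleton_iff.2 rfl⟩ =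
      ψ ⟨dpara, Subgroup.mem_centralizer_singleton_iff.2 rfl⟩ * g) :
    Function.Surjective ψ :=
  CentData.surjective InvPar.data ψ hinj hS hc

end CfsgLib.LFourThree
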