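import Cfsg.Agent.Lib.LFourThree.InvCentPSL
import Cfsg.Agent.Lib.LFourThree.InvCentPara

/-!
`cent_psl` and `cent_para`.
-/
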