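import Mathlib
import Cfsg.Agent.Lib.NineSelfCent.Basic

/-!
Triangles of elements of order three, for a self centralizing exponent three abelian subgroup of
index prime to three.
-/

set_option autoImplicit false
set_option linter.style.haveILetI false

namespace CfsgLib.LFourThree.SmallC

variable {G : Type*} [Group G] [Finite G] {S : Subgroup G}

theorem exists_conj_mem_of_index (hS : IsPGroup 3 S) (hidx : ¬ 3 ∣ S.index) {Q : Subgroup G}
    (hQ : IsPGroup 3 Q) : ∃ g : G, ∀ q ∈ Q, g * q * g⁻¹ ∈ S := by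
  haveI : Fact (Nat.Prime 3) := ⟨Nat.prime_three⟩
  obtain ⟨R, hR⟩ := hQ.exists_le_sylow
  obtain ⟨g, hg⟩ := MulAction.exists_smul_eq G R (hS.toSylow hidx)
  refine ⟨g, fun q hq => ?_⟩
  show g * q * g⁻¹ ∈ ((hS.toSylow hidx : Sylow 3 G) : Subgroup G)
  rw [← hg]
  exact ⟨q, hR hq, rfl⟩

/-- A triangle either commutes, or two of its corners are conjugate. -/
theorem triangle (hcomm : ∀ a ∈ S, ∀ b ∈ S, a * b = b * a) (hexp : ∀ a ∈ S, a ^ 3 = 1)
    (hcent : ∀ s ∈ S, s ≠ 1 → Subgroup.centralizer ({s} : Set G) = S) (hidx : ¬ 3 ∣ S.index)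
    {x y : G} (hx : x ^ 3 = 1) (hx1 : x ≠ 1) (hy : y ^ 3 = 1) (hxy : (x * y) ^ 3 = 1) :
    x * y = y * x ∨ IsConj x (x * y)⁻¹ := by
  classical
  haveI : Fact (Nat.Prime 3) := ⟨Nat.prime_three⟩
  have hSp : IsPGroup 3 S := fun a => ⟨1, Subtype.ext (by simpa using hexp _ a.2)⟩
  have cube_of_comm : ∀ {w c : G}, w ^ 3 = 1 → w ≠ 1 → c * w = w * c → c ^ 3 = 1 := by
    intro w c hw hw1 hc
    obtain ⟨g, hg⟩ := exists_conj_mem_of_index hSp hidx (NineSelfCent.Hyp.isPGroup_zpowers hw)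
    have hgw := hg w (Subgroup.mem_zpowers w)
    have hm : g * c * g⁻¹ ∈ S := by
      rw [← hcent _ hgw (fun e => hw1 (conj_eq_one_iff.mp e)), Subgroup.mem_centralizer_singleton_iff]
      calc g * c * g⁻¹ * (g * w * g⁻¹) = g * (c * w) * g⁻¹ := by group
        _ = g * (w * c) * g⁻¹ := by rw [hc]
        _ = _ := by group
    have := hexp _ hm
    rw [conj_pow] at this
    exact conj_eq_one_iff.mp this
  have hx' : x * x * x = 1 := by rw [← hx, pow_succ, pow_two]
  have hy' : y * y * y = 1 := by rw [← hy, pow_succ, pow_two]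
  have hxy' : (x * y) * (x * y) * (x * y) = 1 := by rw [← hxy, pow_succ (x * y), pow_two]
  have hr := NineSelfCent.triangle_pair hy' hxy'
  have hxi : x⁻¹ = x * x := inv_eq_of_mul_eq_one_left hx'
  have hyi : y⁻¹ = y * y := inv_eq_of_mul_eq_one_left hy'
  set p := x * y⁻¹ with hp
  set q := y⁻¹ * x with hq
  have hyy : y⁻¹ * y⁻¹ = y := by rw [← mul_inv_rev, ← hyi, inv_inv]
  have hpq : p * q = x * y * x := by
    calc p * q = x * (y⁻¹ * y⁻¹) * x := by rw [hp, hq]; group
      _ = _ := by rw [hyy]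
  have hqp : q * p = y⁻¹ * x⁻¹ * y⁻¹ := by
    calc q * p = y⁻¹ * (x * x) * y⁻¹ := by rw [hp, hq]; group
      _ = _ := by rw [← hxi]
  have hc : p * q = q * p := by rw [hpq, hqp, hr]
  let A := Subgroup.closure ({p, q} : Set G)
  have hpA : p ∈ A := Subgroup.subset_closure (by simp)
  have hqA : q ∈ A := Subgroup.subset_closure (by simp)
  have hAc : ∀ a ∈ A, ∀ b ∈ A, a * b = b * a := by
    have hm : IsMulCommutative A := Subgroup.isMulCommutative_closure (by
      simp only [Set.mem_insert_iff, Set.mem_singleton_iff]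
      rintro a (rfl | rfl) b (rfl | rfl) <;> first | rfl | exact hc | exact hc.symm)
    exact fun a ha b hb => congrArg Subtype.val (hm.is_comm.comm ⟨a, ha⟩ ⟨b, hb⟩)
  have hxA' : x⁻¹ ∈ Subgroup.normalizer (A : Set G) := by
    rw [Subgroup.mem_normalizer_iff_map_conj_eq]
    refine Subgroup.eq_of_le_of_card_ge ?_ (le_of_eq (Nat.card_congr
      (Subgroup.equivMapOfInjective _ _ (MulAut.conj x⁻¹).injective).toEquiv))
    show Subgroup.map (MulAut.conj x⁻¹).toMonoidHom A ≤ A
    rw [MonoidHom.map_closure, Subgroup.closure_le]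
    rintro _ ⟨a, ha, rfl⟩
    simp only [Set.mem_insert_iff, Set.mem_singleton_iff] at ha
    simp only [SetLike.mem_coe, MulEquiv.coe_toMonoidHom, MulAut.conj_apply, inv_inv]
    rcases ha with rfl | rfl
    · rw [show x⁻¹ * p * x = q by rw [hp, hq]; group]; exact hqA
    · have e : x⁻¹ * q * x = (p * q)⁻¹ := by
        rw [hpq, hq]
        calc x⁻¹ * (y⁻¹ * x) * x = x⁻¹ * y⁻¹ * (x * x) := by group
          _ = x⁻¹ * y⁻¹ * x⁻¹ := by rw [← hxi]
          _ = _ := by group
      rw [e]; exact inv_mem (mul_mem hpA hqA)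
  have hxA : x ∈ Subgroup.normalizer (A : Set G) := by simpa using inv_mem hxA'
  by_cases h3 : 3 ∣ Nat.card A
  · left
    obtain ⟨⟨w, hw⟩, hw3⟩ := exists_prime_orderOf_dvd_card' (G := A) 3 h3
    rw [← Subgroup.orderOf_coe] at hw3
    change orderOf w = 3 at hw3
    have hw3' : w ^ 3 = 1 := by rw [← hw3]; exact pow_orderOf_eq_one w
    have hw1 : w ≠ 1 := fun e => by rw [e, orderOf_one] at hw3; norm_num at hw3
    have hA3 : IsPGroup 3 A := fun a => ⟨1, Subtype.ext (by
      simpa using cube_of_comm hw3' hw1 (hAc _ a.2 w hw))⟩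
    have hQ : IsPGroup 3 (Subgroup.zpowers x ⊔ A : Subgroup G) :=
      (NineSelfCent.Hyp.isPGroup_zpowers hx).to_sup_of_normal_right' hA3 (Subgroup.zpowers_le.mpr hxA)
    obtain ⟨g, hg⟩ := exists_conj_mem_of_index hSp hidx hQ
    have e := hcomm _ (hg x (Subgroup.mem_sup_left (Subgroup.mem_zpowers x))) _ (hg p (Subgroup.mem_sup_right hpA))
    simp only [conj_mul] at e
    have e := mul_left_cancel (mul_right_cancel e)
    rw [hp, mul_assoc] at e
    have e' : x * y⁻¹ = y⁻¹ * x := mul_left_cancel e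
    exact ((Commute.inv_right_iff).mp (show Commute x y⁻¹ from e')).eq
  · right
    have hxmem : ∀ e ∈ A, e * (x * e⁻¹ * x⁻¹) ∈ A := fun e he =>
      mul_mem he ((Subgroup.mem_normalizer_iff.mp hxA _).mp (inv_mem he))
    let f : A → A := fun e => ⟨(e : G) * (x * (e : G)⁻¹ * x⁻¹), hxmem _ e.2⟩
    have hinj : Function.Injective f := by
      intro a b hab
      have hab' : (a : G) * (x * (a : G)⁻¹ * x⁻¹) = (b : G) * (x * (b : G)⁻¹ * x⁻¹) :=
        congrArg Subtype.val hab
      have h1 : ((b : G)⁻¹ * a) * x = x * ((b : G)⁻¹ * a) := by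
        calc ((b : G)⁻¹ * a) * x
            = (b : G)⁻¹ * ((a : G) * (x * (a : G)⁻¹ * x⁻¹)) * (x * a) := by group
          _ = (b : G)⁻¹ * ((b : G) * (x * (b : G)⁻¹ * x⁻¹)) * (x * a) := by rw [hab']
          _ = _ := by group
      have h3' : (b⁻¹ * a) ^ 3 = 1 := Subtype.ext (by simpa using cube_of_comm hx hx1 h1)
      have h1' : orderOf (b⁻¹ * a) = 1 := by
        rcases (Nat.dvd_prime Nat.prime_three).mp (orderOf_dvd_of_pow_eq_one h3') with e | e
        · exact e
        · exact absurd (e ▸ orderOf_dvd_natCard (b⁻¹ * a)) h3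
      exact (inv_mul_eq_one.mp (orderOf_eq_one_iff.mp h1')).symm
    have hsurj := (Finite.injective_iff_surjective (f := f)).mp hinj
    obtain ⟨e, he⟩ := hsurj ⟨q, hqA⟩
    have he' : (e : G) * (x * (e : G)⁻¹ * x⁻¹) = q := congrArg Subtype.val he
    refine isConj_iff.mpr ⟨e, ?_⟩
    calc (e : G) * x * (e : G)⁻¹ = (e : G) * (x * (e : G)⁻¹ * x⁻¹) * x := by group
      _ = y⁻¹ * (x * x) := by rw [he', hq]; group
      _ = _ := by rw [← hxi]; group

end CfsgLib.LFourThree.SmallC
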