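import Cfsg.Agent.Lib.LFourThree.SmallCoord
import Cfsg.Agent.Lib.LFourThree.SmallTriangle

/-!
A strongly `3`-embedded generalized dihedral group of order `54` is everything.
-/

set_option autoImplicit false
set_option linter.unusedSectionVars false
set_option maxRecDepth 20000

namespace CfsgLib.LFourThree.SmallC

open Cfsg CfsgLib.Char
open scoped ComplexConjugate CfsgLib.Char

/-- Coordinates of a generalized dihedral group of order `54`. -/
structure W4 where
  u : ZMod 3
  v : ZMod 3
  w : ZMod 3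
  s : Bool
  deriving DecidableEq, Fintype

namespace W4

/-- A sign. -/
def sg (s : Bool) (z : ZMod 3) : ZMod 3 := if s then -z else z

/-- Multiplication. -/
def mul (p q : W4) : W4 := ⟨p.u + sg p.s q.u, p.v + sg p.s q.v, p.w + sg p.s q.w, xor p.s q.s⟩

/-- The identity. -/
def one : W4 := ⟨0, 0, 0, false⟩

/-- Inverse. -/
def inv (p : W4) : W4 := ⟨-sg p.s p.u, -sg p.s p.v, -sg p.s p.w, p.s⟩

/-- First chosen element. -/
def eX : W4 := ⟨1, 0, 0, false⟩

/-- Second chosen element. -/
def eY : W4 := ⟨0, 1, 0, false⟩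

/-- A functional for each of the thirteen hyperplanes. -/
def lin (L : Fin 13) : ZMod 3 × ZMod 3 × ZMod 3 :=
  if L.val < 9 then (1, ((L.val / 3 : ℕ) : ZMod 3), ((L.val % 3 : ℕ) : ZMod 3))
  else if L.val < 12 then (0, 1, ((L.val % 3 : ℕ) : ZMod 3)) else (0, 0, 1)

/-- Its value. -/
def dot (L : Fin 13) (p : W4) : ZMod 3 := (lin L).1 * p.u + (lin L).2.1 * p.v + (lin L).2.2 * p.w

/-- The dihedral quotient. -/
def toD (L : Fin 13) (p : W4) : DihedralGroup 3 := if p.s then .sr (-dot L p) else .r (dot L p)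

/-- `3` outside the hyperplane. -/
def fI (L : Fin 13) (p : W4) : ℤ := if p.s = false ∧ dot L p ≠ 0 then 3 else 0

/-- The test function. -/
def fL (L : Fin 13) (p : W4) : ℤ × ℤ := (fI L p, 0)

/-- The involutions. -/
def invol : Finset W4 := Finset.univ.filter fun p => mul p p = one ∧ p ≠ one

theorem card_eq : Fintype.card W4 = 54 := by decide +kernel

theorem one_mul' : ∀ p, mul one p = p := by decide +kernel

theorem inv_mul' : ∀ p, mul (inv p) p = one := by decide +kernel

theorem toD_mul : ∀ L p q, toD L (mul p q) = toD L p * toD L q := by decide +kernel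

theorem fI_psi : ∀ L p, fI L p = psiInt (toD L p) := by decide +kernel

theorem fI_supp : ∀ L p, fI L p ≠ 0 → p.s = false ∧ p ≠ one := by decide +kernel

theorem cube : ∀ p : W4, p.s = false → mul p (mul p p) = one := by decide +kernel

theorem sum_fL : ∀ L, ∑ p, fL L p = (1 * 54, 0) := by decide +kernel

theorem norm_fL : ∀ L, ∑ p, cmul (fL L p) (fL L p) = (3 * 54, 0) := by decide +kernel

theorem inner_fL : ∀ L K, L ≠ K → ∑ p, cmul (fL L p) (fL K p) = (2 * 54, 0) := by decide +kernel

theorem col_one : ∀ p : W4, p.s = false → p ≠ one → ∑ L, fI L p = 27 := by decide +kernel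

theorem col_two : ∀ p : W4, p.s = false → p ≠ one → ∑ L, fI L p * fI L p = 81 := by decide +kernel

theorem col_count : ∑ L, (fI L eX - 2) ^ 2 * (fI L eY - 2) = 4 := by decide +kernel

theorem comm_iff : ∀ p : W4, p.s = false → p ≠ one → ∀ q, (mul q p = mul p q ↔ q.s = false) := by
  decide +kernel

theorem card_false : (Finset.univ.filter fun p : W4 => p.s = false).card = 27 := by decide +kernel

theorem comm_false : ∀ p q : W4, p.s = false → q.s = false → mul p q = mul q p := by decide +kernel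

theorem conj_pair : ∀ g h, mul (mul (mul g eX) (inv g)) (mul (mul h eX) (inv h)) ≠ eY := by decide +kernel

theorem conj_inv : ∀ g, mul (mul g eX) (inv g) ≠ inv eY := by decide +kernel

theorem invol_conj : ∀ p ∈ invol, ∃ q, mul q ⟨0, 0, 0, true⟩ = mul p q := by decide +kernel

theorem pair_zero : ∑ p ∈ invol, ∑ q ∈ invol, fL 0 (mul p q) = (1458, 0) := by decide +kernel

theorem pow_eX : ∀ z : ZMod 3, (⟨z, 0, 0, false⟩ : W4) ≠ eY := by decide +kernel

end W4

variable {K : Type*} [Group K]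

/-- Common constituent of a family of norm three supports meeting pairwise in one point. -/
theorem exists_common {α : Type*} [DecidableEq α] (S : Fin 13 → Finset α) (h2 : ∀ L, (S L).card = 2)
    (h1 : ∀ L M, L ≠ M → (S L ∩ S M).card = 1) : ∃ a, ∀ L, a ∈ S L := by
  obtain ⟨a, ha⟩ := Finset.card_eq_one.mp (h1 0 1 (by decide))
  refine ⟨a, fun L => ?_⟩
  by_contra hL
  have ha0 : a ∈ S 0 := (Finset.mem_inter.mp (ha ▸ Finset.mem_singleton_self a)).1
  have ha1 : a ∈ S 1 := (Finset.mem_inter.mp (ha ▸ Finset.mem_singleton_self a)).2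
  have hinj : ∀ M N, S M = S N → M = N := fun M N h => by
    by_contra hne
    have := h1 M N hne
    rw [h, Finset.inter_self, h2] at this
    norm_num at this
  have hL0 : L ≠ 0 := fun h => hL (h ▸ ha0)
  have hL1 : L ≠ 1 := fun h => hL (h ▸ ha1)
  obtain ⟨b, hb⟩ := Finset.card_eq_one.mp (h1 L 0 hL0)
  obtain ⟨c, hc⟩ := Finset.card_eq_one.mp (h1 L 1 hL1)
  have hb' := Finset.mem_inter.mp (hb ▸ Finset.mem_singleton_self b)
  have hc' := Finset.mem_inter.mp (hc ▸ Finset.mem_singleton_self c)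
  have hab : a ≠ b := fun h => hL (h ▸ hb'.1)
  have hac : a ≠ c := fun h => hL (h ▸ hc'.1)
  have h0 : S 0 = {a, b} := (Finset.eq_of_subset_of_card_le
    (by simp [Finset.insert_subset_iff, ha0, hb'.2]) (by rw [h2, Finset.card_pair hab])).symm
  have h1' : S 1 = {a, c} := (Finset.eq_of_subset_of_card_le
    (by simp [Finset.insert_subset_iff, ha1, hc'.2]) (by rw [h2, Finset.card_pair hac])).symm
  have hbc : b ≠ c := fun h => absurd (hinj 0 1 (by rw [h0, h1', h])) (by decide)
  have hSL : S L = {b, c} := (Finset.eq_of_subset_of_card_le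
    (by simp [Finset.insert_subset_iff, hb'.1, hc'.1]) (by rw [h2, Finset.card_pair hbc])).symm
  have hall : ∀ M, M = 0 ∨ M = 1 ∨ M = L := by
    intro M
    by_contra hM
    push Not at hM
    obtain ⟨hM0, hM1, hML⟩ := hM
    by_cases haM : a ∈ S M
    · obtain ⟨d, hd⟩ := Finset.card_eq_one.mp (h1 M L hML)
      have hd' := Finset.mem_inter.mp (hd ▸ Finset.mem_singleton_self d)
      rw [hSL, Finset.mem_insert, Finset.mem_singleton] at hd'
      rcases hd'.2 with rfl | rfl
      · exact hM0 (hinj M 0 (h0 ▸ (Finset.eq_of_subset_of_card_le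
          (by simp [Finset.insert_subset_iff, haM, hd'.1]) (by rw [h2, Finset.card_pair hab])).symm))
      · exact hM1 (hinj M 1 (h1' ▸ (Finset.eq_of_subset_of_card_le
          (by simp [Finset.insert_subset_iff, haM, hd'.1]) (by rw [h2, Finset.card_pair hac])).symm))
    · obtain ⟨d, hd⟩ := Finset.card_eq_one.mp (h1 M 0 hM0)
      obtain ⟨d', he⟩ := Finset.card_eq_one.mp (h1 M 1 hM1)
      have hd' := Finset.mem_inter.mp (hd ▸ Finset.mem_singleton_self d)
      have he' := Finset.mem_inter.mp (he ▸ Finset.mem_singleton_self d')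
      rw [h0, Finset.mem_insert, Finset.mem_singleton] at hd'
      rw [h1', Finset.mem_insert, Finset.mem_singleton] at he'
      have hdb : d = b := hd'.2.resolve_left fun h => haM (h ▸ hd'.1)
      have hec : d' = c := he'.2.resolve_left fun h => haM (h ▸ he'.1)
      subst hdb hec
      exact hML (hinj M L (hSL ▸ (Finset.eq_of_subset_of_card_le
        (by simp [Finset.insert_subset_iff, hd'.1, he'.1]) (by rw [h2, Finset.card_pair hbc])).symm))
  have hsub : (Finset.univ : Finset (Fin 13)) ⊆ {0, 1, L} := fun M _ => by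
    simpa using hall M
  have := (Finset.card_le_card hsub).trans Finset.card_le_three
  simp at this

theorem core_w [Fintype K] (M : Subgroup K) (hS : Strong M) (e : W4 ≃ M)
    (hemul : ∀ p q, e (W4.mul p q) = e p * e q) : M = ⊤ := by
  classical
  have heone : e W4.one = 1 := by
    have := hemul W4.one W4.one
    rw [W4.one_mul'] at this
    exact mul_eq_left.mp this.symm
  have heinv : ∀ p, e (W4.inv p) = (e p)⁻¹ := fun p =>
    eq_inv_of_mul_eq_one_left (by rw [← hemul, W4.inv_mul', heone])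
  have hco : ∀ m n : M, e.symm (m * n) = W4.mul (e.symm m) (e.symm n) := fun m n => by
    apply e.injective; simp [hemul]
  have hcone : e.symm 1 = W4.one := by rw [← heone, Equiv.symm_apply_apply]
  have hcoe : ∀ p q, ((e p : M) : K) = e q → p = q := fun p q h => e.injective (Subtype.ext h)
  have hp1 : ∀ p, p ≠ W4.one → ((e p : M) : K) ≠ 1 := fun p hp h => hp (hcoe p W4.one (by
    rw [h, heone]; rfl))
  have hcube : ∀ p : W4, p.s = false → ((e p : M) : K) ^ 3 = 1 := fun p hp => by
    have := congrArg (fun q => ((e q : M) : K)) (W4.cube p hp)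
    simp only [hemul, heone, Subgroup.coe_mul, Subgroup.coe_one] at this
    rw [pow_succ', pow_two, this]
  have hsing : ∀ p : W4, p.s = false → p ≠ W4.one → ((e p : M) : K) ∈ sing M := fun p hp hp' =>
    ⟨(e p).2, 1, by rw [pow_one]; exact orderOf_eq_three (hcube p hp) (hp1 p hp')⟩
  have hC : ∀ p : W4, p.s = false → p ≠ W4.one → ∀ k : K,
      k ∈ Subgroup.centralizer ({((e p : M) : K)} : Set K) ↔ ∃ q, q.s = false ∧ ((e q : M) : K) = k := by
    intro p hp hp' k
    constructor
    · intro hk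
      have hkM : k ∈ M := hS.centralizer_le (e p).2 (orderOf_eq_three (hcube p hp) (hp1 p hp')) hk
      refine ⟨e.symm ⟨k, hkM⟩, (W4.comm_iff p hp hp' _).mp (e.injective ?_), by simp⟩
      rw [hemul, hemul, Equiv.apply_symm_apply]
      exact Subtype.ext (Subgroup.mem_centralizer_singleton_iff.mp hk)
    · rintro ⟨q, hq, rfl⟩
      rw [Subgroup.mem_centralizer_singleton_iff, ← Subgroup.coe_mul, ← Subgroup.coe_mul, ← hemul, ← hemul,
        W4.comm_false q p hq hp]
  have hC27 : ∀ p : W4, p.s = false → p ≠ W4.one →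
      Nat.card (Subgroup.centralizer ({((e p : M) : K)} : Set K)) = 27 := by
    intro p hp hp'
    rw [← W4.card_false, ← Nat.card_eq_finsetCard]
    refine (Nat.card_congr (Equiv.ofBijective (fun q : (Finset.univ.filter fun q : W4 => q.s = false) =>
      (⟨((e q.1 : M) : K), (hC p hp hp' _).mpr ⟨q.1, (Finset.mem_filter.mp q.2).2, rfl⟩⟩ :
        Subgroup.centralizer ({((e p : M) : K)} : Set K))) ⟨?_, ?_⟩)).symm
    · intro q q' h
      exact Subtype.ext (hcoe _ _ (congrArg (fun z : Subgroup.centralizer ({((e p : M) : K)} : Set K) => (z : K)) h))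
    · rintro ⟨k, hk⟩
      obtain ⟨q, hq, rfl⟩ := (hC p hp hp' k).mp hk
      exact ⟨⟨q, Finset.mem_filter.mpr ⟨Finset.mem_univ _, hq⟩⟩, rfl⟩
  -- the thirteen test functions
  let f : Fin 13 → M → ℂ := fun L n => ev (W4.fL L (e.symm n))
  have hf : ∀ L n, f L n = (W4.fI L (e.symm n) : ℂ) := fun L n => ev_int _
  have hgen : ∀ L, IsGeneralizedCharacter M (f L) := fun L => by
    let π : M →* DihedralGroup 3 := MonoidHom.mk' (fun n => W4.toD L (e.symm n)) fun m n => by
      rw [hco, W4.toD_mul]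
    have : f L = fun n => (psiInt (π n) : ℂ) := funext fun n => by
      rw [hf, W4.fI_psi]; rfl
    rw [this]
    exact isGeneralized_comp π psi_generalized
  have hsupp : ∀ L, ∀ n : M, (n : K) ∉ sing M → f L n = 0 := fun L n hn => by
    by_contra h
    have h' : W4.fI L (e.symm n) ≠ 0 := fun h0 => h (by rw [hf, h0, Int.cast_zero])
    obtain ⟨hs, hne⟩ := W4.fI_supp L _ h'
    exact hn (by simpa using hsing _ hs hne)
  have h1 : ∀ L, f L 1 = 0 := fun L => by
    rw [hf, hcone]
    have : ∀ L, W4.fI L W4.one = 0 := by decide +kernel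
    rw [this, Int.cast_zero]
  have hT : ∀ L, Nonempty (Three M (f L)) := fun L => exists_three hS (hgen L) (hsupp L) (h1 L)
    (classInner_equiv e (W4.fL L) (W4.fL L) (r := 3) (by rw [W4.card_eq]; exact W4.norm_fL L))
    ((classInner_equiv_one e (W4.fL L) (r := 1) (by rw [W4.card_eq]; exact W4.sum_fL L)).trans Int.cast_one)
  have T : ∀ L, Three M (f L) := fun L => (hT L).some
  have hone : ∀ L K', L ≠ K' → ∃ χ, supp (T L).c ∩ supp (T K').c = {χ} ∧
      (T K').c χ = 1 * (T L).c χ := fun L K' hne => by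
    refine card_inter_eq_one (T L) (T K') (Or.inl rfl) ?_
    have := (T L).inner (T K') hS (hgen K') (hsupp L) (hsupp K') (h1 L) (r := 2)
      (classInner_equiv e (W4.fL L) (W4.fL K') (r := 2) (by rw [W4.card_eq]; exact W4.inner_fL L K' hne))
    linarith
  obtain ⟨A, hA⟩ := exists_common (fun L => supp (T L).c) (fun L => (T L).card) fun L K' hne => by
    obtain ⟨χ, hχ, -⟩ := hone L K' hne
    rw [hχ, Finset.card_singleton]
  set α₀ := (T 0).c A with hα₀
  have hα2 : α₀ ^ 2 = 1 := (T 0).sq A (hA 0)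
  have hcA : ∀ L, (T L).c A = α₀ := fun L => by
    by_cases h : (0 : Fin 13) = L
    · rw [← h]
    · obtain ⟨χ, hχ, he⟩ := hone 0 L h
      have : A ∈ ({χ} : Finset _) := hχ ▸ Finset.mem_inter.mpr ⟨hA 0, hA L⟩
      rw [Finset.mem_singleton] at this
      rw [← this] at he
      rw [he, one_mul]
  have hB' : ∀ L, ((supp (T L).c).erase A).card = 1 := fun L => by
    rw [Finset.card_erase_of_mem (hA L), (T L).card]
  choose B hB using fun L => Finset.card_eq_one.mp (hB' L)
  have hBm : ∀ L, B L ∈ (supp (T L).c).erase A := fun L => hB L ▸ Finset.mem_singleton_self _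
  have hBA : ∀ L, B L ≠ A := fun L => (Finset.mem_erase.mp (hBm L)).1
  have hBinj : Function.Injective B := fun L K' h => by
    by_contra hne
    obtain ⟨χ, hχ, -⟩ := hone L K' hne
    have e1 : A ∈ ({χ} : Finset _) := hχ ▸ Finset.mem_inter.mpr ⟨hA L, hA K'⟩
    have e2 : B L ∈ ({χ} : Finset _) := hχ ▸ Finset.mem_inter.mpr
      ⟨(Finset.mem_erase.mp (hBm L)).2, h ▸ (Finset.mem_erase.mp (hBm K')).2⟩
    rw [Finset.mem_singleton] at e1 e2
    exact hBA L (e2.trans e1.symm)
  let r : Fin 13 → ℤ := fun L => (T L).c (B L)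
  have hr2 : ∀ L, r L ^ 2 = 1 := fun L => (T L).sq _ (Finset.mem_erase.mp (hBm L)).2
  have two : ∀ L (F : IrrCharacter K → ℂ), ∑ χ ∈ supp (T L).c, F χ = F A + F (B L) := fun L F => by
    rw [← Finset.add_sum_erase _ _ (hA L), hB L, Finset.sum_singleton]
  -- values on the elementary abelian group
  have hval : ∀ p : W4, p.s = false → p ≠ W4.one →
      (α₀ : ℂ) * (A : K → ℂ) (e p) = 1 ∧
      (∀ L, (r L : ℂ) * (B L : K → ℂ) (e p) = (W4.fI L p : ℂ) - 2) ∧
      ∀ χ : IrrCharacter K, χ ≠ tchar → χ ≠ A → (∀ L, χ ≠ B L) → (χ : K → ℂ) (e p) = 0 := by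
    intro p hp hp'
    have hrow : ∀ L, (r L : ℂ) * (B L : K → ℂ) (e p) =
        (W4.fI L p : ℂ) - 1 - (α₀ : ℂ) * (A : K → ℂ) (e p) := fun L => by
      have := (T L).at_mem hS (hgen L) (hsupp L) (e p) (hsing p hp hp')
        (fun h => hp1 p hp' (congrArg Subtype.val h))
      rw [two, hcA, hf, Equiv.symm_apply_apply] at this
      linear_combination this
    have hcol := column_orthogonality ((e p : M) : K) ((e p : M) : K)
    rw [if_pos (IsConj.refl _), hC27 p hp hp'] at hcol
    simp only [Complex.mul_conj] at hcol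
    have hcolR : ∑ χ : IrrCharacter K, Complex.normSq ((χ : K → ℂ) (e p)) = 27 := by exact_mod_cast hcol
    let J : Finset (IrrCharacter K) := insert tchar (insert A (Finset.univ.image B))
    have ht1 : tchar ∉ insert A (Finset.univ.image B) := by
      simp only [Finset.mem_insert, Finset.mem_image, Finset.mem_univ, true_and, not_or, not_exists]
      exact ⟨(mem_supp.mp (hA 0)).2.symm, fun L => (mem_supp.mp (Finset.mem_erase.mp (hBm L)).2).2⟩
    have hA1 : A ∉ Finset.univ.image B := by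
      simp only [Finset.mem_image, Finset.mem_univ, true_and, not_exists]
      exact hBA
    set z := (α₀ : ℂ) * (A : K → ℂ) (e p) with hz
    have hsq : ∀ (s : ℤ) (x : ℂ), s ^ 2 = 1 → Complex.normSq ((s : ℂ) * x) = Complex.normSq x := by
      intro s x hs
      rcases sq_eq_one_iff.mp hs with rfl | rfl <;> simp
    have hJ : ∑ χ ∈ J, Complex.normSq ((χ : K → ℂ) (e p)) =
        14 * (z.re * z.re + z.im * z.im) - 28 * z.re + 41 := by
      rw [Finset.sum_insert ht1, Finset.sum_insert hA1, Finset.sum_image (fun a _ b _ h => hBinj h),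
        ← hsq α₀ ((A : K → ℂ) (e p)) hα2, Finset.sum_congr rfl fun L _ => ((hsq (r L) _ (hr2 L)).symm.trans
          (congrArg Complex.normSq (hrow L)))]
      rw [tchar_apply, map_one, ← hz]
      have e1 : ∀ L, Complex.normSq ((W4.fI L p : ℂ) - 1 - z) =
          ((W4.fI L p * W4.fI L p : ℤ) : ℝ) - 2 * (1 + z.re) * (W4.fI L p : ℝ) +
            ((1 + z.re) * (1 + z.re) + z.im * z.im) := fun L => by
        simp [Complex.normSq_apply]; ring
      simp only [e1, Finset.sum_add_distrib, Finset.sum_sub_distrib, ← Finset.mul_sum, ← Int.cast_sum,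
        W4.col_one p hp hp', W4.col_two p hp hp', Complex.normSq_apply]
      simp [Finset.sum_const]
      ring
    have hJle : ∑ χ ∈ J, Complex.normSq ((χ : K → ℂ) (e p)) ≤ 27 := by
      rw [← hcolR]
      exact Finset.sum_le_univ_sum_of_nonneg fun χ => Complex.normSq_nonneg _
    have hre : z.re = 1 := by nlinarith [mul_self_nonneg (z.re - 1), mul_self_nonneg z.im]
    have him : z.im = 0 := by nlinarith [mul_self_nonneg (z.re - 1), mul_self_nonneg z.im]
    have hz1 : z = 1 := Complex.ext (by simp [hre]) (by simp [him])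
    refine ⟨hz1, fun L => by rw [hrow L, hz1]; ring, fun χ h0 hA' hB'' => ?_⟩
    have hrest : ∑ χ ∈ Finset.univ \ J, Complex.normSq ((χ : K → ℂ) (e p)) = 0 := by
      have := Finset.sum_sdiff (f := fun χ : IrrCharacter K => Complex.normSq ((χ : K → ℂ) (e p)))
        (Finset.subset_univ J)
      rw [hcolR, hJ, hre, him] at this
      linarith
    have := (Finset.sum_eq_zero_iff_of_nonneg fun χ _ => Complex.normSq_nonneg _).mp hrest χ (by
      simp only [J, Finset.mem_sdiff, Finset.mem_univ, true_and, Finset.mem_insert, Finset.mem_image,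
        not_or, not_exists]
      exact ⟨h0, hA', fun L h => hB'' L h.symm⟩)
    exact Complex.normSq_eq_zero.mp this
  -- the class multiplication count
  set X : K := ((e W4.eX : M) : K) with hX
  set Y : K := ((e W4.eY : M) : K) with hY
  have hX3 : X ^ 3 = 1 := hcube _ rfl
  have hX1 : X ≠ 1 := hp1 _ (by decide)
  have hY1 : Y ≠ 1 := hp1 _ (by decide)
  let S : Subgroup K := Subgroup.centralizer ({X} : Set K)
  have hSmem : ∀ k, k ∈ S ↔ ∃ q, q.s = false ∧ ((e q : M) : K) = k := hC W4.eX rfl (by decide)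
  have hScomm : ∀ a ∈ S, ∀ b ∈ S, a * b = b * a := fun a ha b hb => by
    obtain ⟨p, hp, rfl⟩ := (hSmem a).mp ha
    obtain ⟨q, hq, rfl⟩ := (hSmem b).mp hb
    rw [← Subgroup.coe_mul, ← hemul, ← Subgroup.coe_mul, ← hemul, W4.comm_false p q hp hq]
  have hSexp : ∀ a ∈ S, a ^ 3 = 1 := fun a ha => by
    obtain ⟨p, hp, rfl⟩ := (hSmem a).mp ha
    exact hcube p hp
  have hScent : ∀ a ∈ S, a ≠ 1 → Subgroup.centralizer ({a} : Set K) = S := fun a ha ha1 => by
    obtain ⟨p, hp, rfl⟩ := (hSmem a).mp ha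
    have hp' : p ≠ W4.one := fun h => ha1 (by rw [h, heone]; rfl)
    ext k
    rw [hC p hp hp', hSmem]
  have hSidx : ¬ 3 ∣ S.index := by
    intro hdvd
    have hle : S ≤ M := fun k hk => by
      obtain ⟨q, -, rfl⟩ := (hSmem k).mp hk
      exact (e q).2
    have hrel : S.relIndex M = 2 := by
      have hi := Subgroup.index_mul_card (S.subgroupOf M)
      rw [Nat.card_congr (Subgroup.subgroupOfEquivOfLe hle).toEquiv, hC27 W4.eX rfl (by decide),
        ← Nat.card_congr e, Nat.card_eq_fintype_card, W4.card_eq] at hi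
      rw [Subgroup.relIndex]
      omega
    have hM : M.index % 3 = 1 := index_mod_three hS (e W4.eX).2 hX3 hX1
    rw [← Subgroup.relIndex_mul_index hle, hrel] at hdvd
    omega
  have hmemM : ∀ g, g * X * g⁻¹ ∈ M → ∃ q, g * X * g⁻¹ = ((e (W4.mul (W4.mul q W4.eX) (W4.inv q)) : M) : K) :=
    fun g hg => by
      have hgM : g ∈ M := strong_cube hS (e W4.eX).2 hX3 hX1 hg
      refine ⟨e.symm ⟨g, hgM⟩, ?_⟩
      simp [hemul, heinv, hX]
  haveI : IsEmpty {p : K × K // IsConj X p.1 ∧ IsConj X p.2 ∧ p.1 * p.2 = Y} := by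
    constructor
    rintro ⟨⟨p, q⟩, hp, hq, hpq⟩
    simp only at hp hq hpq
    obtain ⟨g, rfl⟩ := isConj_iff.mp hp
    obtain ⟨h, rfl⟩ := isConj_iff.mp hq
    have c3 : ∀ g : K, (g * X * g⁻¹) ^ 3 = 1 := fun g => by rw [conj_pow, hX3, mul_one, mul_inv_cancel]
    rcases triangle hScomm hSexp hScent hSidx (c3 g) (fun h => hX1 (conj_eq_one_iff.mp h)) (c3 h)
        (by rw [hpq]; exact hcube _ rfl) with hc | hc
    · have hgY : g * X * g⁻¹ * Y = Y * (g * X * g⁻¹) := by
        rw [← hpq]
        calc g * X * g⁻¹ * (g * X * g⁻¹ * (h * X * h⁻¹)) = g * X * g⁻¹ * (h * X * h⁻¹ * (g * X * g⁻¹)) := by rw [hc]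
          _ = _ := by group
      have hgM : g * X * g⁻¹ ∈ M := hS.centralizer_le (e W4.eY).2 (orderOf_eq_three (hcube _ rfl) hY1)
        (Subgroup.mem_centralizer_singleton_iff.mpr hgY)
      have hhM : h * X * h⁻¹ ∈ M := by
        rw [eq_inv_mul_of_mul_eq hpq]
        exact mul_mem (inv_mem hgM) (e W4.eY).2
      obtain ⟨q₁, h₁⟩ := hmemM g hgM
      obtain ⟨q₂, h₂⟩ := hmemM h hhM
      rw [h₁, h₂, ← Subgroup.coe_mul, ← hemul] at hpq
      exact W4.conj_pair q₁ q₂ (hcoe _ _ hpq)
    · rw [hpq] at hc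
      obtain ⟨k, hk⟩ := isConj_iff.mp (hp.trans hc)
      have hkM : k * X * k⁻¹ ∈ M := by rw [hk]; exact inv_mem (e W4.eY).2
      obtain ⟨q₁, h₁⟩ := hmemM k hkM
      rw [h₁, hY, ← Subgroup.coe_inv, ← heinv] at hk
      exact W4.conj_inv q₁ (hcoe _ _ hk)
  obtain ⟨d, hd0, hd⟩ := exists_nat_degree_irr A.2
  have hd0' : d ≠ 0 := by omega
  have hdB : ∀ L, (r L : ℂ) * (B L : K → ℂ) 1 = -1 - (α₀ : ℂ) * d := fun L => by
    have := (T L).at_one (h1 L)
    rw [two, hcA, hd] at this
    linear_combination this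
  have hsum : ∑ χ : IrrCharacter K, (χ : K → ℂ) X * (χ : K → ℂ) X * conj ((χ : K → ℂ) Y) / (χ : K → ℂ) 1 = 0 := by
    have hm := class_mult X X Y
    rw [Nat.card_of_isEmpty, Nat.cast_zero] at hm
    rcases mul_eq_zero.mp hm.symm with h | h
    · exfalso
      rcases div_eq_zero_iff.mp h with h | h
      · rcases mul_eq_zero.mp h with h | h <;>
          exact Subgroup.index_ne_zero_of_finite (Nat.cast_eq_zero.mp h)
      · exact Nat.card_pos.ne' (Nat.cast_eq_zero.mp h)
    · exact h
  obtain ⟨vX1, vX2, vX3⟩ := hval W4.eX rfl (by decide)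
  obtain ⟨vY1, vY2, vY3⟩ := hval W4.eY rfl (by decide)
  rw [← hX] at vX1 vX2 vX3
  rw [← hY] at vY1 vY2 vY3
  have hA' : (A : K → ℂ) X = (α₀ : ℂ) ∧ (A : K → ℂ) Y = (α₀ : ℂ) := by
    have h : (α₀ : ℂ) * α₀ = 1 := by rw [← pow_two]; exact_mod_cast hα2
    exact ⟨by linear_combination (α₀ : ℂ) * vX1 - (A : K → ℂ) X * h,
      by linear_combination (α₀ : ℂ) * vY1 - (A : K → ℂ) Y * h⟩
  have hrC : ∀ L, (r L : ℂ) * r L = 1 := fun L => by rw [← pow_two]; exact_mod_cast hr2 L
  have hBX : ∀ L, (B L : K → ℂ) X = (r L : ℂ) * ((W4.fI L W4.eX : ℂ) - 2) := fun L => by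
    linear_combination (r L : ℂ) * vX2 L - (B L : K → ℂ) X * hrC L
  have hBY : ∀ L, (B L : K → ℂ) Y = (r L : ℂ) * ((W4.fI L W4.eY : ℂ) - 2) := fun L => by
    linear_combination (r L : ℂ) * vY2 L - (B L : K → ℂ) Y * hrC L
  have hB1 : ∀ L, (B L : K → ℂ) 1 = (r L : ℂ) * (-1 - (α₀ : ℂ) * d) := fun L => by
    linear_combination (r L : ℂ) * hdB L - (B L : K → ℂ) 1 * hrC L
  have hDne : -1 - (α₀ : ℂ) * d ≠ 0 := fun h => irr_degree_ne_zero (B 0).2 (by rw [hB1, h, mul_zero])
  have hD : (α₀ : ℂ) * d = 1 := by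
    have ht1 : tchar ∉ insert A (Finset.univ.image B) := by
      simp only [Finset.mem_insert, Finset.mem_image, Finset.mem_univ, true_and, not_or, not_exists]
      exact ⟨(mem_supp.mp (hA 0)).2.symm, fun L => (mem_supp.mp (Finset.mem_erase.mp (hBm L)).2).2⟩
    have hA1 : A ∉ Finset.univ.image B := by
      simp only [Finset.mem_image, Finset.mem_univ, true_and, not_exists]
      exact hBA
    rw [← Finset.sum_subset (Finset.subset_univ (insert tchar (insert A (Finset.univ.image B))))
      (fun χ _ hχ => by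
        simp only [Finset.mem_insert, Finset.mem_image, Finset.mem_univ, true_and, not_or, not_exists] at hχ
        rw [vX3 χ hχ.1 hχ.2.1 (fun L h => hχ.2.2 L h.symm), zero_mul, zero_mul, zero_div]),
      Finset.sum_insert ht1, Finset.sum_insert hA1, Finset.sum_image (fun a _ b _ h => hBinj h),
      hA'.1, hA'.2, hd] at hsum
    simp only [tchar_apply, map_one, one_mul, div_one, map_intCast] at hsum
    have e1 : ∀ L, (B L : K → ℂ) X * (B L : K → ℂ) X * conj ((B L : K → ℂ) Y) / (B L : K → ℂ) 1 =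
        (((W4.fI L W4.eX - 2) ^ 2 * (W4.fI L W4.eY - 2) : ℤ) : ℂ) / (-1 - (α₀ : ℂ) * d) := fun L => by
      rw [hBX, hBY, hB1, map_mul, map_intCast, map_sub, map_intCast, map_ofNat]
      push_cast
      rcases sq_eq_one_iff.mp (hr2 L) with h | h <;> rw [h] <;> push_cast <;> field_simp <;> ring
    rw [Finset.sum_congr rfl fun L _ => e1 L, ← Finset.sum_div, ← Int.cast_sum, W4.col_count] at hsum
    have hα0 : (α₀ : ℂ) ≠ 0 := fun h => by
      have : α₀ = 0 := by exact_mod_cast h
      rw [this] at hα2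
      norm_num at hα2
    have hdC : (d : ℂ) ≠ 0 := Nat.cast_ne_zero.mpr hd0'
    have hαα : (α₀ : ℂ) * α₀ = 1 := by rw [← pow_two]; exact_mod_cast hα2
    have hterm : (α₀ : ℂ) * α₀ * α₀ / d = 1 / ((α₀ : ℂ) * d) := by
      rw [div_eq_div_iff hdC (mul_ne_zero hα0 hdC)]
      linear_combination (d : ℂ) * ((α₀ : ℂ) * α₀ + 1) * hαα
    rw [hterm] at hsum
    push_cast at hsum
    generalize hgen' : (α₀ : ℂ) * d = D at hsum hDne ⊢
    have hD0 : D ≠ 0 := hgen' ▸ mul_ne_zero hα0 hdC
    field_simp at hsum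
    have : (D - 1) * (D - 1) = 0 := by linear_combination (-1 : ℂ) * hsum
    linear_combination (mul_self_eq_zero.mp this)
  have hAone : (A : K → ℂ) 1 = 1 ∧ α₀ = 1 := by
    have h : α₀ * (d : ℤ) = 1 := by exact_mod_cast hD
    rcases sq_eq_one_iff.mp hα2 with e | e <;> rw [e] at h
    · exact ⟨by rw [hd, show d = 1 by omega, Nat.cast_one], e⟩
    · omega
  have hd1 : d = 1 := by
    have h := hAone.1
    rw [hd] at h
    exact_mod_cast h
  let φ := linearHom (isCharacter_of_isIrr A.2) hAone.1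
  set j : K := ((e ⟨0, 0, 0, true⟩ : M) : K) with hj
  have hjj : j * j = 1 := by
    rw [hj, ← Subgroup.coe_mul, ← hemul, show W4.mul ⟨0, 0, 0, true⟩ ⟨0, 0, 0, true⟩ = W4.one by decide, heone]
    rfl
  have hj1 : j ≠ 1 := hp1 _ (by decide)
  have hj2 : j ^ 2 = 1 := by rw [pow_two, hjj]
  have hAj : (A : K → ℂ) j ≠ 1 := by
    intro h
    have hjoff : ∀ y : K, y * j * y⁻¹ ∉ sing M := by
      rintro y ⟨-, k, hk⟩
      have h2 : ((y * j * y⁻¹) ^ k) ^ 2 = 1 := by
        rw [← pow_mul, mul_comm, pow_mul, conj_pow, hj2, mul_one, mul_inv_cancel, one_pow]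
      have := orderOf_dvd_of_pow_eq_one h2
      rw [hk] at this
      norm_num at this
    let I : Finset M := W4.invol.map e.toEmbedding
    have hI : ∀ u : M, u ∈ I ↔ IsConj j (u : K) := by
      intro u
      simp only [I, Finset.mem_map_equiv]
      constructor
      · intro hu
        obtain ⟨q, hq⟩ := W4.invol_conj _ hu
        refine isConj_iff.mpr ⟨e q, ?_⟩
        have := congrArg (fun p => ((e p : M) : K)) hq
        simp only [hemul, Subgroup.coe_mul, Equiv.apply_symm_apply, ← hj] at this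
        rw [this, mul_inv_cancel_right]
      · intro hu
        obtain ⟨g, hg⟩ := isConj_iff.mp hu
        simp only [W4.invol, Finset.mem_filter, Finset.mem_univ, true_and]
        constructor
        · apply e.injective
          rw [hemul, heone, Equiv.apply_symm_apply]
          apply Subtype.ext
          rw [Subgroup.coe_mul, ← hg, ← pow_two, conj_pow, hj2, mul_one, mul_inv_cancel]
          rfl
        · intro h
          have h1' : u = 1 := by rw [← e.apply_symm_apply u, h, heone]
          rw [h1'] at hg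
          exact hj1 (conj_eq_one_iff.mp hg)
    have hin : ∀ n : M, f 0 n ≠ 0 → ∀ u v : K, IsConj j u → IsConj j v → u * v = n → u ∈ M := by
      intro n hn u v hu hv huv
      have hsq : ∀ w, IsConj j w → w * w = 1 := fun w hw => by
        obtain ⟨g, rfl⟩ := isConj_iff.mp hw
        rw [← pow_two, conj_pow, hj2, mul_one, mul_inv_cancel]
      refine mem_of_pair hS (hsq u hu) (hsq v hv) ?_
      rw [huv]
      by_contra h
      exact hn (hsupp 0 n h)
    have eA := (T 0).pair_count j hin I hI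
    have hp : ∑ u ∈ I, ∑ v ∈ I, f 0 (u * v) = ev (∑ p ∈ W4.invol, ∑ q ∈ W4.invol, W4.fL 0 (W4.mul p q)) := by
      simp only [I, f, Finset.sum_map, ev_sum, hco, Equiv.toEmbedding_apply, Equiv.symm_apply_apply]
    rw [hp, W4.pair_zero, two, hcA, hAone.2, h, hd, hd1] at eA
    have v := (T 0).at_off (hsupp 0) j hjoff
    rw [two, hcA, hAone.2, h] at v
    have v' : (r 0 : ℂ) * (B 0 : K → ℂ) j = -2 := by push_cast at v; linear_combination v
    rw [sgn_div (hr2 0), v', hdB 0, hAone.2, hd1, ev_int] at eA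
    norm_num at eA
  have hφ : ∀ p : W4, p.s = false → φ ((e p : M) : K) = 1 := fun p hp => by
    apply Units.ext
    rw [linearHom_apply]
    by_cases hp' : p = W4.one
    · rw [hp', heone, Units.val_one]; exact hAone.1
    · have := (hval p hp hp').1
      rw [hAone.2] at this
      simpa using this
  have h3 : IsPGroup 3 (φ.ker ⊓ M : Subgroup K) := by
    intro n
    set q := e.symm ⟨(n : K), n.2.2⟩ with hq
    have hqn : ((e q : M) : K) = n := by rw [hq, Equiv.apply_symm_apply]
    have hqs : q.s = false := by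
      by_contra hs
      have hs' : q.s = true := by simpa using hs
      obtain ⟨qu, qv, qw, qs⟩ := q
      subst hs'
      refine hAj ?_
      have hd : W4.mul ⟨qu, qv, qw, false⟩ ⟨0, 0, 0, true⟩ = ⟨qu, qv, qw, true⟩ := by
        simp [W4.mul, W4.sg]
      have hn : φ ((e ⟨qu, qv, qw, true⟩ : M) : K) = 1 := by rw [hqn]; exact n.2.1
      rw [← hd, hemul, Subgroup.coe_mul, map_mul, hφ _ rfl, one_mul] at hn
      have := congrArg (fun u : ℂˣ => (u : ℂ)) hn
      simpa [φ, linearHom_apply, hj] using this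
    refine ⟨1, Subtype.ext ?_⟩
    rw [pow_one, Subgroup.coe_pow, ← hqn, hcube q hqs]
    rfl
  refine close_up (K := φ.ker) hS h3 (u := X) (v := Y) ⟨hφ _ rfl, (e W4.eX).2⟩ ⟨hφ _ rfl, (e W4.eY).2⟩
    hX3 (hcube _ rfl) ?_ hX1 ?_
  · show X * Y = Y * X
    rw [hX, hY, ← Subgroup.coe_mul, ← hemul, ← Subgroup.coe_mul, ← hemul, W4.comm_false _ _ rfl rfl]
  · intro h
    have hmem : Subgroup.zpowers X ≤ Subgroup.map M.subtype
        (Subgroup.zpowers (e W4.eX)) := by
      rw [MonoidHom.map_zpowers]; rfl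
    obtain ⟨_, ⟨k, rfl⟩, hk⟩ := hmem h
    have h3X : orderOf (e W4.eX) = 3 := by
      rw [← Subgroup.orderOf_coe]; exact orderOf_eq_three hX3 hX1
    have hk' : e W4.eY = e W4.eX ^ k := Subtype.ext hk.symm
    rw [← zpow_mod_orderOf, h3X] at hk'
    have hpw : ∀ m : ℕ, e W4.eX ^ m = e ⟨(m : ZMod 3), 0, 0, false⟩ := fun m => by
      induction m with
      | zero => simpa [W4.one] using heone.symm
      | succ m ih =>
        rw [pow_succ, ih, ← hemul]
        congr 1
        simp [W4.mul, W4.eX, W4.sg]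
    rw [Nat.cast_ofNat, ← Int.toNat_of_nonneg (Int.emod_nonneg k (by norm_num : (3 : ℤ) ≠ 0)),
      zpow_natCast, hpw] at hk'
    exact W4.pow_eX _ (e.injective hk').symm

end CfsgLib.LFourThree.SmallC
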