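import Cfsg.Agent.Lib.LFourThree.SmallV
import Cfsg.Agent.Lib.LFourThree.SmallWCore

/-!
Small recognition lemmas for `PSL(4,3)`: strongly `3`-embedded subgroups of order `162`.
-/

set_option autoImplicit false
set_option linter.unusedSectionVars false
set_option maxRecDepth 20000

namespace CfsgLib.LFourThree

open SmallC
open scoped commutatorElement

/-- Coordinates `s^u c^v x^w a^i j^t`. -/
structure SmallC.W5 where
  u : ZMod 3
  v : ZMod 3
  w : ZMod 3
  i : ZMod 3
  t : Bool
  deriving DecidableEq, Fintype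

/-- Multiplication in these coordinates. -/
def SmallC.W5.mul (p q : SmallC.W5) : SmallC.W5 :=
  ⟨p.u + W4.sg p.t q.u, p.v + W4.sg p.t q.v + p.i * W4.sg p.t q.w, p.w + W4.sg p.t q.w, p.i + q.i,
    xor p.t q.t⟩

theorem SmallC.W5.card_eq : Fintype.card SmallC.W5 = 162 := by decide +kernel

theorem SmallC.W5.mul_i : ∀ p q : SmallC.W5, (SmallC.W5.mul p q).i = p.i + q.i := fun _ _ => rfl

variable {Y : Type*} [Group Y] [Finite Y]

/-- A strongly `3`-embedded `(3 wr 3):2` is everything. -/
theorem small_v {a b c x j : Y} (ha : a ^ 3 = 1) (hb : b ^ 3 = 1) (hc : c ^ 3 = 1) (hx : x ^ 3 = 1)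
    (hj : j ^ 2 = 1) (hab : Commute a b) (hac : Commute a c) (hbc : Commute b c)
    (hxa : x * a * x⁻¹ = a * c) (hxb : x * b * x⁻¹ = b * a * c ^ 2) (hxc : Commute x c)
    (hja : Commute j a) (hjb : j * b * j⁻¹ = b⁻¹) (hjc : j * c * j⁻¹ = c⁻¹) (hjx : j * x * j⁻¹ = x⁻¹)
    (hcard : Nat.card (Subgroup.closure ({a, b, c, x, j} : Set Y)) = 162)
    (hS : Strong (Subgroup.closure ({a, b, c, x, j} : Set Y))) :
    Subgroup.closure ({a, b, c, x, j} : Set Y) = ⊤ := by
  haveI : Fintype Y := Fintype.ofFinite Y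
  exact small_v_aux ha hb hc hx hj hab hac hbc hxa hxb hxc hja hjb hjc hjx hcard hS

/-- A strongly `3`-embedded `(3 × 3^(1+2)):2` is everything. -/
theorem small_w {s a x j : Y} (hs : s ^ 3 = 1) (ha : a ^ 3 = 1) (hx : x ^ 3 = 1) (hj : j ^ 2 = 1)
    (hsa : Commute s a) (hsx : Commute s x) (hca : Commute ⁅a, x⁆ a) (hcx : Commute ⁅a, x⁆ x)
    (hc1 : ⁅a, x⁆ ≠ 1) (hjs : j * s * j⁻¹ = s⁻¹) (hja : Commute j a) (hjx : j * x * j⁻¹ = x⁻¹)
    (hcard : Nat.card (Subgroup.closure ({s, a, x, j} : Set Y)) = 162)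
    (hS : Strong (Subgroup.closure ({s, a, x, j} : Set Y))) :
    Subgroup.closure ({s, a, x, j} : Set Y) = ⊤ := by
  classical
  set c := ⁅a, x⁆ with hcdef
  have hax : a * x * a⁻¹ = c * x := by rw [hcdef, commutatorElement_def, inv_mul_cancel_right]
  have hc3 : c ^ 3 = 1 := by
    have h := congrArg (fun y => y ^ 3) hax
    simp only [conj_pow, hx, mul_one, mul_inv_cancel, hcx.mul_pow] at h
    exact h.symm
  have hcs : Commute s c := by
    rw [hcdef, commutatorElement_def]
    exact ((hsa.mul_right hsx).mul_right hsa.inv_right).mul_right hsx.inv_right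
  have hjc : j * c * j⁻¹ = c⁻¹ := by
    have ja : j * a * j⁻¹ = a := by rw [hja.eq, mul_inv_cancel_right]
    have h1 : j * c * j⁻¹ = a * x⁻¹ * a⁻¹ * x := by
      rw [hcdef, commutatorElement_def]
      calc j * (a * x * a⁻¹ * x⁻¹) * j⁻¹
          = (j * a * j⁻¹) * (j * x * j⁻¹) * (j * a * j⁻¹)⁻¹ * (j * x * j⁻¹)⁻¹ := by group
        _ = _ := by rw [ja, hjx, inv_inv]
    have h2 : a * x⁻¹ * a⁻¹ = x⁻¹ * c⁻¹ := by
      calc a * x⁻¹ * a⁻¹ = (a * x * a⁻¹)⁻¹ := by group
        _ = _ := by rw [hax, mul_inv_rev]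
    rw [h1, h2, mul_assoc, hcx.inv_left.eq, inv_mul_cancel_left]
  -- normal form
  let E : ZMod 3 → ZMod 3 → ZMod 3 → Y := fun u v w => pw s u * pw c v * pw x w
  have csc : ∀ z w, Commute (pw s z) (pw c w) := fun z w => hcs.pow_pow _ _
  have csx : ∀ z w, Commute (pw s z) (pw x w) := fun z w => hsx.pow_pow _ _
  have ccx : ∀ z w, Commute (pw c z) (pw x w) := fun z w => hcx.pow_pow _ _
  have Eadd : ∀ u v w u' v' w', E u v w * E u' v' w' = E (u + u') (v + v') (w + w') := by
    intro u v w u' v' w'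
    simp only [E, pw_add hs, pw_add hc3, pw_add hx]
    rw [Commute.mul_mul_mul_comm (Commute.mul_right (csx u' w).symm (ccx v' w).symm),
      Commute.mul_mul_mul_comm (csc u' v).symm]
  have haE : ∀ i u v w, pw a i * E u v w = E u (v + i * w) w * pw a i := by
    intro i u v w
    have e1 : a * s * a⁻¹ = s := by rw [hsa.symm.eq, mul_inv_cancel_right]
    have e2 : a * c * a⁻¹ = c := by rw [hca.symm.eq, mul_inv_cancel_right]
    have hone : ∀ u v w, a * E u v w = E u (v + w) w * a := by
      intro u v w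
      calc a * E u v w = a * pw s u * pw c v * pw x w := by simp only [E, mul_assoc]
        _ = pw s u * (a * pw c v) * pw x w := by rw [conj_pw e1 u]; simp only [mul_assoc]
        _ = pw s u * pw c v * (a * pw x w) := by rw [conj_pw e2 v]; simp only [mul_assoc]
        _ = _ := by
          rw [conj_pw hax w, show pw (c * x) w = pw c w * pw x w from hcx.mul_pow _]
          simp only [E, pw_add hc3, mul_assoc]
    have hi : i = 0 ∨ i = 1 ∨ i = 2 := by revert i; decide
    rcases hi with rfl | rfl | rfl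
    · simp [pw_zero]
    · rw [pw_one, hone, one_mul]
    · rw [pw_two, pow_two, mul_assoc, hone, ← mul_assoc, hone, mul_assoc]
      congr 2
      ring
  have hjE : ∀ u v w, j * E u v w = E (-u) (-v) (-w) * j := by
    intro u v w
    calc j * E u v w = j * pw s u * pw c v * pw x w := by simp only [E, mul_assoc]
      _ = pw s⁻¹ u * (j * pw c v) * pw x w := by rw [conj_pw hjs u]; simp only [mul_assoc]
      _ = pw s⁻¹ u * pw c⁻¹ v * (j * pw x w) := by rw [conj_pw hjc v]; simp only [mul_assoc]
      _ = _ := by rw [conj_pw hjx w, ← pw_neg hs, ← pw_neg hc3, ← pw_neg hx]; simp only [E, mul_assoc]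
  let f : W5 → Y := fun p => E p.u p.v p.w * pw a p.i * (if p.t then j else 1)
  have hf : ∀ p q, f (W5.mul p q) = f p * f q := by
    rintro ⟨u, v, w, i, t⟩ ⟨u', v', w', i', t'⟩
    have key : ∀ u' v' w' (r : Y), E u v w * pw a i * (E u' v' w' * pw a i' * r) =
        E (u + u') (v + v' + i * w') (w + w') * pw a (i + i') * r := by
      intro u' v' w' r
      calc E u v w * pw a i * (E u' v' w' * pw a i' * r)
          = E u v w * (pw a i * E u' v' w') * (pw a i' * r) := by simp only [mul_assoc]
        _ = E u v w * E u' (v' + i * w') w' * (pw a i * pw a i') * r := by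
          rw [haE]; simp only [mul_assoc]
        _ = _ := by rw [Eadd, ← pw_add ha, add_assoc]
    simp only [f, W5.mul]
    cases t
    · simp only [W4.sg, Bool.false_eq_true, if_false, Bool.false_bne, mul_one]
      rw [key]
    · simp only [W4.sg, if_true]
      have hja' : j * pw a i' = pw a i' * j := (hja.pow_right _).eq
      have hr : (if (xor true t') then j else 1) = j * (if t' then j else (1 : Y)) := by
        cases t'
        · simp
        · simp only [Bool.xor_self, Bool.false_eq_true, if_false, if_true]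
          rw [← pow_two, hj]
      rw [hr]
      symm
      calc E u v w * pw a i * j * (E u' v' w' * pw a i' * (if t' then j else 1))
          = E u v w * pw a i * ((j * E u' v' w') * (pw a i' * (if t' then j else 1))) := by
            simp only [mul_assoc]
        _ = E u v w * pw a i * (E (-u') (-v') (-w') * (j * pw a i') * (if t' then j else 1)) := by
            rw [hjE]; simp only [mul_assoc]
        _ = E u v w * pw a i * (E (-u') (-v') (-w') * pw a i' * (j * (if t' then j else 1))) := by
            rw [hja']; simp only [mul_assoc]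
        _ = _ := key _ _ _ _
  set N := Subgroup.closure ({s, a, x, j} : Set Y) with hN
  have hmem : ∀ y ∈ ({s, a, x, j} : Set Y), y ∈ N := fun y hy => Subgroup.subset_closure hy
  obtain ⟨e, he⟩ : ∃ e : W5 ≃ N, ∀ p, (e p : Y) = f p := by
    refine coord_of W5.mul f hf _ ⟨⟨0, 0, 0, 0, false⟩, by simp [f, E, pw_zero]⟩ ?_ ?_
      (by rw [W5.card_eq]; exact hcard)
    · intro y hy
      simp only [Set.mem_insert_iff, Set.mem_singleton_iff] at hy
      rcases hy with rfl | rfl | rfl | rfl
      · exact ⟨⟨1, 0, 0, 0, false⟩, by simp [f, E, pw_zero, pw_one]⟩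
      · exact ⟨⟨0, 0, 0, 1, false⟩, by simp [f, E, pw_zero, pw_one]⟩
      · exact ⟨⟨0, 0, 1, 0, false⟩, by simp [f, E, pw_zero, pw_one]⟩
      · exact ⟨⟨0, 0, 0, 0, true⟩, by simp [f, E, pw_zero]⟩
    · have hcN : c ∈ Subgroup.closure ({s, a, x, j} : Set Y) := by
        rw [hcdef, commutatorElement_def]
        exact mul_mem (mul_mem (mul_mem (hmem a (by simp)) (hmem x (by simp))) (inv_mem (hmem a (by simp))))
          (inv_mem (hmem x (by simp)))
      intro p
      refine mul_mem (mul_mem (mul_mem (mul_mem ?_ ?_) ?_) ?_) ?_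
      all_goals first
        | exact pow_mem hcN _
        | exact pow_mem (Subgroup.subset_closure (by simp)) _
        | (split
           · exact Subgroup.subset_closure (by simp)
           · exact one_mem _)
  have hemul : ∀ p q, e (W5.mul p q) = e p * e q := fun p q => Subtype.ext (by
    rw [Subgroup.coe_mul, he, he, he, hf])
  have hco : ∀ m n : N, e.symm (m * n) = W5.mul (e.symm m) (e.symm n) := fun m n => by
    apply e.injective; simp [hemul]
  let φ : N →* Multiplicative (ZMod 3) :=
    MonoidHom.mk' (fun n => Multiplicative.ofAdd (e.symm n).i) fun m n => by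
      rw [hco, W5.mul_i]; rfl
  haveI : N.FiniteIndex := inferInstance
  let V : Y →* Multiplicative (ZMod 3) := MonoidHom.transfer φ
  have hV3 : ∀ z : Multiplicative (ZMod 3), z ^ 3 = 1 := by decide
  have hflip : ∀ y : Y, j * y * j⁻¹ = y⁻¹ → V y = 1 := by
    intro y h
    have h1 := congrArg V h
    rw [map_mul, map_mul, map_inv, map_inv, mul_comm (V j) (V y), mul_inv_cancel_right] at h1
    have : ∀ z : Multiplicative (ZMod 3), z = z⁻¹ → z = 1 := by decide
    exact this _ h1
  have hVs := hflip s hjs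
  have hVx := hflip x hjx
  have hVc := hflip c hjc
  have hVj : V j = 1 := by
    have : ∀ z : Multiplicative (ZMod 3), z ^ 2 = 1 → z = 1 := by decide
    exact this _ (by rw [← map_pow, hj, map_one])
  have haN : a ∈ N := hmem a (by simp)
  have hφa : φ ⟨a, haN⟩ = Multiplicative.ofAdd (1 : ZMod 3) := by
    have : e.symm ⟨a, haN⟩ = ⟨0, 0, 0, 1, false⟩ := by
      apply e.injective; apply Subtype.ext
      simp [he, f, E, pw_zero, pw_one]
    show Multiplicative.ofAdd (e.symm ⟨a, haN⟩).i = _
    rw [this]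
  have ha1 : a ≠ 1 := fun h => hc1 (by rw [hcdef, h, commutatorElement_one_left])
  have hVa : V a = Multiplicative.ofAdd (1 : ZMod 3) := by
    haveI : Fintype (Y ⧸ N) := Fintype.ofFinite _
    show MonoidHom.transfer φ a = _
    rw [MonoidHom.transfer_eq_prod_quotient_orbitRel_zpowers_quot]
    have key : ∀ q : Quotient (MulAction.orbitRel (Subgroup.zpowers a) (Y ⧸ N)),
        φ ⟨q.out.out⁻¹ * a ^ Function.minimalPeriod (a • ·) q.out * q.out.out,
          QuotientGroup.out_conj_pow_minimalPeriod_mem N a q.out⟩ =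
        φ ⟨a, haN⟩ ^ Function.minimalPeriod (a • ·) q.out := by
      intro q
      set k := Function.minimalPeriod (a • ·) q.out
      set g := q.out.out
      have hmemk := QuotientGroup.out_conj_pow_minimalPeriod_mem N a q.out
      rw [← map_pow]
      by_cases h1 : a ^ k = 1
      · congr 1
        apply Subtype.ext
        show g⁻¹ * a ^ k * g = a ^ k
        rw [h1, mul_one, inv_mul_cancel]
      · have hg : g⁻¹ ∈ N := strong_cube hS (pow_mem haN k)
          (by rw [← pow_mul, mul_comm, pow_mul, ha, one_pow]) h1 (g := g⁻¹)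
          (by rw [inv_inv]; exact hmemk)
        have e1 : (⟨g⁻¹ * a ^ k * g, hmemk⟩ : N) = ⟨g⁻¹, hg⟩ * ⟨a, haN⟩ ^ k * ⟨g⁻¹, hg⟩⁻¹ := by
          apply Subtype.ext; simp
        rw [e1, map_mul, map_mul, map_inv, mul_comm (φ ⟨g⁻¹, hg⟩), mul_inv_cancel_right]
    rw [Finset.prod_congr rfl fun q _ => key q, Finset.prod_pow_eq_pow_sum,
      ← Subgroup.index_eq_sum_minimalPeriod N a, hφa]
    have hidx := index_mod_three hS haN ha ha1
    rw [← pow_mod_orderOf, show orderOf (Multiplicative.ofAdd (1 : ZMod 3)) = 3 from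
      orderOf_eq_three (hV3 _) (by decide), hidx, pow_one]
  have hVe : ∀ p : W5, V (e p : Y) = Multiplicative.ofAdd p.i := by
    intro p
    rw [he]
    simp only [f, E, pw, map_mul, map_pow, hVs, hVc, hVx, hVa, one_pow, one_mul]
    have : V (if p.t then j else 1) = 1 := by cases p.t <;> simp [hVj]
    rw [this, mul_one, ← ofAdd_nsmul, nsmul_eq_mul, mul_one, ZMod.natCast_zmod_val]
  -- inside the kernel
  let M : Subgroup V.ker := N.subgroupOf V.ker
  have hMS : Strong M := by
    intro y hy h3 g hg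
    rw [Subgroup.mem_subgroupOf] at hy hg ⊢
    exact hS _ hy (by rwa [Subgroup.orderOf_coe]) _ hg
  let emb : W4 → W5 := fun p => ⟨p.u, p.v, p.w, 0, p.s⟩
  have hembV : ∀ p, (e (emb p) : Y) ∈ V.ker := fun p => by
    rw [MonoidHom.mem_ker, hVe]; rfl
  have hi0 : ∀ m : M, (e.symm ⟨((m : V.ker) : Y), Subgroup.mem_subgroupOf.mp m.2⟩).i = 0 := fun m => by
    have h := hVe (e.symm ⟨((m : V.ker) : Y), Subgroup.mem_subgroupOf.mp m.2⟩)
    rw [Equiv.apply_symm_apply] at h
    have hm : V ((m : V.ker) : Y) = 1 := (m : V.ker).2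
    rw [hm] at h
    exact Multiplicative.ofAdd.injective h.symm
  let eM : W4 ≃ M :=
    { toFun := fun p => ⟨⟨e (emb p), hembV p⟩, Subgroup.mem_subgroupOf.mpr (e (emb p)).2⟩
      invFun := fun m =>
        let q := e.symm ⟨((m : V.ker) : Y), Subgroup.mem_subgroupOf.mp m.2⟩
        ⟨q.u, q.v, q.w, q.t⟩
      left_inv := fun p => by simp [emb]
      right_inv := fun m => by
        apply Subtype.ext; apply Subtype.ext
        show (e (emb _) : Y) = _
        have : emb ⟨(e.symm ⟨((m : V.ker) : Y), Subgroup.mem_subgroupOf.mp m.2⟩).u,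
            (e.symm ⟨((m : V.ker) : Y), Subgroup.mem_subgroupOf.mp m.2⟩).v,
            (e.symm ⟨((m : V.ker) : Y), Subgroup.mem_subgroupOf.mp m.2⟩).w,
            (e.symm ⟨((m : V.ker) : Y), Subgroup.mem_subgroupOf.mp m.2⟩).t⟩ =
            e.symm ⟨((m : V.ker) : Y), Subgroup.mem_subgroupOf.mp m.2⟩ := by
          have h := hi0 m
          generalize e.symm ⟨((m : V.ker) : Y), Subgroup.mem_subgroupOf.mp m.2⟩ = q at h ⊢
          obtain ⟨qu, qv, qw, qi, qt⟩ := q
          simp only at h
          subst h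
          rfl
        rw [this, Equiv.apply_symm_apply] }
  haveI : Fintype V.ker := Fintype.ofFinite _
  have hMtop : M = ⊤ := core_w M hMS eM fun p q => by
    apply Subtype.ext; apply Subtype.ext
    show (e (emb (W4.mul p q)) : Y) = (e (emb p) : Y) * e (emb q)
    rw [← Subgroup.coe_mul, ← hemul]
    congr 2
    simp [emb, W4.mul, W5.mul]
  rw [eq_top_iff]
  intro g _
  have hxN : x ∈ N := hmem x (by simp)
  have hx1 : x ≠ 1 := fun h => hc1 (by rw [hcdef, h, commutatorElement_one_right])
  refine strong_cube hS hxN hx hx1 (g := g) ?_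
  have hgx : g * x * g⁻¹ ∈ V.ker := (MonoidHom.normal_ker V).conj_mem x hVx g
  exact Subgroup.mem_subgroupOf.mp (hMtop ▸ Subgroup.mem_top (⟨_, hgx⟩ : V.ker))

end CfsgLib.LFourThree
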