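import Cfsg.Agent.Lib.LFourThree.QuotI
import Cfsg.Agent.Lib.LFourThree.Small

/-!
An embedded `3^3 : SL(3,3)` whose root elements of the first row are not fused out of it is
strongly 3-embedded in the weak sense.
-/

set_option autoImplicit false

namespace CfsgLib.LFourThree.Par

open Matrix
open scoped commutatorElement

variable {G : Type*} [Group G] [Finite G] {φ : para →* G}

theorem order_three {p q r b c t : ZMod 3} (hp : p * b * t = 0) (hne : U p q r b c t ≠ 1) :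
    orderOf (U p q r b c t) = 3 :=
  have : Fact (Nat.Prime 3) := ⟨Nat.prime_three⟩
  orderOf_eq_prime (cube_eq_one_iff.2 hp) hne

theorem jE_comm (p q r b c t : ZMod 3) :
    jE * U p q r b c t = U (2 * p) q (2 * r) (2 * b) c (2 * t) * jE := by
  have h4 : ∀ x : ZMod 3, x = 2 * x * 2 := by decide
  apply m_inj
  simp only [m_mul, m_U, m_jE, WM_mul]
  congr 1 <;> first
    | ring1
    | simp [← h4]

theorem jE_sq : jE ^ 2 = 1 := by
  apply m_inj
  rw [pow_two, m_mul, m_jE, WM_mul, m_one, ← WM_one]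
  congr 1

theorem m_Uj (p q r b c t : ZMod 3) :
    m (U p q r b c t * jE) = WM (2 * p) q (2 * r) 2 b (2 * c) (2 * t) := by
  simp only [m_mul, m_U, m_jE, WM_mul]
  congr 1 <;> ring

theorem mem_w (q r b c t : ZMod 3) : U 0 q r b c t ∈ CenP wE := by
  rw [Subgroup.mem_centralizer_singleton_iff]
  simp only [wE, U_mul]
  congr 1 <;> ring

theorem j_mem_w : jE ∈ CenP wE := by
  rw [Subgroup.mem_centralizer_singleton_iff, wE, jE_comm]
  congr 1 <;> ring

theorem mem_v (s p q r b c : ZMod 3) : U p q r b c (s * p) ∈ CenP (vE s) := by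
  rw [Subgroup.mem_centralizer_singleton_iff]
  simp only [vE, U_mul]
  congr 1 <;> ring

theorem j_mem_v (s : ZMod 3) : jE ∈ CenP (vE s) := by
  rw [Subgroup.mem_centralizer_singleton_iff, vE, jE_comm]
  congr 1 <;> ring

theorem forms_w {g : para} (hg : g ∈ CenP wE) :
    ∃ q r b c t, g = U 0 q r b c t ∨ g = U 0 q r b c t * jE := by
  obtain ⟨q, r, a, b, c, t, hm⟩ := cent_w (Subgroup.mem_centralizer_singleton_iff.1 hg)
  rcases tri_cases hm with ⟨-, h⟩ | ⟨-, h⟩
  · exact ⟨_, _, _, _, _, Or.inl h⟩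
  · rw [mul_zero] at h
    exact ⟨_, _, _, _, _, Or.inr h⟩

theorem forms_v {s : ZMod 3} (hs : s ≠ 0) {g : para} (hg : g ∈ CenP (vE s)) :
    ∃ p q r b c, g = U p q r b c (s * p) ∨ g = U p q r b c (s * p) * jE := by
  obtain ⟨p, q, r, a, b, c, hm⟩ := cent_v hs (Subgroup.mem_centralizer_singleton_iff.1 hg)
  rcases tri_cases hm with ⟨-, h⟩ | ⟨-, h⟩
  · exact ⟨_, _, _, _, _, Or.inl h⟩
  · rw [mul_left_comm 2 s p] at h
    exact ⟨_, _, _, _, _, Or.inr h⟩

theorem count_params {C : Subgroup para} (f : ZMod 3 × ZMod 3 × ZMod 3 × ZMod 3 × ZMod 3 → para)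
    (hinj : Function.Injective f) (hU : ∀ x, IsU (f x)) (hf : ∀ x, f x ∈ C) (hj : jE ∈ C)
    (hall : ∀ g ∈ C, ∃ x, g = f x ∨ g = f x * jE) : Nat.card C = 486 := by
  let F : Bool × (ZMod 3 × ZMod 3 × ZMod 3 × ZMod 3 × ZMod 3) → C := fun x =>
    if x.1 then ⟨f x.2 * jE, mul_mem (hf _) hj⟩ else ⟨f x.2, hf _⟩
  have hdis : ∀ x y, f x ≠ f y * jE := by
    intro x y h
    obtain ⟨p, q, r, b, c, t, hx⟩ := hU x
    obtain ⟨p', q', r', b', c', t', hy⟩ := hU y
    rw [hx, hy] at h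
    have h' := congrArg m h
    rw [m_U, m_Uj] at h'
    exact absurd (WM_ext h').2.2.2.1 (by decide)
  have hF : Function.Bijective F := by
    refine ⟨?_, ?_⟩
    · rintro ⟨a, x⟩ ⟨b, y⟩ h
      cases a <;> cases b <;> simp [F] at h
      · rw [hinj h]
      · exact absurd h (hdis x y)
      · exact absurd h.symm (hdis y x)
      · rw [hinj h]
    · rintro ⟨g, hg⟩
      obtain ⟨x, rfl | rfl⟩ := hall g hg
      · exact ⟨(false, x), by simp [F]⟩
      · exact ⟨(true, x), by simp [F]⟩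
  rw [← Nat.card_eq_of_bijective F hF]
  simp

theorem card_w : Nat.card (CenP wE) = 486 := by
  refine count_params (fun x => U 0 x.1 x.2.1 x.2.2.1 x.2.2.2.1 x.2.2.2.2) ?_ ?_ ?_ j_mem_w ?_
  · rintro ⟨a, b, c, d, e⟩ ⟨a', b', c', d', e'⟩ h
    obtain ⟨-, h1, h2, h3, h4, h5⟩ := U_ext h
    exact Prod.ext h1 (Prod.ext h2 (Prod.ext h3 (Prod.ext h4 h5)))
  · exact fun x => ⟨_, _, _, _, _, _, rfl⟩
  · exact fun x => mem_w _ _ _ _ _
  · intro g hg
    obtain ⟨q, r, b, c, t, h⟩ := forms_w hg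
    exact ⟨(q, r, b, c, t), h⟩

theorem card_v {s : ZMod 3} (hs : s ≠ 0) : Nat.card (CenP (vE s)) = 486 := by
  refine count_params (fun x => U x.1 x.2.1 x.2.2.1 x.2.2.2.1 x.2.2.2.2 (s * x.1)) ?_ ?_ ?_
    (j_mem_v s) ?_
  · rintro ⟨a, b, c, d, e⟩ ⟨a', b', c', d', e'⟩ h
    obtain ⟨h1, h2, h3, h4, h5, -⟩ := U_ext h
    exact Prod.ext h1 (Prod.ext h2 (Prod.ext h3 (Prod.ext h4 h5)))
  · exact fun x => ⟨_, _, _, _, _, _, rfl⟩
  · exact fun x => mem_v _ _ _ _ _ _
  · intro g hg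
    obtain ⟨p, q, r, b, c, h⟩ := forms_v hs hg
    exact ⟨(p, q, r, b, c), h⟩

theorem pow_val_mem {H : Subgroup para} {q r b c : ZMod 3} (h : U 0 q r b c 0 ∈ H) (k : ZMod 3) :
    U 0 (k * q) (k * r) (k * b) (k * c) 0 ∈ H := by
  rw [← A_pow_val]
  exact pow_mem h _

theorem good_w (hinj : Function.Injective φ) (hz : ZHyp φ) : Good φ wE := by
  have htri : ∀ g, g * wE = wE * g → ∃ p q r a b c t, m g = WM p q r a b c t :=
    fun g hg => ⟨0, cent_w hg⟩
  have hzero : ∀ x, IsU x → x * wE = wE * x → ∃ q r b c t, x = U 0 q r b c t := by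
    rintro _ ⟨p, q, r, b, c, t, rfl⟩ h
    obtain ⟨q', r', a, b', c', t', hm⟩ := cent_w h
    rw [m_U] at hm
    rw [(WM_ext hm).1]
    exact ⟨_, _, _, _, _, rfl⟩
  have hS : Strong (psi φ wE).range := by
    refine psi_strong hinj hz (d := 0) (e := 1) rfl htri ?_ ?_
    · intro x hx hxv _ hxn
      obtain ⟨q, r, b, c, t, rfl⟩ := hzero x hx hxv
      by_cases hbt : b = 0 ∧ t = 0
      · obtain ⟨rfl, rfl⟩ := hbt
        exact Or.inl (lift_w hxn)
      · exact Or.inr fun g hg hgx => hU_w hbt hg hgx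
    · intro x hx hxv _ hxn
      obtain ⟨q, r, b, c, t, rfl⟩ := hzero x hx hxv
      exact good2_w hinj hz hxn
  apply good_of_top
  let sC : CenP wE := ⟨U 0 0 0 1 0 0, mem_w _ _ _ _ _⟩
  let aC : CenP wE := ⟨U 0 1 0 0 0 0, mem_w _ _ _ _ _⟩
  let xC : CenP wE := ⟨U 0 0 0 0 0 1, mem_w _ _ _ _ _⟩
  let jC : CenP wE := ⟨jE, j_mem_w⟩
  let zC : CenP wE := ⟨zE, mem_w _ _ _ _ _⟩
  have hclo : Subgroup.closure ({psi φ wE sC, psi φ wE aC, psi φ wE xC, psi φ wE jC} : Set _) =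
      (psi φ wE).range := by
    rw [← closure_eq_range hinj {sC, aC, xC, jC} ?_]
    · simp only [Set.image_insert_eq, Set.image_singleton]
    intro g hg
    set H := Subgroup.closure (insert wE (Subtype.val '' ({sC, aC, xC, jC} : Set (CenP wE))))
    have hwH : U 0 0 0 0 1 0 ∈ H := Subgroup.subset_closure (Set.mem_insert _ _)
    have hsH : U 0 0 0 1 0 0 ∈ H := Subgroup.subset_closure (Or.inr ⟨sC, by simp, rfl⟩)
    have haH : U 0 1 0 0 0 0 ∈ H := Subgroup.subset_closure (Or.inr ⟨aC, by simp, rfl⟩)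
    have hxH : U 0 0 0 0 0 1 ∈ H := Subgroup.subset_closure (Or.inr ⟨xC, by simp, rfl⟩)
    have hjH : jE ∈ H := Subgroup.subset_closure (Or.inr ⟨jC, by simp, rfl⟩)
    have hzH : U 0 0 1 0 0 0 ∈ H := by
      have h := mul_mem (mul_mem haH hxH) (inv_mem (mul_mem hxH haH))
      have he : U 0 1 0 0 0 0 * U 0 0 0 0 0 1 =
          U 0 0 1 0 0 0 * (U 0 0 0 0 0 1 * U 0 1 0 0 0 0) := by
        simp only [U_mul]; congr 1 <;> ring
      rwa [he, mul_inv_cancel_right] at h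
    have hxt : ∀ t, U 0 0 0 0 0 t ∈ H := by
      intro t
      have : ∀ t : ZMod 3, t = 0 ∨ t = 1 ∨ t = 1 + 1 := by decide
      rcases this t with rfl | rfl | rfl
      · rw [U_one]; exact one_mem _
      · exact hxH
      · have := mul_mem hxH hxH
        rw [U_mul] at this
        simpa using this
    have hU : ∀ q r b c t, U 0 q r b c t ∈ H := by
      intro q r b c t
      have h := mul_mem (mul_mem (mul_mem (mul_mem (pow_val_mem haH q) (pow_val_mem hzH (r - q * t)))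
        (pow_val_mem hsH b)) (pow_val_mem hwH (c - b * t))) (hxt t)
      simp only [U_mul] at h
      convert h using 2 <;> ring
    obtain ⟨q, r, b, c, t, rfl | rfl⟩ := forms_w hg
    · exact hU _ _ _ _ _
    · exact mul_mem (hU _ _ _ _ _) hjH
  rw [← hclo]
  have hcube : ∀ (p q r b c t : ZMod 3) (h), p * b * t = 0 →
      psi φ wE ⟨U p q r b c t, h⟩ ^ 3 = 1 := fun p q r b c t h hp => by
    rw [← map_pow, show (⟨U p q r b c t, h⟩ : CenP wE) ^ 3 = 1 from
      Subtype.ext (cube_eq_one_iff.2 hp), map_one]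
  have hcomm : ∀ x y : CenP wE, (x : para) * y = y * x → Commute (psi φ wE x) (psi φ wE y) :=
    fun x y h => by
      rw [commute_iff_eq, ← map_mul, ← map_mul]
      exact congrArg _ (Subtype.ext h)
  have hcm : ⁅psi φ wE aC, psi φ wE xC⁆ = psi φ wE zC := by
    rw [← map_commutatorElement]
    refine congrArg _ (Subtype.ext ?_)
    show U 0 1 0 0 0 0 * U 0 0 0 0 0 1 * (U 0 1 0 0 0 0)⁻¹ * (U 0 0 0 0 0 1)⁻¹ = zE
    rw [mul_inv_eq_iff_eq_mul, mul_inv_eq_iff_eq_mul]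
    simp only [zE, U_mul]; congr 1 <;> ring
  refine small_w (hcube _ _ _ _ _ _ _ (by ring)) (hcube _ _ _ _ _ _ _ (by ring))
    (hcube _ _ _ _ _ _ _ (by ring)) ?_ ?_ ?_ ?_ ?_ ?_ ?_ ?_ ?_ ?_ (hclo ▸ hS)
  · rw [← map_pow, show jC ^ 2 = 1 from Subtype.ext jE_sq, map_one]
  · exact hcomm _ _ (by simp only [sC, aC, U_mul]; congr 1 <;> ring)
  · have h : (sC * xC : CenP wE) = xC * sC * ⟨wE, mem_w _ _ _ _ _⟩ :=
      Subtype.ext (show U 0 0 0 1 0 0 * U 0 0 0 0 0 1 =
        U 0 0 0 0 0 1 * U 0 0 0 1 0 0 * U 0 0 0 0 1 0 by simp only [U_mul]; congr 1 <;> ring)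
    rw [commute_iff_eq, ← map_mul, h, map_mul,
      (psi_eq_one hinj ⟨wE, mem_w _ _ _ _ _⟩).2 (Subgroup.mem_zpowers _), mul_one, map_mul]
  · rw [hcm]; exact hcomm _ _ (by simp only [zC, aC, zE, U_mul]; congr 1 <;> ring)
  · rw [hcm]; exact hcomm _ _ (by simp only [zC, xC, zE, U_mul]; congr 1 <;> ring)
  · rw [hcm]
    intro h
    obtain ⟨n, hn⟩ := (isOfFinOrder_of_finite wE).mem_powers_iff_mem_zpowers.2
      ((psi_eq_one hinj zC).1 h)
    simp only [wE, zE, A_pow, zC] at hn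
    have := (U_ext hn).2.2.1
    simp at this
  · rw [mul_inv_eq_iff_eq_mul, eq_inv_mul_iff_mul_eq, ← map_mul, ← map_mul]
    refine congrArg _ (Subtype.ext ?_)
    show U 0 0 0 1 0 0 * (jE * U 0 0 0 1 0 0) = jE
    rw [jE_comm, ← mul_assoc, U_mul]
    convert one_mul jE
    rw [← U_one]; congr 1 <;> decide
  · refine hcomm _ _ ?_
    show jE * U 0 1 0 0 0 0 = U 0 1 0 0 0 0 * jE
    rw [jE_comm]; congr 2
  · rw [mul_inv_eq_iff_eq_mul, eq_inv_mul_iff_mul_eq, ← map_mul, ← map_mul]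
    refine congrArg _ (Subtype.ext ?_)
    show U 0 0 0 0 0 1 * (jE * U 0 0 0 0 0 1) = jE
    rw [jE_comm, ← mul_assoc, U_mul]
    convert one_mul jE
    rw [← U_one]; congr 1 <;> decide
  · rw [hclo]
    exact card_range hinj (order_three (by ring) (fun h => absurd (U_ext (h.trans U_one.symm)).2.2.2.2.1 (by decide))) card_w

theorem good_v (hinj : Function.Injective φ) (hz : ZHyp φ) {s : ZMod 3} (hs : s ≠ 0) :
    Good φ (vE s) := by
  have hss : s * s = 1 := by revert hs; revert s; decide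
  have htri : ∀ g, g * vE s = vE s * g → ∃ p q r a b c t, m g = WM p q r a b c t := fun g hg => by
    obtain ⟨p, q, r, a, b, c, h⟩ := cent_v hs hg
    exact ⟨p, q, r, a, b, c, _, h⟩
  have hform : ∀ x, IsU x → x * vE s = vE s * x → ∃ p q r b c, x = U p q r b c (s * p) := by
    rintro _ ⟨p, q, r, b, c, t, rfl⟩ h
    obtain ⟨p', q', r', a, b', c', hm⟩ := cent_v hs h
    rw [m_U] at hm
    obtain ⟨h1, -, -, -, -, -, h7⟩ := WM_ext hm
    exact ⟨p, q, r, b, c, by rw [h7, h1]⟩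
  have hS : Strong (psi φ (vE s)).range := by
    refine psi_strong hinj hz (d := 1) (e := s) rfl htri ?_ ?_
    · intro x hx hxv hx3 hxn
      obtain ⟨p, q, r, b, c, rfl⟩ := hform x hx hxv
      by_cases hpb : p = 0 ∧ b = 0
      · obtain ⟨rfl, rfl⟩ := hpb
        rw [mul_zero] at hxn ⊢
        exact Or.inl (lift_v hs hxn)
      · exact Or.inr fun g hg hgx => hU_v hs hpb hg hgx
    · intro x hx hxv hx3 hxn
      obtain ⟨p, q, r, b, c, rfl⟩ := hform x hx hxv
      exact good2_v hinj hz hs (cube_eq_one_iff.1 hx3) hxn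
  apply good_of_top
  let aC : CenP (vE s) := ⟨U 0 1 0 0 0 (s * 0), mem_v _ _ _ _ _ _⟩
  let bC : CenP (vE s) := ⟨U 0 0 0 (-1) 0 (s * 0), mem_v _ _ _ _ _ _⟩
  let cC : CenP (vE s) := ⟨U 0 0 (-s) 0 0 (s * 0), mem_v _ _ _ _ _ _⟩
  let xC : CenP (vE s) := ⟨U 1 0 0 0 0 (s * 1), mem_v _ _ _ _ _ _⟩
  let jC : CenP (vE s) := ⟨jE, j_mem_v s⟩
  have hclo : Subgroup.closure ({psi φ (vE s) aC, psi φ (vE s) bC, psi φ (vE s) cC,
      psi φ (vE s) xC, psi φ (vE s) jC} : Set _) = (psi φ (vE s)).range := by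
    rw [← closure_eq_range hinj {aC, bC, cC, xC, jC} ?_]
    · simp only [Set.image_insert_eq, Set.image_singleton]
    intro g hg
    set H := Subgroup.closure (insert (vE s) (Subtype.val '' ({aC, bC, cC, xC, jC} : Set (CenP (vE s)))))
    have hvH : U 0 1 0 0 s 0 ∈ H := Subgroup.subset_closure (Set.mem_insert _ _)
    have haH : U 0 1 0 0 0 0 ∈ H := Subgroup.subset_closure (Or.inr ⟨aC, by simp, by simp [aC]⟩)
    have hbH : U 0 0 0 (-1) 0 0 ∈ H := Subgroup.subset_closure (Or.inr ⟨bC, by simp, by simp [bC]⟩)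
    have hcH : U 0 0 (-s) 0 0 0 ∈ H := Subgroup.subset_closure (Or.inr ⟨cC, by simp, by simp [cC]⟩)
    have hxH : U 1 0 0 0 0 (s * 1) ∈ H := Subgroup.subset_closure (Or.inr ⟨xC, by simp, rfl⟩)
    have hjH : jE ∈ H := Subgroup.subset_closure (Or.inr ⟨jC, by simp, rfl⟩)
    have hxp : ∀ p, U p 0 0 0 0 (s * p) ∈ H := by
      intro p
      have : ∀ p : ZMod 3, p = 0 ∨ p = 1 ∨ p = 1 + 1 := by decide
      rcases this p with rfl | rfl | rfl
      · rw [mul_zero, U_one]; exact one_mem _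
      · exact hxH
      · have := mul_mem hxH hxH
        rw [U_mul] at this
        convert this using 2 <;> ring
    have hA : ∀ q r b c, U 0 q r b c 0 ∈ H := by
      intro q r b c
      have h := mul_mem (mul_mem (mul_mem (pow_val_mem haH (q - s * c)) (pow_val_mem hcH (-(s * r))))
        (pow_val_mem hbH (-b))) (pow_val_mem hvH (s * c))
      simp only [U_mul] at h
      convert h using 2 <;> first
        | ring1
        | linear_combination -r * hss
        | linear_combination r * hss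
        | linear_combination -c * hss
        | linear_combination c * hss
    have hU : ∀ p q r b c, U p q r b c (s * p) ∈ H := by
      intro p q r b c
      have h := mul_mem (hA q (r - q * (s * p)) b (c - b * (s * p))) (hxp p)
      simp only [U_mul] at h
      convert h using 2 <;> ring
    obtain ⟨p, q, r, b, c, rfl | rfl⟩ := forms_v hs hg
    · exact hU _ _ _ _ _
    · exact mul_mem (hU _ _ _ _ _) hjH
  rw [← hclo]
  have hcube : ∀ (p q r b c t : ZMod 3) (h), p * b * t = 0 →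
      psi φ (vE s) ⟨U p q r b c t, h⟩ ^ 3 = 1 := fun p q r b c t h hp => by
    rw [← map_pow, show (⟨U p q r b c t, h⟩ : CenP (vE s)) ^ 3 = 1 from
      Subtype.ext (cube_eq_one_iff.2 hp), map_one]
  have hcomm : ∀ x y : CenP (vE s), (x : para) * y = y * x →
      Commute (psi φ (vE s) x) (psi φ (vE s) y) := fun x y h => by
    rw [commute_iff_eq, ← map_mul, ← map_mul]
    exact congrArg _ (Subtype.ext h)
  refine small_v (hcube _ _ _ _ _ _ _ (by ring)) (hcube _ _ _ _ _ _ _ (by ring))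
    (hcube _ _ _ _ _ _ _ (by ring)) (hcube _ _ _ _ _ _ _ (by ring))
    ?_ ?_ ?_ ?_ ?_ ?_ ?_ ?_ ?_ ?_ ?_ ?_ (hclo ▸ hS)
  · rw [← map_pow, show jC ^ 2 = 1 from Subtype.ext jE_sq, map_one]
  · exact hcomm _ _ (by simp only [aC, bC, U_mul]; congr 1 <;> ring)
  · exact hcomm _ _ (by simp only [aC, cC, U_mul]; congr 1 <;> ring)
  · exact hcomm _ _ (by simp only [bC, cC, U_mul]; congr 1 <;> ring)
  · rw [mul_inv_eq_iff_eq_mul, ← map_mul, ← map_mul, ← map_mul]
    refine congrArg _ (Subtype.ext ?_)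
    show U 1 0 0 0 0 (s * 1) * U 0 1 0 0 0 (s * 0) =
      U 0 1 0 0 0 (s * 0) * U 0 0 (-s) 0 0 (s * 0) * U 1 0 0 0 0 (s * 1)
    simp only [U_mul]
    congr 1 <;> ring
  · rw [mul_inv_eq_iff_eq_mul, pow_two, ← map_mul, ← map_mul, ← map_mul, ← map_mul, ← map_mul,
      ← mul_one (psi φ (vE s) (bC * aC * (cC * cC) * xC)),
      ← (psi_eq_one hinj ⟨vE s, Subgroup.mem_centralizer_singleton_iff.2 rfl⟩).2
        (Subgroup.mem_zpowers _), ← map_mul]
    refine congrArg _ (Subtype.ext ?_)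
    show U 1 0 0 0 0 (s * 1) * U 0 0 0 (-1) 0 (s * 0) =
      U 0 0 0 (-1) 0 (s * 0) * U 0 1 0 0 0 (s * 0) * (U 0 0 (-s) 0 0 (s * 0) *
        U 0 0 (-s) 0 0 (s * 0)) * U 1 0 0 0 0 (s * 1) * U 0 1 0 0 s 0
    simp only [U_mul]
    have : (3 : ZMod 3) = 0 := three_zero
    congr 1 <;> first
      | ring1
      | linear_combination this
      | linear_combination -this
      | linear_combination s * this
      | linear_combination -s * this
      | linear_combination 2 * s * this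
      | linear_combination -2 * s * this
  · exact hcomm _ _ (by simp only [xC, cC, U_mul]; congr 1 <;> ring)
  · refine hcomm _ _ ?_
    simp only [jC, aC]
    rw [jE_comm]; congr 2 <;> ring
  · rw [mul_inv_eq_iff_eq_mul, eq_inv_mul_iff_mul_eq, ← map_mul, ← map_mul]
    refine congrArg _ (Subtype.ext ?_)
    show U 0 0 0 (-1) 0 (s * 0) * (jE * U 0 0 0 (-1) 0 (s * 0)) = jE
    rw [jE_comm, ← mul_assoc, U_mul]
    convert one_mul jE
    rw [← U_one]; congr 1 <;> first | ring1 | decide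
  · rw [mul_inv_eq_iff_eq_mul, eq_inv_mul_iff_mul_eq, ← map_mul, ← map_mul]
    refine congrArg _ (Subtype.ext ?_)
    show U 0 0 (-s) 0 0 (s * 0) * (jE * U 0 0 (-s) 0 0 (s * 0)) = jE
    rw [jE_comm, ← mul_assoc, U_mul]
    convert one_mul jE
    rw [← U_one]; congr 1 <;> first | linear_combination -s * three_zero | ring1
  · rw [mul_inv_eq_iff_eq_mul, eq_inv_mul_iff_mul_eq, ← map_mul, ← map_mul]
    refine congrArg _ (Subtype.ext ?_)
    show U 1 0 0 0 0 (s * 1) * (jE * U 1 0 0 0 0 (s * 1)) = jE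
    rw [jE_comm, ← mul_assoc, U_mul]
    convert one_mul jE
    rw [← U_one]; congr 1 <;> first | linear_combination s * three_zero | ring1 | decide
  · rw [hclo]
    exact card_range hinj (order_three (by ring)
      (fun h => absurd (U_ext (h.trans U_one.symm)).2.1 (by decide))) (card_v hs)

theorem good_x (hinj : Function.Injective φ) (hz : ZHyp φ) : Good φ xE := by
  intro g hg
  refine good2_of_plane hinj hz (v := xE) (x := xE) ?_ ?_ ?_ (fun i j => U 0 0 i 0 j 0) ?_ ?_ ?_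
    ?_ ?_ g hg hg
  · simp only [zE, xE, U_mul]; congr 1 <;> ring
  · simp only [zE, xE, U_mul]; congr 1 <;> ring
  · intro g h _
    obtain ⟨r, b, c, rfl⟩ := cent_x h
    exact ⟨_, _, _, _, _, _, rfl⟩
  · intro i j i' j'
    simp only [U_mul]
    congr 1 <;> ring
  · intro i j h
    obtain ⟨-, -, h3, -, h5, -⟩ := U_ext (h.trans U_one.symm)
    exact ⟨h3, h5⟩
  · intro i j
    simp only [xE, U_mul]
    congr 1 <;> ring
  · intro i j
    refine ⟨0, ?_⟩
    rw [pow_zero, mul_one, mul_inv_eq_iff_eq_mul]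
    simp only [xE, U_mul]
    congr 1 <;> ring
  · intro i j hij g _ h
    by_cases hj : j = 0
    · subst hj
      exact good_of_isZ hz (isZ_Q (fun e => hij ⟨e.2.2, rfl⟩)) g h
    · obtain ⟨k, hk⟩ := conj_class (p := 0) (q := 0) (r := i) (b := 0) (c := j) (t := 0) (by ring)
        (fun e => hj (U_ext (e.trans U_one.symm)).2.2.2.2.1) (ent_x i j hj)
      exact good_of_conj hk (good_w hinj hz) g h

end CfsgLib.LFourThree.Par

namespace CfsgLib.LFourThree

open Par in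
/-- An embedded `3^3 : SL(3,3)` without fusion of `root 0 3 1` out of it is strongly 3-embedded. -/
theorem strong_para {G : Type*} [Group G] [Finite G] (φ : para →* G) (hinj : Function.Injective φ)
    (z : para) (hzv : (z : SL4) = root 0 3 1)
    (hz : ∀ g : G, g * φ z * g⁻¹ ∈ φ.range → g ∈ φ.range) : Strong φ.range := by
  have hz' : ZHyp φ := by
    have : z = zE := Subtype.ext (hzv.trans zE_val.symm)
    subst this
    exact hz
  have key : ∀ i, 1 ≤ i → Good φ (rep i) ∧ rep i * zE = zE * rep i ∧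
      ∀ g, g * rep i = rep i * g → ∃ p q r a b c t, m g = WM p q r a b c t := by
    intro i hi
    rcases i with _ | _ | _ | _ | _ | i
    · omega
    · exact ⟨good_w hinj hz', IsU.comm_z (g := wE) ⟨_, _, _, _, _, _, rfl⟩,
        fun g hg => ⟨0, cent_w hg⟩⟩
    · exact ⟨good_v hinj hz' (by decide), IsU.comm_z (g := (vE 1)) ⟨_, _, _, _, _, _, rfl⟩,
        fun g hg => by
          obtain ⟨p, q, r, a, b, c, h⟩ := cent_v (s := 1) (by decide) hg
          exact ⟨p, q, r, a, b, c, _, h⟩⟩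
    · exact ⟨good_v hinj hz' (by decide), IsU.comm_z (g := (vE 2)) ⟨_, _, _, _, _, _, rfl⟩,
        fun g hg => by
          obtain ⟨p, q, r, a, b, c, h⟩ := cent_v (s := 2) (by decide) hg
          exact ⟨p, q, r, a, b, c, _, h⟩⟩
    · exact ⟨good_u hinj hz', IsU.comm_z (g := uE) ⟨_, _, _, _, _, _, rfl⟩, fun g hg => by
        obtain ⟨p, q, r, c, rfl⟩ := cent_u hg
        exact ⟨p, q, r, 1, 0, c, q, rfl⟩⟩
    · exact ⟨good_x hinj hz', IsU.comm_z (g := xE) ⟨_, _, _, _, _, _, rfl⟩, fun g hg => by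
        obtain ⟨r, b, c, rfl⟩ := cent_x hg
        exact ⟨0, 0, r, 1, b, c, b, rfl⟩⟩
  intro x hx hx3 g hg
  obtain ⟨x0, rfl⟩ := hx
  obtain ⟨y0, hy0⟩ := hg
  rw [orderOf_injective φ hinj] at hx3
  have hy3 : orderOf y0 = 3 := by
    rw [← orderOf_injective φ hinj, hy0]
    exact ((MulAut.conj g).orderOf_eq (φ x0)).trans ((orderOf_injective φ hinj x0).trans hx3)
  have h3 : ∀ e : para, orderOf e = 3 → e ^ 3 = 1 ∧ e ≠ 1 := fun e he =>
    ⟨orderOf_dvd_iff_pow_eq_one.1 (dvd_of_eq he), fun h => by simp [h] at he⟩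
  obtain ⟨k, i, -, hk⟩ := exists_class (h3 x0 hx3).1 (h3 x0 hx3).2
  obtain ⟨l, j, -, hl⟩ := exists_class (h3 y0 hy3).1 (h3 y0 hy3).2
  -- move to the representatives
  suffices hg : φ l * g * (φ k)⁻¹ ∈ φ.range by
    have h := mul_mem (mul_mem (inv_mem (⟨l, rfl⟩ : φ l ∈ φ.range)) hg) (⟨k, rfl⟩ : φ k ∈ φ.range)
    simpa [mul_assoc] using h
  have hrep : φ l * g * (φ k)⁻¹ * φ (rep i) * (φ l * g * (φ k)⁻¹)⁻¹ = φ (rep j) := by
    rw [← hk, ← hl, map_mul, map_mul, map_inv, map_mul, map_mul, map_inv, hy0]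
    group
  generalize φ l * g * (φ k)⁻¹ = g' at hrep ⊢
  rcases Nat.eq_zero_or_pos i with rfl | hi
  · exact hz' g' ⟨rep j, hrep.symm⟩
  obtain ⟨hgood, -, htri⟩ := key i hi
  have hzj : φ zE * φ (rep j) = φ (rep j) * φ zE := by
    rw [← map_mul, ← map_mul]
    rcases Nat.eq_zero_or_pos j with rfl | hj
    · rfl
    · rw [(key j hj).2.1]
  have hd : g'⁻¹ * φ zE * g' * φ (rep i) = φ (rep i) * (g'⁻¹ * φ zE * g') := by
    have e : φ (rep i) = g'⁻¹ * φ (rep j) * g' := by rw [← hrep]; group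
    rw [e]
    calc g'⁻¹ * φ zE * g' * (g'⁻¹ * φ (rep j) * g') = g'⁻¹ * (φ zE * φ (rep j)) * g' := by group
      _ = _ := by rw [hzj]; group
  obtain ⟨d0, hd0⟩ := hgood _ hd
  obtain ⟨p, q, r, a, b, c, t, hm⟩ := htri d0 (hinj (by rw [map_mul, map_mul, hd0]; exact hd))
  have hd3 : d0 ^ 3 = 1 := hinj (by
    have hzc : zE ^ 3 = 1 := cube_eq_one_iff.2 (by ring)
    rw [map_pow, hd0, show g'⁻¹ * φ zE * g' = g'⁻¹ * φ zE * g'⁻¹⁻¹ by rw [inv_inv], conj_pow,
      ← map_pow, hzc, map_one, mul_one, mul_inv_cancel])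
  have hcz := congrArg φ (tri_isU hm hd3).comm_z
  rw [map_mul, map_mul, hd0] at hcz
  refine hz' _ (good_of_isZ hz' isZ_zE _ ?_)
  calc g' * φ zE * g'⁻¹ * φ zE = g' * (φ zE * (g'⁻¹ * φ zE * g')) * g'⁻¹ := by group
    _ = _ := by rw [← hcz]; group

end CfsgLib.LFourThree
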