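import Cfsg.Agent.Lib.LFourThree.Setup
import Cfsg.Agent.Lib.LFourThree.StrongI
import Cfsg.Agent.Lib.LFourThree.InvCent
import Cfsg.Agent.Lib.LFourThree.Final

/-!
The first case: only the meet carries conjugates of the central element, and the group is the parabolic.
-/

set_option autoImplicit false
set_option linter.style.haveILetI false
set_option linter.unusedSectionVars false

namespace CfsgLib.LFourThree

open CfsgLib.LFourThree.Setup CfsgLib.LFourThree.ZF

variable {X G : Type*} [Group X] [Group G]

/-- A homomorphism between centralisers. -/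
def centMap (f : X →* G) (d : X) : Subgroup.centralizer ({d} : Set X) →* Subgroup.centralizer ({f d} : Set G) :=
  (f.comp (Subgroup.centralizer ({d} : Set X)).subtype).codRestrict _ fun c =>
    Subgroup.mem_centralizer_singleton_iff.2 (by
      show f c * f d = f d * f c
      rw [← map_mul, ← map_mul, Subgroup.mem_centralizer_singleton_iff.1 c.2])

theorem coe_centMap (f : X →* G) (d : X) (c : Subgroup.centralizer ({d} : Set X)) :
    (centMap f d c : G) = f c := rfl

theorem centMap_injective {f : X →* G} (hf : Function.Injective f) (d : X) : Function.Injective (centMap f d) :=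
  fun a b e => Subtype.ext (hf (by rw [← coe_centMap f d a, ← coe_centMap f d b, e]))

theorem centMap_strong {f : X →* G} (hf : Function.Injective f) (hS : Strong f.range) (d : X) :
    Strong (centMap f d).range := by
  rintro _ ⟨c, rfl⟩ h3 g hg
  obtain ⟨e, he⟩ := hg
  have hG : (g : G) * f c * (g : G)⁻¹ = f e := by
    rw [← coe_centMap f d c, ← coe_centMap f d e, he]; rfl
  obtain ⟨a, ha⟩ := hS (f c) ⟨c, rfl⟩ (by rw [← coe_centMap f d c, Subgroup.orderOf_coe, h3]) g ⟨e, hG.symm⟩
  refine ⟨⟨a, Subgroup.mem_centralizer_singleton_iff.2 (hf ?_)⟩, Subtype.ext ha⟩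
  rw [map_mul, map_mul, ha]
  exact Subgroup.mem_centralizer_singleton_iff.1 g.2

theorem centMap_central (f : X →* G) (d : X) (g : Subgroup.centralizer ({f d} : Set G)) :
    g * centMap f d ⟨d, Subgroup.mem_centralizer_singleton_iff.2 rfl⟩ =
      centMap f d ⟨d, Subgroup.mem_centralizer_singleton_iff.2 rfl⟩ * g :=
  Subtype.ext (Subgroup.mem_centralizer_singleton_iff.1 g.2)

theorem cent_le_of_surjective {f : X →* G} {d : X} (h : Function.Surjective (centMap f d)) :
    Subgroup.centralizer ({f d} : Set G) ≤ f.range := fun g hg => by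
  obtain ⟨c, hc⟩ := h ⟨g, hg⟩
  exact ⟨c, by rw [← coe_centMap f d c, hc]⟩

variable [Finite G] {z : G} {Q : Subgroup G} {π : Subgroup.centralizer ({z} : Set G) →* S2}

/-- The parabolic case. -/
theorem case_one (L : Local z Q π) (hsyl : ¬ 3 ^ 7 ∣ Nat.card G) {t : para →* G} (ht : Function.Injective t)
    (htz : t zp = z) (hle : Subgroup.centralizer ({z} : Set G) ≤ t.range)
    (hI : ∀ g : G, g * z * g⁻¹ ∈ Q → g * z * g⁻¹ ∈ tImg t rowGrp) :
    ∃ P : Subgroup (Matrix.ProjectiveSpecialLinearGroup (Fin 4) (ZMod 3)),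
      IsCoatom P ∧ Nat.card (Cfsg.pCore 3 P) = 27 ∧
      Nonempty (P ⧸ Cfsg.pCore 3 P ≃* Matrix.SpecialLinearGroup (Fin 3) (ZMod 3)) ∧ Nonempty (G ≃* P) := by
  have hC := cent_eq L ht htz hle
  have hQ := q_eq L ht htz hle
  have hsym := fun g => local_sym L g
  rw [hQ] at hsym hI
  rw [← htz] at hC hsym hI
  have hz := hz_para t ht hC hsyl hsym hI
  have hS : Strong t.range := strong_para t ht zp rfl hz
  exact final_para t ht hS (cent_le_of_surjective
    (cent_para (centMap t dpara) (centMap_injective ht _) (centMap_strong ht hS _) (centMap_central t dpara)))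

end CfsgLib.LFourThree
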