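import Cfsg.Agent.Lib.LFourThree.Pieces
import Cfsg.Agent.Lib.LFourThree.Cent
import Cfsg.Agent.Lib.SLPres.SteinbergRel

/-!
Gluing the two parabolics: the Steinberg relations of `SL(4,3)` hold in the ambient group.
-/

set_option autoImplicit false
set_option linter.style.haveILetI false
set_option maxRecDepth 100000

namespace CfsgLib.LFourThree.Glue

open scoped commutatorElement
open CfsgLib.Schur.SLFam (tv tv_add tv_zero tv_comm tv_rel coe_tv)

/-! ### Generalities -/

section Generic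

variable {G : Type*} [Group G]

theorem conj_mul' (g a b : G) : g * (a * b) * g⁻¹ = g * a * g⁻¹ * (g * b * g⁻¹) := by group

theorem commute_of_flip {u v a : G}
    (h : u⁻¹ * (v⁻¹ * a * v⁻¹⁻¹) * u⁻¹⁻¹ = v⁻¹ * (u⁻¹ * a * u⁻¹⁻¹) * v⁻¹⁻¹) : Commute ⁅u, v⁆ a := by
  simp only [inv_inv] at h
  refine mul_inv_eq_iff_eq_mul.1 ?_
  calc ⁅u, v⁆ * a * ⁅u, v⁆⁻¹ = u * v * (u⁻¹ * (v⁻¹ * a * v) * u) * v⁻¹ * u⁻¹ := by
        rw [commutatorElement_def]; group
    _ = a := by rw [h]; group

theorem conj_comm (g a b : G) : g * ⁅a, b⁆ * g⁻¹ = ⁅g * a * g⁻¹, g * b * g⁻¹⁆ := by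
  simp only [commutatorElement_def]; group

theorem comm_mul_left (a b c : G) : ⁅a * b, c⁆ = a * ⁅b, c⁆ * a⁻¹ * ⁅a, c⁆ := by
  simp only [commutatorElement_def]; group

theorem comm_mul_right (a b c : G) : ⁅a, b * c⁆ = ⁅a, b⁆ * (b * ⁅a, c⁆ * b⁻¹) := by
  simp only [commutatorElement_def]; group

theorem fix {a b : G} (h : Commute a b) : a * b * a⁻¹ = b := by rw [h.eq, mul_inv_cancel_right]

theorem commute_comm {x a b : G} (ha : Commute x a) (hb : Commute x b) : Commute x ⁅a, b⁆ := by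
  rw [commutatorElement_def]
  exact ((ha.mul_right hb).mul_right ha.inv_right).mul_right hb.inv_right

theorem comm_one {a b : G} (h : Commute a b) : ⁅a, b⁆ = 1 :=
  commutatorElement_eq_one_iff_mul_comm.2 h.eq

theorem commute_of_conj {x c : G} (h : x * c * x⁻¹ = c) : Commute x c := mul_inv_eq_iff_eq_mul.1 h

end Generic

/-! ### Roots of the models -/

theorem root_inv {i j : Fin 4} (h : i ≠ j) (t : ZMod 3) : (root i j t)⁻¹ = root i j (-t) := by
  refine (eq_inv_of_mul_eq_one_left ?_).symm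
  show tv i j (-t) * tv i j t = 1
  rw [← tv_add h, neg_add_cancel, tv_zero]

theorem root_mem_para {i j : Fin 4} (hj : j ≠ 0) (t : ZMod 3) : root i j t ∈ para := by
  intro k
  show (tv i j t).1 k 0 = _
  by_cases h : i = j
  · rw [show tv i j t = 1 from dif_pos h]; rfl
  · rw [coe_tv h]; simp [Matrix.single, hj]

theorem root_mem_para3 {i j : Fin 4} (hi : i ≠ 3) (t : ZMod 3) : root i j t ∈ para3 := by
  intro k
  show (tv i j t).1 3 k = _
  by_cases h : i = j
  · rw [show tv i j t = 1 from dif_pos h]; rfl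
  · rw [coe_tv h]; simp [Matrix.single, hi]

/-- Matrices equal to the identity outside of rows `0, 1` and columns `2, 3`. -/
def block : Subgroup SL4 where
  carrier := {g | ∀ i j : Fin 4, (2 ≤ i ∨ j < 2) → g.1 i j = (1 : Matrix (Fin 4) (Fin 4) (ZMod 3)) i j}
  one_mem' := fun _ _ _ => rfl
  mul_mem' := by
    intro a b ha hb i j h
    simp only [Set.mem_ofPred_eq] at ha hb
    show (a.1 * b.1) i j = _
    rw [Matrix.mul_apply]
    rcases h with h | h
    · simp only [ha i _ (Or.inl h), Matrix.one_apply, ite_mul, one_mul, zero_mul, Finset.sum_ite_eq,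
        Finset.mem_univ, if_true]
      simpa [Matrix.one_apply] using hb i j (Or.inl h)
    · simp only [hb _ j (Or.inr h), Matrix.one_apply, mul_ite, mul_one, mul_zero, Finset.sum_ite_eq',
        Finset.mem_univ, if_true]
      simpa [Matrix.one_apply] using ha i j (Or.inr h)
  inv_mem' := by
    intro a ha i j h
    simp only [Set.mem_ofPred_eq] at ha
    rcases h with h | h
    · have e : (a.1 * (a⁻¹).1) i j = (1 : Matrix (Fin 4) (Fin 4) (ZMod 3)) i j :=
        congrFun (congrFun (congrArg Subtype.val (mul_inv_cancel a)) i) j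
      rw [Matrix.mul_apply] at e
      simpa [ha i _ (Or.inl h), Matrix.one_apply] using e
    · have e : ((a⁻¹).1 * a.1) i j = (1 : Matrix (Fin 4) (Fin 4) (ZMod 3)) i j :=
        congrFun (congrFun (congrArg Subtype.val (inv_mul_cancel a)) i) j
      rw [Matrix.mul_apply] at e
      simpa [ha _ j (Or.inr h), Matrix.one_apply] using e

/-- The four generators of `aGrp`. -/
def aGens : List SL4 := [root 0 2 1, root 0 3 1, root 1 2 1, root 1 3 1]

theorem aGrp_eq : aGrp = Subgroup.closure {g | g ∈ aGens} := by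
  unfold aGrp aGens; congr 1; ext g; simp

theorem root_mem_block {i j : Fin 4} (hi : i < 2) (hj : 2 ≤ j) (t : ZMod 3) : root i j t ∈ block := by
  intro k l h
  show (tv i j t).1 k l = _
  rw [coe_tv (ne_of_lt (lt_of_lt_of_le hi hj)), Matrix.add_apply,
    Matrix.single_apply_of_ne i j t k l (by rintro ⟨rfl, rfl⟩; omega), add_zero]

theorem aGrp_le_block : aGrp ≤ block := by
  rw [aGrp_eq, Subgroup.closure_le]
  intro g hg
  simp only [aGens, Set.mem_ofPred_eq, List.mem_cons, List.not_mem_nil, or_false] at hg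
  rcases hg with rfl | rfl | rfl | rfl <;> exact root_mem_block (by decide) (by decide) 1

theorem aGrp_le_cm : aGrp ≤ cm := fun g hg =>
  ⟨fun i => aGrp_le_block hg i 0 (Or.inr (by decide)), fun j => aGrp_le_block hg 3 j (Or.inl (by decide))⟩

theorem eq_one_of_commute_hpara {a : SL4} (ha : a ∈ aGrp) (h : hpara * a = a * hpara) : a = 1 := by
  have hb := aGrp_le_block ha
  apply Subtype.ext
  ext i j
  by_cases hij : 2 ≤ i ∨ j < 2
  · exact hb i j hij
  · have e : (hpara.1 * a.1) i j = (a.1 * hpara.1) i j := congrFun (congrFun (congrArg Subtype.val h) i) j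
    rw [show hpara.1 = Matrix.diagonal ![1, 1, -1, -1] from rfl, Matrix.mul_diagonal, Matrix.diagonal_mul] at e
    have key : ∀ i j : Fin 4, ¬(2 ≤ i ∨ j < 2) → ∀ x : ZMod 3,
        (![1, 1, -1, -1] : Fin 4 → ZMod 3) i * x = x * (![1, 1, -1, -1] : Fin 4 → ZMod 3) j →
          x = (1 : Matrix (Fin 4) (Fin 4) (ZMod 3)) i j := by decide +kernel
    exact key i j hij _ e

theorem eq_one_of_sq {a : SL4} (ha : a ∈ aGrp) (h : a * a = 1) : a = 1 := by
  have hb := aGrp_le_block ha
  apply Subtype.ext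
  ext i j
  by_cases hij : 2 ≤ i ∨ j < 2
  · exact hb i j hij
  · push Not at hij
    have e : (a.1 * a.1) i j = (1 : Matrix (Fin 4) (Fin 4) (ZMod 3)) i j :=
      congrFun (congrFun (congrArg Subtype.val h) i) j
    rw [Matrix.mul_apply, Fin.sum_univ_four, hb i 0 (Or.inr (by decide)), hb i 1 (Or.inr (by decide)),
      hb 2 j (Or.inl (by decide)), hb 3 j (Or.inl (by decide))] at e
    have c : (i = 0 ∨ i = 1) ∧ (j = 2 ∨ j = 3) :=
      (show ∀ i j : Fin 4, i < 2 ∧ 2 ≤ j → (i = 0 ∨ i = 1) ∧ (j = 2 ∨ j = 3) by decide) i j hij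
    show a.1 i j = (1 : Matrix (Fin 4) (Fin 4) (ZMod 3)) i j
    have two : ∀ x : ZMod 3, x + x = 0 → x = 0 := by decide
    obtain ⟨ci, cj⟩ := c
    rcases ci with rfl | rfl <;> rcases cj with rfl | rfl <;>
      simp at e ⊢ <;> exact two _ e

set_option synthInstance.maxSize 4000 in
theorem comm_quads : ∀ i j k l : Fin 4, i ≠ j → k ≠ l → j ≠ k → i ≠ l →
    (j ≠ 0 ∧ l ≠ 0) ∨ (i ≠ 3 ∧ k ≠ 3) ∨
    (i = 3 ∧ j = 0 ∧ (k, l) ∈ [((1 : Fin 4), (0 : Fin 4)), (2, 0), (3, 0), (1, 2), (2, 1), (3, 1), (3, 2)]) ∨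
    (k = 3 ∧ l = 0 ∧ (i, j) ∈ [((1 : Fin 4), (0 : Fin 4)), (2, 0), (3, 0), (1, 2), (2, 1), (3, 1), (3, 2)]) ∨
    ((i, j, k, l) ∈ [((1 : Fin 4), (0 : Fin 4), (3 : Fin 4), (2 : Fin 4)), (3, 2, 1, 0), (2, 0, 3, 1), (3, 1, 2, 0)]) := by
  decide +kernel

theorem rel_triples : ∀ i j k : Fin 4, i ≠ j → j ≠ k → i ≠ k →
    (j ≠ 0 ∧ k ≠ 0) ∨ (i ≠ 3 ∧ j ≠ 3) ∨
    (i, j, k) ∈ [((3 : Fin 4), (1 : Fin 4), (0 : Fin 4)), (3, 2, 0), (3, 0, 1), (3, 0, 2), (1, 3, 0), (2, 3, 0)] := by
  decide +kernel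

variable {G : Type*} [Group G] (t1 : para →* G) (t2 : para3 →* G)

/-- The root elements in the ambient group. -/
def Y (i j : Fin 4) (t : ZMod 3) : G :=
  if hj : j ≠ 0 then t1 ⟨root i j t, root_mem_para hj t⟩
  else if hi : i ≠ 3 then t2 ⟨root i j t, root_mem_para3 hi t⟩
  else ⁅t1 ⟨root 3 1 t, root_mem_para (by decide) t⟩, t2 ⟨root 1 0 1, root_mem_para3 (by decide) 1⟩⁆

variable {t1 t2} (agree : ∀ g (h1 : g ∈ para) (h2 : g ∈ para3), t1 ⟨g, h1⟩ = t2 ⟨g, h2⟩)

theorem Y_one {i j : Fin 4} (hj : j ≠ 0) (t : ZMod 3) :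
    Y t1 t2 i j t = t1 ⟨root i j t, root_mem_para hj t⟩ := dif_pos hj

include agree in
theorem Y_two {i j : Fin 4} (hi : i ≠ 3) (t : ZMod 3) :
    Y t1 t2 i j t = t2 ⟨root i j t, root_mem_para3 hi t⟩ := by
  by_cases hj : j ≠ 0
  · rw [Y_one hj]; exact agree _ _ _
  · rw [Y, dif_neg hj, dif_pos hi]

theorem Y_thirty (t : ZMod 3) : Y t1 t2 3 0 t = ⁅Y t1 t2 3 1 t, Y t1 t2 1 0 1⁆ := by
  rw [Y_one (i := 3) (j := 1) (by decide)]
  rfl

include agree

theorem add' {i j : Fin 4} (h : j ≠ 0 ∨ i ≠ 3) (hij : i ≠ j) (s t : ZMod 3) :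
    Y t1 t2 i j (s + t) = Y t1 t2 i j s * Y t1 t2 i j t := by
  rcases h with h | h
  · rw [Y_one h, Y_one h, Y_one h, ← map_mul]
    exact congrArg t1 (Subtype.ext (tv_add hij s t))
  · rw [Y_two agree h, Y_two agree h, Y_two agree h, ← map_mul]
    exact congrArg t2 (Subtype.ext (tv_add hij s t))

theorem zero' {i j : Fin 4} (h : j ≠ 0 ∨ i ≠ 3) (hij : i ≠ j) : Y t1 t2 i j 0 = 1 := by
  have h1 := add' agree h hij 0 0
  rwa [add_zero, left_eq_mul] at h1

theorem neg' {i j : Fin 4} (h : j ≠ 0 ∨ i ≠ 3) (hij : i ≠ j) (t : ZMod 3) :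
    Y t1 t2 i j (-t) = (Y t1 t2 i j t)⁻¹ :=
  eq_inv_of_mul_eq_one_left (by rw [← add' agree h hij, neg_add_cancel, zero' agree h hij])

theorem comm' {i j k l : Fin 4} (h : (j ≠ 0 ∧ l ≠ 0) ∨ (i ≠ 3 ∧ k ≠ 3)) (hij : i ≠ j) (hkl : k ≠ l)
    (hjk : j ≠ k) (hil : i ≠ l) (s t : ZMod 3) : Commute (Y t1 t2 i j s) (Y t1 t2 k l t) := by
  rcases h with ⟨h1, h2⟩ | ⟨h1, h2⟩
  · rw [Commute, SemiconjBy, Y_one h1, Y_one h2, ← map_mul, ← map_mul]
    exact congrArg t1 (Subtype.ext (tv_comm hij hkl hjk hil s t))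
  · rw [Commute, SemiconjBy, Y_two agree h1, Y_two agree h2, ← map_mul, ← map_mul]
    exact congrArg t2 (Subtype.ext (tv_comm hij hkl hjk hil s t))

theorem rel' {i j k : Fin 4} (h : (j ≠ 0 ∧ k ≠ 0) ∨ (i ≠ 3 ∧ j ≠ 3)) (hij : i ≠ j) (hjk : j ≠ k)
    (hik : i ≠ k) (s t : ZMod 3) : ⁅Y t1 t2 i j s, Y t1 t2 j k t⁆ = Y t1 t2 i k (s * t) := by
  rcases h with ⟨h1, h2⟩ | ⟨h1, h2⟩
  · rw [Y_one h1, Y_one h2, Y_one h2, ← map_commutatorElement]
    exact congrArg t1 (Subtype.ext (tv_rel hij hjk hik s t))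
  · rw [Y_two agree h1, Y_two agree h2, Y_two agree h1, ← map_commutatorElement]
    exact congrArg t2 (Subtype.ext (tv_rel hij hjk hik s t))

theorem left' {i j k : Fin 4} (h : (j ≠ 0 ∧ k ≠ 0) ∨ (i ≠ 3 ∧ j ≠ 3)) (hij : i ≠ j) (hjk : j ≠ k)
    (hik : i ≠ k) (s u : ZMod 3) :
    Y t1 t2 i j s * Y t1 t2 j k u * (Y t1 t2 i j s)⁻¹ = Y t1 t2 i k (s * u) * Y t1 t2 j k u := by
  rw [← rel' agree h hij hjk hik, commutatorElement_def]; group

theorem right' {i j k : Fin 4} (h : (j ≠ 0 ∧ k ≠ 0) ∨ (i ≠ 3 ∧ j ≠ 3)) (hij : i ≠ j) (hjk : j ≠ k)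
    (hik : i ≠ k) (s u : ZMod 3) :
    Y t1 t2 j k u * Y t1 t2 i j s * (Y t1 t2 j k u)⁻¹ = Y t1 t2 i k (-(s * u)) * Y t1 t2 i j s := by
  rw [neg' agree (by tauto) hik, ← rel' agree h hij hjk hik, commutatorElement_def]; group

variable (inj1 : Function.Injective t1) (hh : t1 ⟨hpara, hpara_mem⟩ = t2 ⟨hpara3, hpara3_mem⟩)
  (hA : ∀ c : G, (∀ a (ha : a ∈ aGrp), c * t1 ⟨a, (aGrp_le_cm ha).1⟩ = t1 ⟨a, (aGrp_le_cm ha).1⟩ * c) →
    ∃ a, ∃ ha : a ∈ aGrp, c = t1 ⟨a, (aGrp_le_cm ha).1⟩)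
include inj1 hh hA

omit inj1 hh hA in
/-- Conjugations by the roots `(1,0)` and `(3,2)` commute on the four generators of `aGrp`. -/
theorem flip_gens (s t : ZMod 3) : ∀ p ∈ [((0 : Fin 4), (2 : Fin 4)), (0, 3), (1, 2), (1, 3)],
    Commute ⁅Y t1 t2 1 0 s, Y t1 t2 3 2 t⁆ (Y t1 t2 p.1 p.2 1) := by
  intro p hp
  refine commute_of_flip ?_
  have nu : (Y t1 t2 1 0 s)⁻¹ = Y t1 t2 1 0 (-s) := (neg' agree (Or.inr (by decide)) (by decide) s).symm
  have nv : (Y t1 t2 3 2 t)⁻¹ = Y t1 t2 3 2 (-t) := (neg' agree (Or.inl (by decide)) (by decide) t).symm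
  simp only [nu, nv]
  have v03 := fun x u => right' agree (i := 0) (j := 3) (k := 2) (Or.inl (by decide)) (by decide) (by decide) (by decide) x u
  have v13 := fun x u => right' agree (i := 1) (j := 3) (k := 2) (Or.inl (by decide)) (by decide) (by decide) (by decide) x u
  have u02 := fun x u => left' agree (i := 1) (j := 0) (k := 2) (Or.inr (by decide)) (by decide) (by decide) (by decide) x u
  have u03 := fun x u => left' agree (i := 1) (j := 0) (k := 3) (Or.inr (by decide)) (by decide) (by decide) (by decide) x u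
  have v02 := fun x u => fix (comm' agree (i := 3) (j := 2) (k := 0) (l := 2) (Or.inl (by decide)) (by decide) (by decide) (by decide) (by decide) x u)
  have v12 := fun x u => fix (comm' agree (i := 3) (j := 2) (k := 1) (l := 2) (Or.inl (by decide)) (by decide) (by decide) (by decide) (by decide) x u)
  have u12 := fun x u => fix (comm' agree (i := 1) (j := 0) (k := 1) (l := 2) (Or.inr (by decide)) (by decide) (by decide) (by decide) (by decide) x u)
  have u13 := fun x u => fix (comm' agree (i := 1) (j := 0) (k := 1) (l := 3) (Or.inr (by decide)) (by decide) (by decide) (by decide) (by decide) x u)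
  have c := fun x u => (comm' agree (i := 0) (j := 2) (k := 1) (l := 3) (Or.inl (by decide)) (by decide) (by decide) (by decide) (by decide) x u).eq
  simp only [List.mem_cons, List.not_mem_nil, or_false] at hp
  rcases hp with rfl | rfl | rfl | rfl <;> dsimp only
  · simp only [v02, u02, conj_mul', v12]
  · simp only [v03, u03, conj_mul', u02, v13]
    simp only [mul_assoc, mul_comm (-s), one_mul, neg_mul, mul_neg, neg_neg]
    rw [← mul_assoc (Y t1 t2 0 2 _), c, mul_assoc]
  · simp only [v12, u12]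
  · simp only [v13, u13, conj_mul', u12]

/-- The crucial commutation: the roots `(1,0)` and `(3,2)`. -/
theorem comm_ten_thirtytwo (s t : ZMod 3) : Commute (Y t1 t2 1 0 s) (Y t1 t2 3 2 t) := by
  set u := Y t1 t2 1 0 s with hu
  set v := Y t1 t2 3 2 t with hv
  have gen := flip_gens agree s t
  rw [← hu, ← hv] at gen
  set S : Subgroup para := (Subgroup.centralizer {⁅u, v⁆}).comap t1
  have hle : aGrp ≤ S.map para.subtype := by
    rw [aGrp_eq, Subgroup.closure_le]
    intro g hg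
    simp only [aGens, Set.mem_ofPred_eq, List.mem_cons, List.not_mem_nil, or_false] at hg
    have key : ∀ (i j : Fin 4) (hj : j ≠ 0), (i, j) ∈ [((0 : Fin 4), (2 : Fin 4)), (0, 3), (1, 2), (1, 3)] →
        root i j 1 ∈ S.map para.subtype := fun i j hj hm =>
      ⟨⟨root i j 1, root_mem_para hj 1⟩, Subgroup.mem_centralizer_singleton_iff.2
        (by rw [← Y_one hj (t2 := t2)]; exact (gen (i, j) hm).eq.symm), rfl⟩
    rcases hg with rfl | rfl | rfl | rfl <;> exact key _ _ (by decide) (by decide)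
  have all : ∀ a (ha : a ∈ aGrp), ⁅u, v⁆ * t1 ⟨a, (aGrp_le_cm ha).1⟩ = t1 ⟨a, (aGrp_le_cm ha).1⟩ * ⁅u, v⁆ := by
    intro a ha
    obtain ⟨⟨b, hb⟩, hbS, rfl⟩ := hle ha
    exact (Subgroup.mem_centralizer_singleton_iff.1 hbS).symm
  obtain ⟨a, ha, hc⟩ := hA _ all
  have hHu : Commute (t1 ⟨hpara, hpara_mem⟩) u := by
    have d : ∀ s, (hpara3 * root 1 0 s).1 = (root 1 0 s * hpara3).1 := by decide +kernel
    rw [hh, hu, Y_two agree (show (1 : Fin 4) ≠ 3 by decide), Commute, SemiconjBy, ← map_mul, ← map_mul]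
    exact congrArg t2 (Subtype.ext (Subtype.ext (d s)))
  have hHv : Commute (t1 ⟨hpara, hpara_mem⟩) v := by
    have d : ∀ t, (hpara * root 3 2 t).1 = (root 3 2 t * hpara).1 := by decide +kernel
    rw [hv, Y_one (show (2 : Fin 4) ≠ 0 by decide), Commute, SemiconjBy, ← map_mul, ← map_mul]
    exact congrArg t1 (Subtype.ext (Subtype.ext (d t)))
  have hcm := commute_comm hHu hHv
  rw [hc, Commute, SemiconjBy, ← map_mul, ← map_mul] at hcm
  have ha1 : a = 1 := eq_one_of_commute_hpara ha (congrArg Subtype.val (inj1 hcm))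
  subst ha1
  refine commutatorElement_eq_one_iff_mul_comm.1 ?_
  rw [hc]
  exact map_one t1

/-- The roots `(2,0)` and `(3,1)`. -/
theorem comm_twenty_thirtyone (s t : ZMod 3) : Commute (Y t1 t2 2 0 s) (Y t1 t2 3 1 t) := by
  set n := Y t1 t2 1 2 1 * Y t1 t2 2 1 (-1) * Y t1 t2 1 2 1 with hn
  have e2 : ∀ s, n * Y t1 t2 1 0 (-s) = Y t1 t2 2 0 s * n := by
    have d : ∀ s, (root 1 2 1 * root 2 1 (-1) * root 1 2 1 * root 1 0 (-s)).1 =
        (root 2 0 s * (root 1 2 1 * root 2 1 (-1) * root 1 2 1)).1 := by decide +kernel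
    intro s
    rw [hn, Y_two agree (show (1 : Fin 4) ≠ 3 by decide), Y_two agree (show (2 : Fin 4) ≠ 3 by decide),
      Y_two agree (show (1 : Fin 4) ≠ 3 by decide), Y_two agree (show (2 : Fin 4) ≠ 3 by decide),
      ← map_mul, ← map_mul, ← map_mul, ← map_mul]
    exact congrArg t2 (Subtype.ext (Subtype.ext (d s)))
  have e1 : ∀ t, n * Y t1 t2 3 2 t = Y t1 t2 3 1 t * n := by
    have d : ∀ t, (root 1 2 1 * root 2 1 (-1) * root 1 2 1 * root 3 2 t).1 =
        (root 3 1 t * (root 1 2 1 * root 2 1 (-1) * root 1 2 1)).1 := by decide +kernel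
    intro t
    rw [hn, Y_one (show (2 : Fin 4) ≠ 0 by decide), Y_one (show (1 : Fin 4) ≠ 0 by decide),
      Y_one (show (2 : Fin 4) ≠ 0 by decide), Y_one (show (1 : Fin 4) ≠ 0 by decide),
      ← map_mul, ← map_mul, ← map_mul, ← map_mul]
    exact congrArg t1 (Subtype.ext (Subtype.ext (d t)))
  have := (Commute.conj_iff n).2 (comm_ten_thirtytwo agree inj1 hh hA (-s) t)
  rwa [e2, e1, mul_inv_cancel_right, mul_inv_cancel_right] at this

local notation "x10" => Y t1 t2 1 0
local notation "x20" => Y t1 t2 2 0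
local notation "x12" => Y t1 t2 1 2
local notation "x21" => Y t1 t2 2 1
local notation "x31" => Y t1 t2 3 1
local notation "x32" => Y t1 t2 3 2
local notation "x30" => Y t1 t2 3 0

theorem cTwentyTwelve (u : ZMod 3) (s t : ZMod 3) :
    Commute (x20 u) ⁅x31 s, x10 t⁆ ∧ Commute (x32 u) ⁅x31 s, x10 t⁆ ∧
    Commute (x12 u) ⁅x31 s, x10 t⁆ ∧ Commute (x21 u) ⁅x31 s, x10 t⁆ := by
  have a := comm_ten_thirtytwo agree inj1 hh hA
  have b := comm_twenty_thirtyone agree inj1 hh hA
  have p20 : ∀ u, Commute (x20 u) ⁅x31 s, x10 t⁆ := fun u => commute_comm (b u s)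
    (comm' agree (Or.inr (by decide)) (by decide) (by decide) (by decide) (by decide) u t)
  have p32 : ∀ u, Commute (x32 u) ⁅x31 s, x10 t⁆ := fun u => commute_comm
    (comm' agree (Or.inl (by decide)) (by decide) (by decide) (by decide) (by decide) u s) (a t u).symm
  refine ⟨p20 u, p32 u, commute_of_conj ?_, commute_of_conj ?_⟩
  · rw [conj_comm, right' agree (Or.inl (by decide)) (by decide) (by decide) (by decide),
      fix (comm' agree (Or.inr (by decide)) (show (1 : Fin 4) ≠ 2 by decide) (by decide) (by decide) (by decide) u t),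
      (comm' agree (Or.inl (by decide)) (show (3 : Fin 4) ≠ 2 by decide) (show (3 : Fin 4) ≠ 1 by decide)
        (by decide) (by decide) (-(s * u)) s).eq,
      comm_mul_left, comm_one (a t (-(s * u))).symm, mul_one, mul_inv_cancel, one_mul]
  · rw [conj_comm,
      fix (comm' agree (Or.inl (by decide)) (show (2 : Fin 4) ≠ 1 by decide) (show (3 : Fin 4) ≠ 1 by decide)
        (by decide) (by decide) u s),
      left' agree (Or.inr (by decide)) (by decide) (by decide) (by decide),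
      comm_mul_right, comm_one (b (u * t) s).symm, one_mul, fix (p20 (u * t))]

theorem cTen (u s t : ZMod 3) :
    Commute (x10 u) ⁅x31 s, x10 t⁆ ∧ Commute (x31 u) ⁅x31 s, x10 t⁆ := by
  have c := fun u => cTwentyTwelve agree inj1 hh hA u s t
  constructor
  · rw [show x10 u = ⁅x12 u, x20 1⁆ by
      rw [rel' agree (Or.inr (by decide)) (by decide) (by decide) (by decide), mul_one]]
    exact (commute_comm (c u).2.2.1.symm (c 1).1.symm).symm
  · rw [show x31 u = ⁅x32 u, x21 1⁆ by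
      rw [rel' agree (Or.inl (by decide)) (by decide) (by decide) (by decide), mul_one]]
    exact (commute_comm (c u).2.1.symm (c 1).2.2.2.symm).symm

theorem pair_add_left (s s' t : ZMod 3) :
    ⁅x31 (s + s'), x10 t⁆ = ⁅x31 s, x10 t⁆ * ⁅x31 s', x10 t⁆ := by
  have h1 : Commute ⁅x31 s, x10 t⁆ ⁅x31 s', x10 t⁆ :=
    commute_comm (cTen agree inj1 hh hA s' s t).2.symm (cTen agree inj1 hh hA t s t).1.symm
  rw [add' agree (Or.inl (by decide)) (by decide), comm_mul_left,
    fix (cTen agree inj1 hh hA s s' t).2, h1.eq]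

theorem pair_add_right (s t t' : ZMod 3) :
    ⁅x31 s, x10 (t + t')⁆ = ⁅x31 s, x10 t⁆ * ⁅x31 s, x10 t'⁆ := by
  rw [add' agree (Or.inr (by decide)) (by decide), comm_mul_right, fix (cTen agree inj1 hh hA t s t').1]

theorem thirty_eq (s t : ZMod 3) : ⁅x31 s, x10 t⁆ = x30 (s * t) := by
  have h0 : ⁅x31 (0 : ZMod 3), x10 1⁆ = 1 := by
    rw [zero' agree (Or.inl (by decide)) (by decide), commutatorElement_one_left]
  have h : t = 0 ∨ t = 1 ∨ t = 1 + 1 := by revert t; decide
  rcases h with rfl | rfl | rfl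
  · rw [mul_zero, Y_thirty, h0, zero' agree (Or.inr (by decide)) (by decide), commutatorElement_one_right]
  · rw [mul_one, Y_thirty]
  · rw [pair_add_right agree inj1 hh hA, mul_add, mul_one, Y_thirty, pair_add_left agree inj1 hh hA]

theorem thirty_add (s t : ZMod 3) : x30 (s + t) = x30 s * x30 t := by
  rw [Y_thirty, Y_thirty, Y_thirty, pair_add_left agree inj1 hh hA]

theorem thirty_comm (u : ZMod 3) {k l : Fin 4}
    (h : (k, l) ∈ [((1 : Fin 4), (0 : Fin 4)), (2, 0), (3, 0), (1, 2), (2, 1), (3, 1), (3, 2)]) (t : ZMod 3) :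
    Commute (x30 u) (Y t1 t2 k l t) := by
  have c := cTwentyTwelve agree inj1 hh hA t u 1
  have d := cTen agree inj1 hh hA t u 1
  rw [← Y_thirty] at c d
  simp only [List.mem_cons, List.not_mem_nil, or_false, Prod.mk.injEq] at h
  rcases h with ⟨rfl, rfl⟩ | ⟨rfl, rfl⟩ | ⟨rfl, rfl⟩ | ⟨rfl, rfl⟩ | ⟨rfl, rfl⟩ | ⟨rfl, rfl⟩ | ⟨rfl, rfl⟩
  · exact d.1.symm
  · exact c.1.symm
  · rw [Commute, SemiconjBy, ← thirty_add agree inj1 hh hA, ← thirty_add agree inj1 hh hA, add_comm]
  · exact c.2.2.1.symm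
  · exact c.2.2.2.symm
  · exact d.2.symm
  · exact c.2.1.symm

theorem thirtytwo_twenty (s t : ZMod 3) : ⁅x32 s, x20 t⁆ = x30 (s * t) := by
  have h : x32 s * x20 t * (x32 s)⁻¹ = x20 t * x30 (s * t) := by
    have hr : ⁅x21 t, x10 1⁆ = x20 t := by
      rw [rel' agree (Or.inr (by decide)) (by decide) (by decide) (by decide), mul_one]
    rw [← hr, conj_comm, left' agree (Or.inl (by decide)) (by decide) (by decide) (by decide),
      fix (comm_ten_thirtytwo agree inj1 hh hA 1 s).symm, comm_mul_left, hr,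
      fix (comm_twenty_thirtyone agree inj1 hh hA t (s * t)).symm, Y_thirty]
  rw [commutatorElement_def, h]
  exact fix (thirty_comm agree inj1 hh hA (s * t) (by decide) t).symm

omit inj1 hh hA agree in
theorem rel_of_conj {a b c : G} (h : b * a * b⁻¹ = c⁻¹ * a) : ⁅a, b⁆ = c := by
  rw [commutatorElement_def, show a * b * a⁻¹ * b⁻¹ = a * (b * a * b⁻¹)⁻¹ by group, h]
  group

theorem thirty_one (s t : ZMod 3) : ⁅x30 s, Y t1 t2 0 1 t⁆ = x31 (s * t) := by
  apply rel_of_conj
  conv_lhs => rw [show x30 s = ⁅x32 s, x20 1⁆ by rw [thirtytwo_twenty agree inj1 hh hA, mul_one]]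
  rw [conj_comm,
    fix (comm' agree (Or.inl (by decide)) (show (0 : Fin 4) ≠ 1 by decide) (show (3 : Fin 4) ≠ 2 by decide)
      (by decide) (by decide) t s),
    right' agree (Or.inr (by decide)) (by decide) (by decide) (by decide),
    comm_mul_right, rel' agree (Or.inl (by decide)) (by decide) (by decide) (by decide),
    thirtytwo_twenty agree inj1 hh hA, mul_one, one_mul,
    fix (thirty_comm agree inj1 hh hA s (by decide) (-t)).symm, mul_neg, neg' agree (Or.inl (by decide)) (by decide)]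

theorem thirty_two (s t : ZMod 3) : ⁅x30 s, Y t1 t2 0 2 t⁆ = x32 (s * t) := by
  apply rel_of_conj
  conv_lhs => rw [Y_thirty]
  rw [conj_comm,
    fix (comm' agree (Or.inl (by decide)) (show (0 : Fin 4) ≠ 2 by decide) (show (3 : Fin 4) ≠ 1 by decide)
      (by decide) (by decide) t s),
    right' agree (Or.inr (by decide)) (by decide) (by decide) (by decide),
    comm_mul_right, rel' agree (Or.inl (by decide)) (by decide) (by decide) (by decide),
    thirty_eq agree inj1 hh hA, mul_one, one_mul,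
    fix (thirty_comm agree inj1 hh hA s (by decide) (-t)).symm, mul_neg, neg' agree (Or.inl (by decide)) (by decide)]

theorem two_three (s t : ZMod 3) : ⁅Y t1 t2 2 3 t, x30 s⁆ = x20 (t * s) := by
  have h : Y t1 t2 2 3 t * x30 s * (Y t1 t2 2 3 t)⁻¹ = x30 s * x20 (t * s) := by
    rw [show x30 s = ⁅x31 1, x10 s⁆ by rw [thirty_eq agree inj1 hh hA, one_mul], conj_comm,
      fix (comm' agree (Or.inr (by decide)) (show (2 : Fin 4) ≠ 3 by decide) (show (1 : Fin 4) ≠ 0 by decide)
        (by decide) (by decide) t s),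
      left' agree (Or.inl (by decide)) (by decide) (by decide) (by decide), comm_mul_left,
      thirty_eq agree inj1 hh hA, rel' agree (Or.inr (by decide)) (by decide) (by decide) (by decide),
      fix (thirty_comm agree inj1 hh hA (1 * s) (by decide) (t * 1)).symm, mul_one]
  rw [commutatorElement_def, h]
  exact fix (thirty_comm agree inj1 hh hA s (by decide) (t * s))

theorem one_three (s t : ZMod 3) : ⁅Y t1 t2 1 3 t, x30 s⁆ = x10 (t * s) := by
  have h : Y t1 t2 1 3 t * x30 s * (Y t1 t2 1 3 t)⁻¹ = x30 s * x10 (t * s) := by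
    rw [show x30 s = ⁅x32 1, x20 s⁆ by rw [thirtytwo_twenty agree inj1 hh hA, one_mul], conj_comm,
      fix (comm' agree (Or.inr (by decide)) (show (1 : Fin 4) ≠ 3 by decide) (show (2 : Fin 4) ≠ 0 by decide)
        (by decide) (by decide) t s),
      left' agree (Or.inl (by decide)) (by decide) (by decide) (by decide), comm_mul_left,
      thirtytwo_twenty agree inj1 hh hA, rel' agree (Or.inr (by decide)) (by decide) (by decide) (by decide),
      fix (thirty_comm agree inj1 hh hA (1 * s) (by decide) (t * 1)).symm, mul_one]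
  rw [commutatorElement_def, h]
  exact fix (thirty_comm agree inj1 hh hA s (by decide) (t * s))

/-- The relations of Steinberg. -/
theorem steinberg : CfsgLib.SLPres.Steinberg.St (Y t1 t2) where
  add i j hij s t := by
    by_cases h : j ≠ 0 ∨ i ≠ 3
    · exact add' agree h hij s t
    · push Not at h
      obtain ⟨rfl, rfl⟩ := h
      exact thirty_add agree inj1 hh hA s t
  comm i j k l hij hkl hjk hil s t := by
    rcases comm_quads i j k l hij hkl hjk hil with h | h | ⟨rfl, rfl, h⟩ | ⟨rfl, rfl, h⟩ | h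
    · exact comm' agree (Or.inl h) hij hkl hjk hil s t
    · exact comm' agree (Or.inr h) hij hkl hjk hil s t
    · exact thirty_comm agree inj1 hh hA s h t
    · exact (thirty_comm agree inj1 hh hA t h s).symm
    · simp only [List.mem_cons, List.not_mem_nil, or_false, Prod.mk.injEq] at h
      rcases h with ⟨rfl, rfl, rfl, rfl⟩ | ⟨rfl, rfl, rfl, rfl⟩ | ⟨rfl, rfl, rfl, rfl⟩ | ⟨rfl, rfl, rfl, rfl⟩
      · exact comm_ten_thirtytwo agree inj1 hh hA s t
      · exact (comm_ten_thirtytwo agree inj1 hh hA t s).symm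
      · exact comm_twenty_thirtyone agree inj1 hh hA s t
      · exact (comm_twenty_thirtyone agree inj1 hh hA t s).symm
  rel i j k hij hjk hik s t := by
    rcases rel_triples i j k hij hjk hik with h | h | h
    · exact rel' agree (Or.inl h) hij hjk hik s t
    · exact rel' agree (Or.inr h) hij hjk hik s t
    · simp only [List.mem_cons, List.not_mem_nil, or_false, Prod.mk.injEq] at h
      rcases h with ⟨rfl, rfl, rfl⟩ | ⟨rfl, rfl, rfl⟩ | ⟨rfl, rfl, rfl⟩ | ⟨rfl, rfl, rfl⟩ | ⟨rfl, rfl, rfl⟩ |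
        ⟨rfl, rfl, rfl⟩
      · exact thirty_eq agree inj1 hh hA s t
      · exact thirtytwo_twenty agree inj1 hh hA s t
      · exact thirty_one agree inj1 hh hA s t
      · exact thirty_two agree inj1 hh hA s t
      · exact one_three agree inj1 hh hA t s
      · exact two_three agree inj1 hh hA t s

omit inj1 hh hA agree in
theorem para_generated {H : Subgroup para}
    (h : ∀ (i j : Fin 4) (hj : j ≠ 0), i ≠ j → ∀ t, (⟨root i j t, root_mem_para hj t⟩ : para) ∈ H) : H = ⊤ := by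
  have hs : H.map Count.lower = ⊤ := by
    refine CfsgLib.Classical.eq_top_of_transvection_mem _ fun i j hij c => ?_
    refine ⟨_, h i.succ j.succ (Fin.succ_ne_zero _) ((Fin.succ_injective 3).ne hij) c, Subtype.ext ?_⟩
    show (root i.succ j.succ c).1.submatrix Fin.succ Fin.succ = _
    rw [show (root i.succ j.succ c).1 = _ from coe_tv ((Fin.succ_injective 3).ne hij) c,
      Matrix.SpecialLinearGroup.transvection_coe]
    ext a b
    simp [Matrix.one_apply, Matrix.single]
  have hr : ∀ r : Fin 3 → ZMod 3,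
      Count.assemble r 1 = (root 0 1 (r 0) * root 0 2 (r 1) * root 0 3 (r 2)).1 := by decide +kernel
  refine eq_top_iff.2 fun g _ => ?_
  obtain ⟨a, ha, hl⟩ : Count.lower g ∈ H.map Count.lower := hs ▸ Subgroup.mem_top _
  have hk : Count.lower (a⁻¹ * g) = 1 := by rw [map_mul, map_inv, hl, inv_mul_cancel]
  have hmem : a⁻¹ * g ∈ H := by
    obtain ⟨r, hr'⟩ : ∃ r, a⁻¹ * g = Count.paraEquiv.symm (r, 1) :=
      ⟨(Count.paraEquiv (a⁻¹ * g)).1, Count.paraEquiv.injective (by
        rw [Equiv.apply_symm_apply]; exact Prod.ext rfl hk)⟩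
    rw [hr', show Count.paraEquiv.symm (r, 1) = (⟨root 0 1 (r 0), root_mem_para (by decide) _⟩ : para) *
      ⟨root 0 2 (r 1), root_mem_para (by decide) _⟩ * ⟨root 0 3 (r 2), root_mem_para (by decide) _⟩ from
      Subtype.ext (Subtype.ext (hr r))]
    exact H.mul_mem (H.mul_mem (h 0 1 (by decide) (by decide) _) (h 0 2 (by decide) (by decide) _)) (h 0 3 (by decide) (by decide) _)
  simpa using H.mul_mem ha hmem

omit agree hh in
theorem ker_eq_center (φ : SL4 →* G) (hφ : ∀ g : para, φ g.1 = t1 g) : φ.ker = Subgroup.center SL4 := by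
  haveI : IsSimpleGroup PL4 := CfsgLib.Classical.isSimpleGroup_PSL (Or.inl (by simp))
  refine le_antisymm ?_ fun z hz => ?_
  · rcases ((Subgroup.Normal.map (MonoidHom.normal_ker φ) mk Count.mk_surjective)).eq_bot_or_eq_top with h | h
    · intro g hg
      exact Count.mk_eq_one.1 (Subgroup.mem_bot.1 (h ▸ Subgroup.mem_map_of_mem mk hg))
    · exfalso
      have key : ∀ g, ∃ z ∈ Subgroup.center SL4, φ g = φ z := by
        intro g
        obtain ⟨n, hn, e⟩ : mk g ∈ φ.ker.map mk := h ▸ Subgroup.mem_top _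
        refine ⟨n⁻¹ * g, Count.mk_eq_one.1 (by rw [map_mul, map_inv, e, inv_mul_cancel]), ?_⟩
        rw [map_mul, map_inv, MonoidHom.mem_ker.1 hn, inv_one, one_mul]
      obtain ⟨z, hz, e⟩ := key (root 0 2 1)
      have h1 : φ (root 0 1 1) = 1 := by
        rw [show root 0 1 1 = ⁅root 0 2 1, root 2 1 1⁆ from
          ((tv_rel (i := (0 : Fin 4)) (j := 2) (k := 1) (by decide) (by decide) (by decide) (1 : ZMod 3) 1).trans
            (by rw [mul_one]; rfl)).symm, map_commutatorElement, e]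
        refine commutatorElement_eq_one_iff_mul_comm.2 ?_
        rw [← map_mul, ← map_mul, Subgroup.mem_center_iff.1 hz]
      rw [show φ (root 0 1 1) = t1 ⟨root 0 1 1, root_mem_para (by decide) 1⟩ from hφ ⟨root 0 1 1, root_mem_para (by decide) 1⟩,
        map_eq_one_iff _ inj1] at h1
      exact absurd (congrArg (fun g : para => g.1.1) h1)
        (show (root 0 1 1).1 ≠ (1 : Matrix (Fin 4) (Fin 4) (ZMod 3)) by decide +kernel)
  · rw [MonoidHom.mem_ker]
    obtain ⟨a, ha, e⟩ := hA (φ z) fun a ha => by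
      rw [← hφ ⟨a, (aGrp_le_cm ha).1⟩, ← map_mul, ← map_mul, Subgroup.mem_center_iff.1 hz a]
    have hzz : z * z = 1 := by
      apply Subtype.ext
      rcases Count.center_cases hz with h | h <;> simp [h]
    have : φ z * φ z = 1 := by rw [← map_mul, hzz, map_one]
    rw [e, ← map_mul, map_eq_one_iff _ inj1] at this
    have ha1 : a = 1 := eq_one_of_sq ha (congrArg Subtype.val this)
    subst ha1
    rw [e]; exact map_one t1

/-- The parabolics glue to a homomorphism of `SL(4,3)` with the centre as kernel. -/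
theorem exists_hom : ∃ φ : SL4 →* G, φ.ker = Subgroup.center SL4 ∧ ∀ g : para, φ g.1 = t1 g := by
  obtain ⟨e, he⟩ := CfsgLib.SLPres.Steinberg.presentation (K := ZMod 3) 4 (by norm_num)
  have R := steinberg agree inj1 hh hA
  let φ : SL4 →* G :=
    (PresentedGroup.toGroup (CfsgLib.SLPres.Steinberg.lift_rels R)).comp e.symm.toMonoidHom
  have hroot : ∀ (i j : Fin 4), i ≠ j → ∀ t, φ (root i j t) = Y t1 t2 i j t := by
    intro i j hij t
    show PresentedGroup.toGroup (CfsgLib.SLPres.Steinberg.lift_rels R) (e.symm (tv i j t)) = _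
    rw [← he ⟨(i, j), hij⟩ t, MulEquiv.symm_apply_apply, PresentedGroup.toGroup.of]
  have htop : MonoidHom.eqLocus (φ.comp para.subtype) t1 = ⊤ :=
    para_generated fun i j hj hij t => (hroot i j hij t).trans (Y_one hj t)
  have hφ : ∀ g : para, φ g.1 = t1 g := fun g =>
    (show g ∈ MonoidHom.eqLocus (φ.comp para.subtype) t1 from htop ▸ Subgroup.mem_top g)
  exact ⟨φ, ker_eq_center inj1 hA φ hφ, hφ⟩

end CfsgLib.LFourThree.Glue
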