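import Cfsg.Agent.Lib.LFourThree.CaseOne
import Cfsg.Agent.Lib.LFourThree.Adjust
import Cfsg.Agent.Lib.LFourThree.Glue

/-!
The second case: both invariant abelian subgroups carry conjugates of the central element.
-/

set_option autoImplicit false
set_option linter.style.haveILetI false
set_option linter.unusedSectionVars false

namespace CfsgLib.LFourThree

open CfsgLib.LFourThree.Setup CfsgLib.LFourThree.ZF

variable {G : Type*} [Group G] [Finite G] {z : G} {Q : Subgroup G}
  {π : Subgroup.centralizer ({z} : Set G) →* S2}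

/-- The map of the whole group `SL(4,3)` and its fusion. -/
theorem exists_phi (L : Local z Q π) (hsyl : ¬ 3 ^ 7 ∣ Nat.card G) {t : para →* G} (ht : Function.Injective t)
    (htz : t zp = z) (hle : Subgroup.centralizer ({z} : Set G) ≤ t.range) {g₀ : G} (hg₀ : g₀ * z * g₀⁻¹ ∈ Q)
    (hg₀' : g₀ * z * g₀⁻¹ ∉ tImg t rowGrp) :
    ∃ φ : SL4 →* G, φ.ker = Subgroup.center SL4 ∧
      ∀ g : G, g * φ zmat * g⁻¹ ∈ φ.range → g ∈ φ.range := by
  have hzrow : z ∈ tImg t rowGrp := ⟨zp, Model.zmat_mem_row, htz⟩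
  have hg₀z : g₀ * z * g₀⁻¹ ∉ Subgroup.zpowers z := fun h => hg₀' ((Subgroup.zpowers_le.2 hzrow) h)
  obtain ⟨t', ht', ht'z, hle', hrow'⟩ := exists_t L hg₀ hg₀z
  have hcol : tImg t' rowGrp = tImg t colGrp := by
    rw [hrow']
    refine (pair_cases L ht htz hle hg₀ hg₀z).resolve_left fun e => hg₀' ?_
    rw [← e]
    exact ⟨hg₀, ⟨z, L.zmem, rfl⟩⟩
  obtain ⟨t2, ht2, ht2z, hC2, hrow2, hcol2⟩ := second L ht htz hle ht' ht'z hle' hcol
  have hC := cent_eq L ht htz hle
  have hQ := q_eq L ht htz hle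
  have hsym := fun g => local_sym L g
  have hII := fun g => dichotomy L ht htz hle g
  rw [hQ] at hsym hII
  rw [← htz] at hC hC2 hsym hII ht2z
  have hclass := hclass t ht hC hsyl hsym hII
  obtain ⟨t2', -, hagree, hh⟩ := exists_adjust t t2 ht ht2 ht2z hC hC2 hrow2.symm hcol2.symm
    fun m hm hne => hclass m hne hm
  obtain ⟨φ, hker, hφ⟩ := Glue.exists_hom (fun g h1 h2 => hagree g h1 h2) ht hh fun c hc => by
    have hz : zmat ∈ aGrp := Subgroup.subset_closure (by simp [zmat])
    have hcz : c ∈ Subgroup.centralizer ({t zp} : Set G) :=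
      Subgroup.mem_centralizer_singleton_iff.2 (hc zmat hz)
    have hcm : c ∈ tImg t cm := hC ▸ hcz
    obtain ⟨a, ha, rfl⟩ := hcm
    have hcomm : (a : SL4) ∈ aGrp := Model.comm_aGrp ha fun b hb => by
      have e : a * ⟨b, (Glue.aGrp_le_cm hb).1⟩ = ⟨b, (Glue.aGrp_le_cm hb).1⟩ * a :=
        ht (by rw [map_mul, map_mul]; exact hc b hb)
      have := congrArg (fun x : para => (x : SL4)) e
      simpa only [Subgroup.coe_mul] using this
    exact ⟨(a : SL4), hcomm, rfl⟩
  refine ⟨φ, hker, fun g hg => ?_⟩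
  refine hz_psl t ht hC hsyl hsym φ hφ hII g ?_
  rwa [← hφ]

/-- The group `PSL(4,3)`. -/
theorem case_two (φ : SL4 →* G) (hker : φ.ker = Subgroup.center SL4) (hS : Strong φ.range) :
    Nonempty (G ≃* PL4) := by
  let f : PL4 →* G := QuotientGroup.lift (Subgroup.center SL4) φ (le_of_eq hker.symm)
  have hf : ∀ x, f (mk x) = φ x := fun x => rfl
  have hr : f.range = φ.range := by
    ext g
    constructor
    · rintro ⟨y, rfl⟩
      obtain ⟨x, rfl⟩ := QuotientGroup.mk'_surjective (Subgroup.center SL4) y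
      exact ⟨x, rfl⟩
    · rintro ⟨x, rfl⟩
      exact ⟨mk x, rfl⟩
  have hinj : Function.Injective f := by
    refine (injective_iff_map_eq_one f).2 fun y hy => ?_
    obtain ⟨x, rfl⟩ := QuotientGroup.mk'_surjective (Subgroup.center SL4) y
    exact (QuotientGroup.eq_one_iff x).2 (hker ▸ (hy : φ x = 1))
  have h := cent_le_of_surjective
    (cent_psl (centMap f (mk dmat)) (centMap_injective hinj _) (centMap_strong hinj (hr ▸ hS) _)
      (centMap_central f (mk dmat)))
  refine final_psl φ hker hS ?_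
  rw [hr, hf] at h
  exact h

end CfsgLib.LFourThree
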