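import Cfsg.Agent.Lib.Transfer.Frobenius

/-!
A 3-subgroup containing a central element which is not fused outside of it: a normal 3-complement.
-/

set_option autoImplicit false
set_option linter.unusedSectionVars false
set_option linter.style.haveILetI false

namespace CfsgLib.LFourThree

variable {Γ : Type*} [Group Γ] [Finite Γ] {P : Subgroup Γ} {z : Γ}

/-- `P` is a Sylow subgroup. -/
theorem control_sylow (hP : IsPGroup 3 P) (hz : z ∈ P) (_hzc : ∀ x ∈ P, x * z = z * x)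
    (hfus : ∀ g : Γ, g * z * g⁻¹ ∈ P → g ∈ P) : ∃ S : Sylow 3 Γ, (S : Subgroup Γ) = P := by
  haveI : Fact (Nat.Prime 3) := ⟨Nat.prime_three⟩
  obtain ⟨S, hS⟩ := hP.exists_le_sylow
  refine ⟨S, le_antisymm ?_ hS⟩
  haveI : Group.IsNilpotent (S : Subgroup Γ) := S.2.isNilpotent
  by_contra hlt
  have hne : P.subgroupOf (S : Subgroup Γ) ≠ ⊤ := fun h => hlt (Subgroup.subgroupOf_eq_top.1 h)
  obtain ⟨x, hx, hxP⟩ := SetLike.exists_of_lt
    (Group.normalizerCondition_of_isNilpotent (P.subgroupOf (S : Subgroup Γ)) (lt_top_iff_ne_top.2 hne))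
  refine hxP (hfus _ ?_)
  exact (Subgroup.mem_normalizer_iff.1 hx ⟨z, hS hz⟩).1 hz

/-- `P` controls the fusion of its elements. -/
theorem control_fusion (hP : IsPGroup 3 P) (hz : z ∈ P) (hzc : ∀ x ∈ P, x * z = z * x)
    (hfus : ∀ g : Γ, g * z * g⁻¹ ∈ P → g ∈ P) {x g : Γ} (hx : x ∈ P) (hgx : g * x * g⁻¹ ∈ P) :
    ∃ k ∈ P, k * x * k⁻¹ = g * x * g⁻¹ := by
  haveI : Fact (Nat.Prime 3) := ⟨Nat.prime_three⟩
  set y := g * x * g⁻¹ with hy
  set Cy := Subgroup.centralizer ({y} : Set Γ) with hCy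
  have hzy : z ∈ Cy := Subgroup.mem_centralizer_singleton_iff.2 (hzc y hgx).symm
  have hgz : g * z * g⁻¹ ∈ Cy := Subgroup.mem_centralizer_singleton_iff.2 (by
    rw [hy, conj_mul, conj_mul, hzc x hx])
  -- `P ∩ C(y)` is a Sylow subgroup of `C(y)`
  obtain ⟨S, hS⟩ := control_sylow (P := P.subgroupOf Cy) (z := ⟨z, hzy⟩)
    (hP.comap_of_injective Cy.subtype Cy.subtype_injective) hz
    (fun a ha => Subtype.ext (hzc a ha)) fun c hc => hfus c hc
  have hpg : IsPGroup 3 ((P.map (MulAut.conj g).toMonoidHom).subgroupOf Cy) :=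
    (hP.map _).comap_of_injective Cy.subtype Cy.subtype_injective
  obtain ⟨T, hT⟩ := hpg.exists_le_sylow
  obtain ⟨c, hc⟩ := MulAction.exists_smul_eq Cy T S
  have hcg : (c : Γ) * g ∈ P := by
    refine hfus _ ?_
    have hm : c * ⟨g * z * g⁻¹, hgz⟩ * c⁻¹ ∈ (S : Subgroup Cy) := by
      rw [← hc, Sylow.coe_subgroup_smul, ← MulAut.conj_apply]
      exact Subgroup.smul_mem_pointwise_smul _ _ _ (hT ⟨z, hz, rfl⟩)
    rw [hS, Subgroup.mem_subgroupOf] at hm
    simpa [mul_assoc] using hm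
  refine ⟨_, hcg, ?_⟩
  have hcy := Subgroup.mem_centralizer_singleton_iff.1 c.2
  calc (c : Γ) * g * x * ((c : Γ) * g)⁻¹ = c * y * (c : Γ)⁻¹ := by rw [hy]; group
    _ = y := by rw [hcy, mul_inv_cancel_right]

/-- The normal complement. -/
theorem control (hP : IsPGroup 3 P) (hz : z ∈ P) (hzc : ∀ x ∈ P, x * z = z * x)
    (hfus : ∀ g : Γ, g * z * g⁻¹ ∈ P → g ∈ P) :
    ∃ K : Subgroup Γ, K.Normal ∧ ¬ 3 ∣ Nat.card K ∧ K ⊔ P = ⊤ := by
  haveI : Fact (Nat.Prime 3) := ⟨Nat.prime_three⟩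
  obtain ⟨S, hS⟩ := control_sylow hP hz hzc hfus
  have h := CfsgLib.Transfer.hasNormalPComplement_of_no_fusion S fun x hx g hgx => by
    rw [hS] at hx hgx ⊢
    exact control_fusion hP hz hzc hfus hx hgx
  obtain ⟨K, hKn, hKc⟩ := (CfsgLib.Transfer.hasNormalPComplement_iff_forall_sylow S).1 h
  haveI := hKn
  refine ⟨K, hKn, Nat.prime_three.coprime_iff_not_dvd.1
    (CfsgLib.Transfer.coprime_card_of_isComplement' hKc).symm, ?_⟩
  rw [← hS]
  exact hKc.sup_eq_top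

end CfsgLib.LFourThree
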