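import Cfsg.Agent.Lib.LFourThree.ParaThree
import Cfsg.Agent.Lib.LFourThree.Control
import Cfsg.Agent.Lib.Coprime.Generation

/-!
Centralisers in a finite group `G` of elements and pairs of elements of an embedded
`3^3 : SL(3,3)`, when the root elements of the first row are not fused out of it.
-/

set_option autoImplicit false

namespace CfsgLib.LFourThree.Par

open Matrix

variable {G : Type*} [Group G] [Finite G] {φ : para →* G}

/-- No fusion of `zE` out of the parabolic. -/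
def ZHyp (φ : para →* G) : Prop := ∀ g : G, g * φ zE * g⁻¹ ∈ φ.range → g ∈ φ.range

/-- A conjugate of `zE`. -/
def IsZ (e : para) : Prop := ∃ k : para, k * e * k⁻¹ = zE

/-- The centraliser of the image lies in the image. -/
def Good (φ : para →* G) (e : para) : Prop := ∀ g : G, g * φ e = φ e * g → g ∈ φ.range

/-- The joint centraliser of the images lies in the image. -/
def Good2 (φ : para →* G) (v x : para) : Prop :=
  ∀ g : G, g * φ v = φ v * g → g * φ x = φ x * g → g ∈ φ.range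

omit [Finite G] in
theorem ZHyp.conj (hz : ZHyp φ) {e : para} (he : IsZ e) {g : G}
    (hg : g * φ e * g⁻¹ ∈ φ.range) : g ∈ φ.range := by
  obtain ⟨k, hk⟩ := he
  have h : g * φ k⁻¹ * φ zE * (g * φ k⁻¹)⁻¹ = g * φ e * g⁻¹ := by
    rw [← hk, map_mul, map_mul, map_inv]; group
  have := hz _ (h ▸ hg)
  have h2 := mul_mem this (⟨k, rfl⟩ : φ k ∈ φ.range)
  rwa [mul_assoc, ← map_mul, inv_mul_cancel, map_one, mul_one] at h2

omit [Finite G] in
theorem good_of_isZ (hz : ZHyp φ) {e : para} (he : IsZ e) : Good φ e := fun g hg =>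
  hz.conj he (by rw [hg, mul_inv_cancel_right]; exact ⟨e, rfl⟩)

omit [Finite G] in
theorem good_of_conj {e f k : para} (hk : k * e * k⁻¹ = f) (hf : Good φ f) : Good φ e := by
  intro g hg
  have h : φ k * g * (φ k)⁻¹ * φ f = φ f * (φ k * g * (φ k)⁻¹) := by
    rw [← hk, map_mul, map_mul, map_inv]
    calc φ k * g * (φ k)⁻¹ * (φ k * φ e * (φ k)⁻¹) = φ k * (g * φ e) * (φ k)⁻¹ := by group
      _ = φ k * (φ e * g) * (φ k)⁻¹ := by rw [hg]
      _ = _ := by group
  have h2 := hf _ h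
  have h3 := mul_mem (mul_mem (inv_mem (⟨k, rfl⟩ : φ k ∈ φ.range)) h2) (⟨k, rfl⟩ : φ k ∈ φ.range)
  simpa [mul_assoc] using h3

/-- A unipotent triangular element. -/
def IsU (g : para) : Prop := ∃ p q r b c t, g = U p q r b c t

theorem IsU.comm_z {g : para} (h : IsU g) : g * zE = zE * g := by
  obtain ⟨p, q, r, b, c, t, rfl⟩ := h
  simp only [zE, U_mul]
  congr 1 <;> ring

theorem IsU.pow_nine {g : para} (h : IsU g) : g ^ 9 = 1 := by
  obtain ⟨p, q, r, b, c, t, rfl⟩ := h
  exact U_pow_nine ..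

theorem tri_cases {g : para} {p q r a b c t : ZMod 3} (h : m g = WM p q r a b c t) :
    (a = 1 ∧ g = U p q r b c t) ∨ (a = 2 ∧ g = U (2 * p) q (2 * r) b (2 * c) (2 * t) * jE) := by
  have key : ∀ a : ZMod 3, a * a = 1 → a = 1 ∨ a = 2 := by decide
  rcases key a (shape h) with rfl | rfl
  · exact Or.inl ⟨rfl, shape_U h⟩
  · refine Or.inr ⟨rfl, m_inj ?_⟩
    have h4 : ∀ x : ZMod 3, x = 2 * x * 2 := by decide
    rw [h, m_mul, m_U, m_jE, WM_mul]
    congr 1 <;> simp [← h4]

theorem tri_isU {g : para} {p q r a b c t : ZMod 3} (h : m g = WM p q r a b c t)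
    (h3 : g ^ 3 = 1) : IsU g := by
  rcases tri_cases h with ⟨_, hg⟩ | ⟨ha, -⟩
  · exact ⟨_, _, _, _, _, _, hg⟩
  · exfalso
    have h' := congrArg m h3
    rw [pow_succ, pow_two, m_mul, m_mul, h, WM_mul, WM_mul, m_one, ← WM_one] at h'
    have := (WM_ext h').2.2.2.1
    rw [ha] at this
    exact absurd this (by decide)

/-- A plane normalising a subgroup of order prime to 3 generates it by centralisers. -/
theorem le_of_plane (hinj : Function.Injective φ) {K Y : Subgroup G} (F : ZMod 3 → ZMod 3 → para)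
    (hF : ∀ i j i' j', F i j * F i' j' = F (i + i') (j + j'))
    (hF1 : ∀ i j, F i j = 1 → i = 0 ∧ j = 0)
    (hnorm : ∀ i j, ∀ k ∈ K, φ (F i j) * k * (φ (F i j))⁻¹ ∈ K) (hK : ¬ 3 ∣ Nat.card K)
    (hY : ∀ i j, ¬(i = 0 ∧ j = 0) → ∀ k ∈ K, k * φ (F i j) = φ (F i j) * k → k ∈ Y) :
    K ≤ Y := by
  let f : Multiplicative (ZMod 3 × ZMod 3) →* G := MonoidHom.mk'
    (fun x => φ (F x.toAdd.1 x.toAdd.2)) fun a b => by
      show φ (F (a.toAdd.1 + b.toAdd.1) (a.toAdd.2 + b.toAdd.2)) = _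
      rw [← hF, map_mul]
  have hfinj : Function.Injective f := by
    rw [injective_iff_map_eq_one]
    intro x hx
    obtain ⟨h1, h2⟩ := hF1 _ _ (hinj (hx.trans φ.map_one.symm))
    exact Multiplicative.toAdd.injective (Prod.ext h1 h2)
  have hcard : Nat.card f.range = 9 := by
    rw [← Nat.card_congr (MonoidHom.ofInjective hfinj).toEquiv]
    simp
  have : IsMulCommutative f.range := ⟨⟨by
    rintro ⟨_, a, rfl⟩ ⟨_, b, rfl⟩
    exact Subtype.ext (by simp only [Subgroup.coe_mul, ← map_mul, mul_comm a b])⟩⟩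
  have h3 : ∀ a : ZMod 3, a + a + a = 0 := by decide
  refine CfsgLib.Coprime.le_of_centralizer_le (A := f.range)
    (CfsgLib.Coprime.not_isCyclic_of_exponent (p := 3) ?_ (by norm_num) (by omega)) ?_ ?_ ?_
  · rintro _ ⟨x, rfl⟩
    have hx : x * x * x = 1 := Multiplicative.toAdd.injective (Prod.ext (h3 _) (h3 _))
    rw [pow_succ, pow_two, ← map_mul, ← map_mul, hx, map_one]
  · rintro _ ⟨x, rfl⟩
    rw [Subgroup.mem_normalizer_iff]
    refine fun k => ⟨fun hk => hnorm _ _ k hk, fun hk => ?_⟩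
    have h := hnorm (x⁻¹).toAdd.1 (x⁻¹).toAdd.2 _ hk
    change f x⁻¹ * (f x * k * (f x)⁻¹) * (f x⁻¹)⁻¹ ∈ K at h
    simpa [mul_assoc] using h
  · rw [hcard]
    exact Nat.Coprime.pow_left 2 ((Nat.prime_three.coprime_iff_not_dvd).2 hK)
  · rintro _ ⟨x, rfl⟩ hx k ⟨hk, hc⟩
    refine hY x.toAdd.1 x.toAdd.2 (fun h => hx ?_) k hk
      (Subgroup.mem_centralizer_singleton_iff.1 hc)
    rw [show x = 1 from Multiplicative.toAdd.injective (Prod.ext h.1 h.2), map_one]

/-- The joint centraliser is the 3-group seen in the parabolic, if a plane with known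
centralisers normalises it. -/
theorem good2_of_plane (hinj : Function.Injective φ) (hz : ZHyp φ) {v x : para}
    (hzv : zE * v = v * zE) (hzx : zE * x = x * zE)
    (hU : ∀ g, g * v = v * g → g * x = x * g → IsU g)
    (F : ZMod 3 → ZMod 3 → para)
    (hF : ∀ i j i' j', F i j * F i' j' = F (i + i') (j + j'))
    (hF1 : ∀ i j, F i j = 1 → i = 0 ∧ j = 0)
    (hFv : ∀ i j, F i j * v = v * F i j)
    (hFx : ∀ i j, ∃ n : ℕ, F i j * x * (F i j)⁻¹ = x * v ^ n)
    (hC : ∀ i j, ¬(i = 0 ∧ j = 0) → Good2 φ v (F i j)) : Good2 φ v x := by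
  intro g0 hg0v hg0x
  set Γ := Subgroup.centralizer ({φ v} : Set G) ⊓ Subgroup.centralizer ({φ x} : Set G) with hΓ
  have hmem : ∀ g : G, g ∈ Γ ↔ g * φ v = φ v * g ∧ g * φ x = φ x * g := fun g => by
    rw [hΓ, Subgroup.mem_inf, Subgroup.mem_centralizer_singleton_iff,
      Subgroup.mem_centralizer_singleton_iff]
  have hzΓ : φ zE ∈ Γ := (hmem _).2 ⟨by rw [← map_mul, hzv, map_mul], by rw [← map_mul, hzx, map_mul]⟩
  set P := φ.range.subgroupOf Γ
  have hP : ∀ a ∈ P, ∃ a0, IsU a0 ∧ φ a0 = (a : G) := by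
    intro a ha
    obtain ⟨a0, ha0⟩ := ha
    have h := (hmem _).1 a.2
    rw [Subgroup.coe_subtype] at ha0
    rw [← ha0, ← map_mul, ← map_mul, ← map_mul, ← map_mul] at h
    exact ⟨a0, hU a0 (hinj h.1) (hinj h.2), ha0⟩
  have hPp : IsPGroup 3 P := fun a => ⟨2, by
    obtain ⟨a0, hu, ha0⟩ := hP a a.2
    apply Subtype.ext; apply Subtype.ext
    show (((a : Γ) : G)) ^ (3 ^ 2) = 1
    rw [← ha0, ← map_pow, show 3 ^ 2 = 9 from rfl, hu.pow_nine, map_one]⟩
  obtain ⟨K, hKn, hK3, hKP⟩ := control hPp (z := ⟨φ zE, hzΓ⟩) ⟨zE, rfl⟩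
    (fun a ha => by
      obtain ⟨a0, hu, ha0⟩ := hP a ha
      apply Subtype.ext
      show (a : G) * φ zE = φ zE * (a : G)
      rw [← ha0, ← map_mul, hu.comm_z, map_mul])
    (fun g hg => hz g hg)
  have hidx : K.index ∣ Nat.card P := by
    have hs : Function.Surjective ((QuotientGroup.mk' K).comp P.subtype) := by
      rw [← MonoidHom.range_eq_top, MonoidHom.range_comp, Subgroup.range_subtype]
      rw [eq_top_iff, ← Subgroup.map_top_of_surjective _ (QuotientGroup.mk'_surjective K), ← hKP,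
        Subgroup.map_sup, QuotientGroup.map_mk'_self, bot_sup_eq]
    exact Subgroup.card_dvd_of_surjective _ hs
  have hcop : ∀ y : Γ, ¬ 3 ∣ orderOf y → y ∈ K := by
    intro y hy
    obtain ⟨n, hn⟩ := IsPGroup.iff_card.1 hPp
    rw [hn] at hidx
    obtain ⟨k, -, hk⟩ := (Nat.dvd_prime_pow Nat.prime_three).1 hidx
    have h1 : (QuotientGroup.mk' K y) ^ K.index = 1 := pow_card_eq_one'
    have h2 : (QuotientGroup.mk' K y) ^ orderOf y = 1 := by
      rw [← map_pow, pow_orderOf_eq_one, map_one]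
    have h3 := pow_gcd_eq_one.2 ⟨h1, h2⟩
    rw [hk, (Nat.Coprime.pow_left k ((Nat.prime_three.coprime_iff_not_dvd).2 hy) :
      Nat.gcd (3 ^ k) (orderOf y) = 1), pow_one] at h3
    exact (QuotientGroup.eq_one_iff y).1 h3
  have hKle : K.map Γ.subtype ≤ φ.range := by
    refine le_of_plane hinj F hF hF1 ?_ ?_ ?_
    · rintro i j _ ⟨k, hk, rfl⟩
      set e := φ (F i j) with he
      have h := (hmem _).1 k.2
      have hev : e * φ v = φ v * e := by rw [he, ← map_mul, hFv, map_mul]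
      obtain ⟨n, hn⟩ := hFx i j
      have hex : e * φ x * e⁻¹ = φ x * φ v ^ n := by
        rw [he, ← map_inv, ← map_mul, ← map_mul, hn, map_mul, map_pow]
      have hy : e * (k : G) * e⁻¹ ∈ Γ := by
        have h1 : e * (k : G) * e⁻¹ * φ v = φ v * (e * (k : G) * e⁻¹) := by
          calc e * (k : G) * e⁻¹ * φ v = e * (k : G) * e⁻¹ * (φ v * e) * e⁻¹ := by group
            _ = e * ((k : G) * φ v) * e⁻¹ := by rw [← hev]; group
            _ = (e * φ v) * k * e⁻¹ := by rw [h.1]; group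
            _ = _ := by rw [hev]; group
        refine (hmem _).2 ⟨h1, ?_⟩
        have h2 : Commute (e * (k : G) * e⁻¹) (φ x * φ v ^ n) := by
          rw [← hex]
          exact (show Commute (k : G) (φ x) from h.2).map (MulAut.conj e).toMonoidHom
        have h3 := h2.mul_right ((show Commute _ (φ v) from h1).pow_right n).inv_right
        rwa [mul_inv_cancel_right] at h3
      refine ⟨⟨_, hy⟩, hcop _ ?_, rfl⟩
      have ho : orderOf (⟨e * (k : G) * e⁻¹, hy⟩ : Γ) = orderOf k := by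
        rw [← Subgroup.orderOf_coe, ← Subgroup.orderOf_coe]
        exact (MulAut.conj e).orderOf_eq (k : G)
      rw [ho]
      exact fun h3 => hK3 (h3.trans ((Subgroup.orderOf_coe (⟨k, hk⟩ : K)).symm ▸ orderOf_dvd_natCard _))
    · rwa [Subgroup.card_map_of_injective Γ.subtype_injective]
    · rintro i j hij _ ⟨k, -, rfl⟩ hc
      exact hC i j hij _ ((hmem _).1 k.2).1 hc
  have htop : (⊤ : Subgroup Γ) ≤ P := by
    rw [← hKP]
    exact sup_le (fun k hk => hKle ⟨k, hk, rfl⟩) le_rfl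
  exact htop (Subgroup.mem_top (⟨g0, (hmem _).2 ⟨hg0v, hg0x⟩⟩ : Γ))

end CfsgLib.LFourThree.Par
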