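import Cfsg.Agent.Lib.LFourThree.Symp

/-!
Irreducible actions of `SL(2,3)` on a group of order 9: `-1` inverts; actions on a group of order 3 are
trivial.
-/

set_option autoImplicit false
set_option linter.style.haveILetI false

namespace CfsgLib.LFourThree.Derive

variable {M : Type*} [CommGroup M]

/-- The fixed subgroup. -/
def fix (a : MulAut M) : Subgroup M where
  carrier := {x | a x = x}
  one_mem' := map_one a
  mul_mem' {x y} hx hy := by
    show a (x * y) = x * y
    rw [map_mul, hx, hy]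
  inv_mem' {x} hx := by
    show a x⁻¹ = x⁻¹
    rw [map_inv, hx]

theorem mem_fix {a : MulAut M} {x : M} : x ∈ fix a ↔ a x = x := Iff.rfl

theorem s2_facts : pE * sE * pE⁻¹ * (pE * sE * pE⁻¹) = -1 ∧ sE * sE = -1 ∧
    (pE * (pE * sE * pE⁻¹) * pE⁻¹ = sE * (pE * sE * pE⁻¹) ∨
      pE * (pE * sE * pE⁻¹) * pE⁻¹ = -1 * (sE * (pE * sE * pE⁻¹))) ∧ pE ^ 3 = 1 ∧
    (sE * (pE * sE * pE⁻¹)) * (sE * (pE * sE * pE⁻¹)) = -1 ∧
    (-1 : S2) * -1 = 1 ∧ ∀ g : S2, -1 * g = g * -1 := by
  decide +kernel

/-- Subgroups invariant under the two generators are invariant. -/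
theorem inv_of_gen {σ : S2 →* MulAut M} [Finite M] {B : Subgroup M} (hp : ∀ x ∈ B, σ pE x ∈ B)
    (hs : ∀ x ∈ B, σ sE x ∈ B) : ∀ g, ∀ x ∈ B, σ g x ∈ B := by
  intro g
  have hg : g ∈ Subgroup.closure ({pE, sE} : Set S2) := closure_ps ▸ Subgroup.mem_top g
  induction hg using Subgroup.closure_induction with
  | mem y hy =>
    rcases hy with rfl | rfl
    · exact hp
    · exact hs
  | one => intro x hx; rwa [map_one, MulAut.one_apply]
  | mul y z _ _ h1 h2 => intro x hx; rw [map_mul, MulAut.mul_apply]; exact h1 _ (h2 x hx)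
  | inv y _ h1 =>
    intro x hx
    obtain ⟨x', hx'⟩ := Finite.surjective_of_injective
      (f := fun x : B => (⟨σ y x.1, h1 x.1 x.2⟩ : B)) (fun a b e => Subtype.ext
        ((σ y).injective (congrArg Subtype.val e))) ⟨x, hx⟩
    have e : σ y x'.1 = x := congrArg Subtype.val hx'
    have : σ y⁻¹ x = x'.1 := by rw [← e, ← MulAut.mul_apply, ← map_mul, inv_mul_cancel, map_one, MulAut.one_apply]
    rw [this]
    exact x'.2

/-- On a group of order three the action is trivial. -/
theorem trivial_of_card_three (h : Nat.card M = 3) (σ : S2 →* MulAut M) : ∀ g, σ g = 1 := by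
  haveI : Finite M := Nat.finite_of_card_ne_zero (by omega)
  have key : ∀ g : S2, g ^ 3 = 1 → σ g = 1 := by
    intro g hg
    have h2 : σ g ^ 2 = 1 := by
      refine MulEquiv.ext fun x => ?_
      rw [sq, MulAut.mul_apply, MulAut.one_apply]
      rcases eq_or_ne x 1 with rfl | hx
      · rw [map_one, map_one]
      haveI : Fact (Nat.Prime 3) := ⟨Nat.prime_three⟩
      have ho : orderOf x = 3 := by
        have := orderOf_dvd_natCard x
        rw [h] at this
        exact (Nat.prime_three.eq_one_or_self_of_dvd _ this).resolve_left fun e => hx (orderOf_eq_one_iff.1 e)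
      have htop : Subgroup.zpowers x = ⊤ :=
        Subgroup.eq_top_of_card_eq _ (by rw [Nat.card_zpowers, ho, h])
      have hx3 : x ^ 3 = 1 := by rw [← ho, pow_orderOf_eq_one]
      obtain ⟨n, hn⟩ : ∃ n : ℕ, x ^ n = σ g x :=
        (Submonoid.mem_powers_iff _ _).1 (mem_powers_iff_mem_zpowers.2 (htop ▸ Subgroup.mem_top (σ g x)))
      have hr : σ g (σ g x) = x ^ ((n % 3) * (n % 3)) := by
        rw [← hn, map_pow, ← hn, ← pow_mul]
        have e : ∀ k, x ^ k = x ^ (k % 3) := fun k => by
          conv_lhs => rw [← Nat.mod_add_div k 3]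
          rw [pow_add, pow_mul, hx3, one_pow, mul_one]
        rw [e, e ((n % 3) * (n % 3)), Nat.mul_mod]
      have hn0 : n % 3 ≠ 0 := fun e => hx ((σ g).injective (by
        rw [map_one, ← hn]
        obtain ⟨k, hk⟩ := Nat.dvd_of_mod_eq_zero e
        rw [hk, pow_mul, hx3, one_pow]))
      rw [hr]
      rcases (show n % 3 = 1 ∨ n % 3 = 2 by omega) with e | e <;> rw [e]
      · exact pow_one x
      · rw [show 2 * 2 = 3 + 1 from rfl, pow_add, hx3, one_mul, pow_one]
    have h3 : σ g ^ 3 = 1 := by rw [← map_pow, hg, map_one]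
    rwa [pow_succ, h2, one_mul] at h3
  have hp := key pE s2_rels.2.2.1
  have hq := key qE s2_rels.2.2.2
  have hs : σ sE = 1 := by rw [← s2_rels.1, map_mul, map_mul, hp, hq, one_mul, one_mul]
  intro g
  refine MulEquiv.ext fun x => ?_
  have hg : g ∈ Subgroup.closure ({pE, sE} : Set S2) := closure_ps ▸ Subgroup.mem_top g
  have hk : g ∈ σ.ker := (Subgroup.closure_le _).2 (by
    rintro y (rfl | rfl)
    · exact hp
    · exact hs) hg
  rw [MonoidHom.mem_ker.1 hk]

/-- On an irreducible group of order nine `-1` inverts. -/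
theorem neg_inverts [Finite M] (h : Nat.card M = 9) (h3 : ∀ x : M, x ^ 3 = 1) (σ : S2 →* MulAut M)
    (hirr : ∀ B : Subgroup M, (∀ g, ∀ x ∈ B, σ g x ∈ B) → B = ⊥ ∨ B = ⊤) : ∀ x, σ (-1) x * x = 1 := by
  obtain ⟨fv, fu, fw, fp, fuv, fneg, fcomm⟩ := s2_facts
  have hinvol : ∀ (a : MulAut M), a * a = 1 → fix a = ⊥ → ∀ x, a x * x = 1 := by
    intro a ha hf x
    rw [← Subgroup.mem_bot, ← hf, mem_fix, map_mul, ← MulAut.mul_apply, ha, MulAut.one_apply, mul_comm]
  have hsq : ∀ x : M, x * x = 1 → x = 1 := fun x hx => by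
    have := h3 x
    rwa [pow_succ, sq, hx, one_mul] at this
  have hne : ∃ x : M, x ≠ 1 := by
    by_contra hc
    push Not at hc
    haveI : Subsingleton M := ⟨fun a b => by rw [hc a, hc b]⟩
    rw [Nat.card_of_subsingleton (1 : M)] at h
    norm_num at h
  have hn : σ (-1) * σ (-1) = 1 := by rw [← map_mul, fneg, map_one]
  rcases hirr (fix (σ (-1))) (fun g x hx => by
      rw [mem_fix, ← MulAut.mul_apply, ← map_mul, fcomm, map_mul, MulAut.mul_apply, hx]) with h0 | h0
  · exact hinvol _ hn h0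
  exfalso
  have hm1 : σ (-1) = 1 := MulEquiv.ext fun x => mem_fix.1 (h0 ▸ Subgroup.mem_top x)
  set v : S2 := pE * sE * pE⁻¹ with hvdef
  set a := σ sE with hadef
  set b := σ v with hbdef
  set c := σ pE with hcdef
  have ha : a * a = 1 := by rw [hadef, ← map_mul, fu, hm1]
  have hb : b * b = 1 := by rw [hbdef, ← map_mul, fv, hm1]
  have hab : a * b * (a * b) = 1 := by rw [hadef, hbdef, ← map_mul, ← map_mul, fuv, hm1]
  have hcb : c * b * c⁻¹ = a * b := by
    rw [hcdef, hbdef, ← map_inv, ← map_mul, ← map_mul]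
    rcases fw with e | e <;> rw [e, map_mul]
    · rw [hm1, one_mul, map_mul]
  have hca : c * a * c⁻¹ = b := by rw [hcdef, hadef, hbdef, hvdef, map_mul, map_mul, map_inv]
  have hc3 : c * c * c = 1 := by rw [hcdef, ← map_mul, ← map_mul, ← map_one σ, ← fp, pow_succ, sq]
  have hcomm : a * b = b * a := by
    have e := eq_inv_of_mul_eq_one_left hab
    rwa [mul_inv_rev, inv_eq_of_mul_eq_one_right ha, inv_eq_of_mul_eq_one_right hb] at e
  have hfix : ∀ x, c x ∈ fix b ↔ x ∈ fix a := fun x => by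
    rw [mem_fix, mem_fix, ← hca]
    simp only [MulAut.mul_apply, MulAut.inv_apply_self]
    exact c.injective.eq_iff
  obtain ⟨x₀, hx₀⟩ := hne
  rcases eq_or_ne (fix a) ⊤ with ht | ht
  · have ha1 : ∀ x, a x = x := fun x => mem_fix.1 (ht ▸ Subgroup.mem_top x)
    have hcinv : ∀ B : Subgroup M, (∀ x ∈ B, c x ∈ B) → B = ⊥ ∨ B = ⊤ := fun B hB =>
      hirr B (inv_of_gen hB fun x hx => by rw [← hadef, ha1]; exact hx)
    rcases hcinv (fix c) (fun x hx => by rw [mem_fix] at hx ⊢; rw [hx, hx]) with e | e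
    · have hall : ∀ x, c x = x := by
        intro x
        have hN : x * c x * c (c x) = 1 := by
          rw [← Subgroup.mem_bot, ← e, mem_fix, map_mul, map_mul]
          have e3 : c (c (c x)) = x := by rw [← MulAut.mul_apply, ← MulAut.mul_apply, hc3]; rfl
          rw [e3, mul_comm, mul_assoc]
        have hy : x⁻¹ * c x ∈ fix c := by
          rw [mem_fix, map_mul, map_inv]
          have e2 : c (c x) = (x * c x)⁻¹ := eq_inv_of_mul_eq_one_right hN
          have e4 : (c x) ^ 3 = 1 := h3 _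
          rw [e2, mul_inv]
          calc (c x)⁻¹ * (x⁻¹ * (c x)⁻¹) = x⁻¹ * ((c x)⁻¹ * (c x)⁻¹ * (c x) ^ 3) := by
                rw [e4, mul_one, mul_left_comm]
            _ = x⁻¹ * c x := by group
        rw [e, Subgroup.mem_bot, inv_mul_eq_one] at hy
        exact hy.symm
      exact hx₀ (Subgroup.mem_bot.1 (e ▸ mem_fix.2 (hall x₀)))
    · have hc1 : ∀ x, c x = x := fun x => mem_fix.1 (e ▸ Subgroup.mem_top x)
      rcases hcinv (Subgroup.zpowers x₀) (fun x hx => by rwa [hc1]) with e' | e'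
      · exact hx₀ (Subgroup.zpowers_eq_bot.1 e')
      · have := congrArg (fun B : Subgroup M => Nat.card B) e'
        simp only [Nat.card_zpowers, Subgroup.card_top, h] at this
        have h9 := orderOf_dvd_of_pow_eq_one (h3 x₀)
        rw [this] at h9
        norm_num at h9
  rcases eq_or_ne (fix a) ⊥ with hb0 | hb0
  · have ai := hinvol a ha hb0
    have hbot : fix b = ⊥ := by
      refine (Subgroup.eq_bot_iff_forall _).2 fun y hy => ?_
      obtain ⟨x, rfl⟩ := c.surjective y
      rw [hfix, hb0, Subgroup.mem_bot] at hy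
      rw [hy, map_one]
    have bi := hinvol b hb hbot
    have habid : ∀ x, (a * b) x = x := fun x => by
      rw [MulAut.mul_apply]
      have e1 := bi x
      have e2 := ai (b x)
      rw [mul_eq_one_iff_eq_inv] at e1 e2
      rw [e2, e1, inv_inv]
    have hbid : ∀ x, b x = x := fun x => by
      have := habid (c x)
      rw [← hcb] at this
      simp only [MulAut.mul_apply, MulAut.inv_apply_self] at this
      exact c.injective this
    exact hx₀ (Subgroup.mem_bot.1 (hbot ▸ mem_fix.2 (hbid x₀)))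
  have hcard : ∀ B : Subgroup M, B ≠ ⊥ → B ≠ ⊤ → Nat.card B = 3 := by
    intro B h1 h2
    have hd := Subgroup.card_subgroup_dvd_card B
    rw [h] at hd
    obtain ⟨k, hk, hk'⟩ := (Nat.dvd_prime_pow Nat.prime_three).1 (show Nat.card B ∣ 3 ^ 2 by simpa using hd)
    interval_cases k
    · exact absurd (Subgroup.eq_bot_of_card_eq _ hk') h1
    · exact hk'
    · exact absurd (Subgroup.eq_top_of_card_eq _ (by rw [hk', h]; norm_num)) h2
  have hbne : fix b ≠ ⊥ := fun e => hb0 ((Subgroup.eq_bot_iff_forall _).2 fun x hx => by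
    have := (hfix x).2 hx
    rw [e, Subgroup.mem_bot] at this
    exact c.injective (this.trans (map_one c).symm))
  have hbnt : fix b ≠ ⊤ := fun e => ht (eq_top_iff.2 fun x _ => (hfix x).1 (e ▸ Subgroup.mem_top _))
  have ca : Nat.card (fix a) = 3 := hcard _ hb0 ht
  have cb : Nat.card (fix b) = 3 := hcard _ hbne hbnt
  have hinf : fix a ⊓ fix b = ⊥ := by
    by_contra hne'
    have hle := Subgroup.card_le_of_le (inf_le_left : fix a ⊓ fix b ≤ fix a)
    have hnt : fix a ⊓ fix b ≠ ⊤ := fun e => ht (eq_top_iff.2 (e.symm.le.trans inf_le_left))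
    have cab := hcard _ hne' hnt
    have e1 : fix a ⊓ fix b = fix a := Subgroup.eq_of_le_of_card_ge inf_le_left (by omega)
    have e2 : fix a ⊓ fix b = fix b := Subgroup.eq_of_le_of_card_ge inf_le_right (by omega)
    have e3 : fix b = fix a := e2.symm.trans e1
    rcases hirr (fix a) (inv_of_gen (fun x hx => e3 ▸ (hfix x).2 hx)
      fun x hx => by rw [← hadef, mem_fix.1 hx]; exact hx) with e | e
    · exact hb0 e
    · exact ht e
  have binv : ∀ x ∈ fix a, b x * x = 1 := by
    intro x hx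
    rw [← Subgroup.mem_bot, ← hinf]
    refine ⟨(fix a).mul_mem ?_ hx, ?_⟩
    · rw [mem_fix, ← MulAut.mul_apply, hcomm, MulAut.mul_apply, mem_fix.1 hx]
    · show b (b x * x) = b x * x
      rw [map_mul, ← MulAut.mul_apply, hb, MulAut.one_apply, mul_comm]
  have ainv : ∀ x ∈ fix b, a x * x = 1 := by
    intro x hx
    rw [← Subgroup.mem_bot, ← hinf]
    refine ⟨?_, (fix b).mul_mem ?_ hx⟩
    · show a (a x * x) = a x * x
      rw [map_mul, ← MulAut.mul_apply, ha, MulAut.one_apply, mul_comm]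
    · rw [mem_fix, ← MulAut.mul_apply, ← hcomm, MulAut.mul_apply, mem_fix.1 hx]
  have hsurj : Function.Surjective fun p : fix a × fix b => (p.1 : M) * p.2 := by
    haveI : Fintype M := Fintype.ofFinite M
    refine ((Function.Injective.bijective_of_nat_card_le
      (Subgroup.mul_injective_of_disjoint (disjoint_iff.2 hinf))) ?_).2
    rw [h, Nat.card_prod, ca, cb]
  have habinv : ∀ x, (a * b) x * x = 1 := by
    intro x
    obtain ⟨⟨⟨p, hp⟩, ⟨q, hq⟩⟩, rfl⟩ := hsurj x
    have e1 : (a * b) p = p⁻¹ := by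
      rw [MulAut.mul_apply, mul_eq_one_iff_eq_inv.1 (binv p hp), map_inv, mem_fix.1 hp]
    have e2 : (a * b) q = q⁻¹ := by
      rw [MulAut.mul_apply, mem_fix.1 hq, mul_eq_one_iff_eq_inv.1 (ainv q hq)]
    show (a * b) (p * q) * (p * q) = 1
    rw [map_mul, e1, e2, mul_mul_mul_comm, inv_mul_cancel, inv_mul_cancel, one_mul]
  refine hbne ((Subgroup.eq_bot_iff_forall _).2 fun y hy => hsq y ?_)
  have := habinv (c y)
  rw [← hcb] at this
  simp only [MulAut.mul_apply, MulAut.inv_apply_self, mem_fix.1 hy] at this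
  rw [← map_mul] at this
  exact c.injective (this.trans (map_one c).symm)

end CfsgLib.LFourThree.Derive
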