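import Cfsg.Agent.Lib.LFourThree.Symp
import Cfsg.Prelude.Def_Solvable

/-!
The centraliser of the central element of order three: an extraspecial group of order `3^5` under `SL(2,3)`, as a
symplectic module.
-/

set_option autoImplicit false
set_option linter.style.haveILetI false
set_option linter.unusedSectionVars false

namespace CfsgLib.LFourThree

variable {G : Type*} [Group G] {z : G} {Q : Subgroup G}

/-- `C(z)` is an extension of the extraspecial `Q` of exponent three by `SL(2,3)` through `π`, and the preimages of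
`-1` invert `Q` modulo the centre. -/
structure Local (z : G) (Q : Subgroup G) (π : Subgroup.centralizer ({z} : Set G) →* S2) : Prop where
  ord : orderOf z = 3
  surj : Function.Surjective π
  ker : ∀ c : Subgroup.centralizer ({z} : Set G), π c = 1 ↔ (c : G) ∈ Q
  le : Q ≤ Subgroup.centralizer ({z} : Set G)
  zmem : z ∈ Q
  card : Nat.card Q = 243
  exp : ∀ a ∈ Q, a ^ 3 = 1
  comm : ∀ a ∈ Q, ∀ b ∈ Q, a * b * a⁻¹ * b⁻¹ ∈ Subgroup.zpowers z
  center : ∀ a ∈ Q, (∀ b ∈ Q, a * b = b * a) → a ∈ Subgroup.zpowers z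
  neg : ∀ c : Subgroup.centralizer ({z} : Set G), π c = -1 → ∀ q ∈ Q,
    (c : G) * q * (c : G)⁻¹ * q ∈ Subgroup.zpowers z

theorem mem_cz {g : G} : g ∈ Subgroup.centralizer ({z} : Set G) ↔ g * z = z * g :=
  Subgroup.mem_centralizer_singleton_iff

theorem s2_normal_three : ∀ g : S2, g ^ 3 = 1 → g ≠ 1 → ∃ a : S2, (g * (a * g * a⁻¹)) ^ 3 ≠ 1 ∧
    (g * (a * g * a⁻¹)) ^ 9 ≠ 1 := by
  decide +kernel

theorem s2_three_conj : ∀ g : S2, g ^ 3 = 1 → g ≠ 1 → ∃ a : S2, a * g * a⁻¹ = pE ∨ a * g * a⁻¹ = pE * pE := by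
  decide +kernel

theorem s2_nine : ∀ g : S2, g ^ 3 ≠ 1 → g ^ 9 ≠ 1 := by decide +kernel

namespace Local

variable {π : Subgroup.centralizer ({z} : Set G) →* S2} (L : Local z Q π)
include L

theorem z_cube : z ^ 3 = 1 := L.ord ▸ pow_orderOf_eq_one z

theorem z_ne : z ≠ 1 := fun h => by
  have := L.ord
  rw [h, orderOf_one] at this
  norm_num at this

theorem zpowers_le : Subgroup.zpowers z ≤ Q := Subgroup.zpowers_le.2 L.zmem

theorem card_zpowers : Nat.card (Subgroup.zpowers z) = 3 := by rw [Nat.card_zpowers, L.ord]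

theorem z_comm {a x : G} (ha : a ∈ Subgroup.centralizer ({z} : Set G)) (hx : x ∈ Subgroup.zpowers z) :
    a * x = x * a := by
  obtain ⟨n, rfl⟩ := Subgroup.mem_zpowers_iff.1 hx
  exact ((show Commute a z from mem_cz.1 ha).zpow_right n).eq

theorem q_comm {a x : G} (ha : a ∈ Q) (hx : x ∈ Subgroup.zpowers z) : a * x = x * a :=
  L.z_comm (L.le ha) hx

/-- The centraliser normalises `Q`. -/
theorem conj_mem {c q : G} (hc : c ∈ Subgroup.centralizer ({z} : Set G)) (hq : q ∈ Q) : c * q * c⁻¹ ∈ Q := by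
  have h1 : π ⟨q, L.le hq⟩ = 1 := (L.ker _).2 hq
  have h2 : π (⟨c, hc⟩ * ⟨q, L.le hq⟩ * ⟨c, hc⟩⁻¹) = 1 := by
    rw [map_mul, map_mul, map_inv, h1, mul_one, mul_inv_cancel]
  exact (L.ker _).1 h2

/-- A 3-subgroup of the centraliser normalised by all of it lies in `Q`. -/
theorem normal_le {N : Subgroup G} (hle : N ≤ Subgroup.centralizer ({z} : Set G)) (hN : IsPGroup 3 N)
    (hn : ∀ c ∈ Subgroup.centralizer ({z} : Set G), ∀ x ∈ N, c * x * c⁻¹ ∈ N) : N ≤ Q := by
  intro x hx
  have three : ∀ y ∈ N, ∀ hy : y ∈ Subgroup.centralizer ({z} : Set G), π ⟨y, hy⟩ ^ 3 = 1 := by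
    intro y hy hyC
    obtain ⟨k, hk⟩ := hN ⟨y, hy⟩
    have hk' : π ⟨y, hyC⟩ ^ 3 ^ k = 1 := by
      rw [← map_pow, show (⟨y, hyC⟩ : Subgroup.centralizer ({z} : Set G)) ^ 3 ^ k = 1 from
        Subtype.ext (by simpa using congrArg Subtype.val hk), map_one]
    have hall : ∀ g : S2, g ^ 24 = 1 := by decide +kernel
    have h24 := orderOf_dvd_of_pow_eq_one (hall (π ⟨y, hyC⟩))
    obtain ⟨i, -, hi⟩ := (Nat.dvd_prime_pow Nat.prime_three).1 (orderOf_dvd_of_pow_eq_one hk')
    rw [hi] at h24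
    have hi1 : i ≤ 1 := by
      by_contra hc
      have h9 : 3 ^ 2 ∣ 24 := (pow_dvd_pow 3 (by omega)).trans h24
      norm_num at h9
    rw [← orderOf_dvd_iff_pow_eq_one, hi]
    exact (pow_dvd_pow 3 hi1).trans (by norm_num)
  refine (L.ker ⟨x, hle hx⟩).1 (by_contra fun hne => ?_)
  obtain ⟨a, ha, -⟩ := s2_normal_three _ (three x hx (hle hx)) hne
  obtain ⟨⟨c, hc⟩, rfl⟩ := L.surj a
  have hm : x * (c * x * c⁻¹) ∈ N := N.mul_mem hx (hn c hc x hx)
  apply ha
  rw [← three _ hm (hle hm), ← map_inv, ← map_mul, ← map_mul, ← map_mul]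
  rfl

theorem conj_sub {x q : G} (hq : q ∈ Q) (hx : x ∈ Subgroup.zpowers z) : q * x * q⁻¹ = x := by
  rw [L.q_comm hq hx, mul_inv_cancel_right]

theorem comm_left {a b c : G} (ha : a ∈ Q) (hb : b ∈ Q) (hc : c ∈ Q) :
    a * b * c * (a * b)⁻¹ * c⁻¹ = (b * c * b⁻¹ * c⁻¹) * (a * c * a⁻¹ * c⁻¹) := by
  calc a * b * c * (a * b)⁻¹ * c⁻¹
      = a * (b * c * b⁻¹ * c⁻¹) * a⁻¹ * (a * c * a⁻¹ * c⁻¹) := by group
    _ = _ := by rw [L.conj_sub ha (L.comm b hb c hc)]

/-- An abelian subgroup of `Q` has order at most 27. -/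
theorem abelian_le [Finite G] {B : Subgroup G} (hB : B ≤ Q) (hab : ∀ a ∈ B, ∀ b ∈ B, a * b = b * a) :
    Nat.card B ≤ 27 := by
  classical
  by_contra hlt
  push Not at hlt
  have hd : Nat.card B ∣ 3 ^ 5 := by
    have := Subgroup.card_dvd_of_le hB
    rwa [L.card] at this
  obtain ⟨k, hk5, hk⟩ := (Nat.dvd_prime_pow Nat.prime_three).1 hd
  have hk4 : 4 ≤ k := by
    by_contra hc
    have h9 := Nat.pow_le_pow_right (show 1 ≤ 3 by norm_num) (show k ≤ 3 by omega)
    omega
  -- every element commutes with all of `Q` up to one functional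
  have hzB : ∀ a ∈ B, ∀ u ∈ Q, u ∉ B → a * u = u * a → a ∈ Subgroup.zpowers z := by
    intro a ha u hu huB hau
    refine L.center a (hB ha) fun b hb => ?_
    let D : Subgroup G := Subgroup.centralizer ({a} : Set G) ⊓ Q
    have hBD : B ≤ D := fun b hb => ⟨mem_cz.2 (hab b hb a ha), hB hb⟩
    have hne : B ≠ D := fun e => huB (e ▸ (⟨mem_cz.2 hau.symm, hu⟩ : u ∈ D))
    have hlt' : Nat.card B < Nat.card D := by
      by_contra hc
      exact hne (Subgroup.eq_of_le_of_card_ge hBD (not_lt.1 hc))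
    have hDd : Nat.card D ∣ 3 ^ 5 := by
      have := Subgroup.card_dvd_of_le (inf_le_right : D ≤ Q)
      rwa [L.card] at this
    obtain ⟨m, hm5, hm⟩ := (Nat.dvd_prime_pow Nat.prime_three).1 hDd
    have hkm : k < m := (Nat.pow_lt_pow_iff_right (show 1 < 3 by norm_num)).1 (hk ▸ hm ▸ hlt')
    have hD : D = Q := Subgroup.eq_of_le_of_card_ge inf_le_right (by
      rw [L.card, hm, show m = 5 by omega]; norm_num)
    exact (mem_cz.1 ((hD ▸ hb : b ∈ D).1)).symm
  by_cases hk' : k = 5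
  · have hBQ : B = Q := Subgroup.eq_of_le_of_card_ge hB (by rw [L.card, hk, hk']; norm_num)
    have : Q ≤ Subgroup.zpowers z := fun a ha => L.center a ha fun b hb =>
      hab a (hBQ ▸ ha) b (hBQ ▸ hb)
    have h := Subgroup.card_le_of_le this
    rw [L.card, L.card_zpowers] at h
    omega
  · obtain ⟨u, hu, huB⟩ : ∃ u ∈ Q, u ∉ B := by
      by_contra hc
      push Not at hc
      have h := Subgroup.card_le_of_le hc
      rw [L.card, hk, show k = 4 by omega] at h
      norm_num at h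
    let f : B → Subgroup.zpowers z := fun a => ⟨a * u * (a : G)⁻¹ * u⁻¹, L.comm _ (hB a.2) u hu⟩
    have hle : Nat.card B ≤ Nat.card (Subgroup.zpowers z) * Nat.card (Subgroup.zpowers z) := by
      rw [← Nat.card_prod]
      let out : Subgroup.zpowers z → B := fun v =>
        if h : ∃ a, f a = v then h.choose else 1
      refine Nat.card_le_card_of_injective
        (fun a : B => ((f a, ⟨((out (f a) : B) : G)⁻¹ * a, ?_⟩) : Subgroup.zpowers z × Subgroup.zpowers z))
        fun a b e => ?_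
      · have hex : ∃ a', f a' = f a := ⟨a, rfl⟩
        have he : f (out (f a)) = f a := by
          simp only [out, dif_pos hex]
          exact hex.choose_spec
        set r := out (f a)
        refine hzB _ (B.mul_mem (B.inv_mem r.2) a.2) u hu huB ?_
        have e1 : (a : G) * u * (a : G)⁻¹ = (r : G) * u * (r : G)⁻¹ :=
          mul_right_cancel (congrArg Subtype.val he).symm
        calc (r : G)⁻¹ * a * u = (r : G)⁻¹ * ((a : G) * u * (a : G)⁻¹) * a := by group
          _ = u * ((r : G)⁻¹ * a) := by rw [e1]; group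
      · simp only [Prod.mk.injEq, Subtype.mk.injEq] at e
        rw [e.1] at e
        exact Subtype.ext (mul_left_cancel e.2)
    rw [L.card_zpowers, hk] at hle
    have := Nat.pow_le_pow_right (show 1 ≤ 3 by norm_num) hk4
    omega

end Local

end CfsgLib.LFourThree
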