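import Cfsg.Prelude.Def_Transfer
import Cfsg.Prelude.Def_CaseTheorems
import Cfsg.Agent.Lib.Fitting.Basic
import Cfsg.Agent.Lib.LFourThree.Local
import Cfsg.Agent.Lib.LFourThree.DeriveModule

/-!
The local data from the hypotheses: `C(z)` over `Q` is `SL(2,3)` and `-1` inverts `Q` modulo the centre.
-/

set_option autoImplicit false
set_option linter.style.haveILetI false

namespace CfsgLib.LFourThree

open Cfsg
open scoped commutatorElement

namespace Derive

variable {G : Type*} [Group G]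

/-- The action of `C` on a factor, through `SL(2,3)`. -/
theorem exists_action {C B A : Subgroup G} {π : C →* S2} (hπ : Function.Surjective π) (hAB : A ≤ B)
    (hB : ∀ c ∈ C, ∀ x ∈ B, c * x * c⁻¹ ∈ B) (hA : ∀ c ∈ C, ∀ x ∈ A, c * x * c⁻¹ ∈ A)
    (hQ : ∀ c : C, π c = 1 → ∀ x ∈ B, (c : G) * x * (c : G)⁻¹ * x⁻¹ ∈ A)
    (hab : ∀ x ∈ B, ∀ y ∈ B, x * y * x⁻¹ * y⁻¹ ∈ A)
    [hN : (A.subgroupOf B).Normal] :
    ∃ σ : S2 →* MulAut (↥B ⧸ A.subgroupOf B), ∀ (c : C) (x : B) (hx : (c : G) * x * (c : G)⁻¹ ∈ B),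
      σ (π c) (x : ↥B ⧸ A.subgroupOf B) = ((⟨(c : G) * x * (c : G)⁻¹, hx⟩ : B) : ↥B ⧸ A.subgroupOf B) := by
  classical
  let conjB : C → B →* B := fun c =>
    { toFun := fun x => ⟨(c : G) * x * (c : G)⁻¹, hB c c.2 x x.2⟩
      map_one' := Subtype.ext (by simp)
      map_mul' := fun x y => Subtype.ext (by
        show (c : G) * ((x : G) * y) * (c : G)⁻¹ = (c : G) * x * (c : G)⁻¹ * ((c : G) * y * (c : G)⁻¹)
        group) }
  have hmap : ∀ c : C, A.subgroupOf B ≤ (A.subgroupOf B).comap (conjB c) := fun c x hx =>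
    hA c c.2 x hx
  let f : C → (↥B ⧸ A.subgroupOf B) →* (↥B ⧸ A.subgroupOf B) := fun c =>
    QuotientGroup.map _ _ (conjB c) (hmap c)
  have fmk : ∀ c (x : B), f c (x : ↥B ⧸ A.subgroupOf B) = (conjB c x : ↥B ⧸ A.subgroupOf B) :=
    fun c x => rfl
  have fmul : ∀ c d q, f (c * d) q = f c (f d q) := by
    intro c d q
    obtain ⟨x, rfl⟩ := QuotientGroup.mk_surjective q
    rw [fmk, fmk, fmk]
    congr 1
    refine Subtype.ext ?_
    show ((c : G) * d) * x * ((c : G) * d)⁻¹ = (c : G) * ((d : G) * x * (d : G)⁻¹) * (c : G)⁻¹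
    group
  have fone : ∀ c, π c = 1 → ∀ q, f c q = q := by
    intro c hc q
    obtain ⟨x, rfl⟩ := QuotientGroup.mk_surjective q
    rw [fmk, QuotientGroup.eq, Subgroup.mem_subgroupOf]
    show ((c : G) * x * (c : G)⁻¹)⁻¹ * x ∈ A
    have h1 := hQ c hc x x.2
    have hcx : (c : G) * x * (c : G)⁻¹ ∈ B := hB c c.2 x x.2
    have h2 : ((c : G) * x * (c : G)⁻¹ * (x : G)⁻¹)⁻¹ ∈ A := A.inv_mem h1
    have h3 := hab _ (B.inv_mem hcx) _ (x : B).2
    have h4 : ((c : G) * x * (c : G)⁻¹)⁻¹ * x =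
        ((c : G) * x * (c : G)⁻¹)⁻¹ * x * ((c : G) * x * (c : G)⁻¹) * (x : G)⁻¹ *
          ((c : G) * x * (c : G)⁻¹ * (x : G)⁻¹)⁻¹ := by group
    rw [h4]
    refine A.mul_mem ?_ h2
    simpa using h3
  let s : S2 → C := Function.surjInv hπ
  have hs : ∀ g, π (s g) = g := Function.surjInv_eq hπ
  have hindep : ∀ c d, π c = π d → ∀ q, f c q = f d q := by
    intro c d h q
    rw [show c = d * (d⁻¹ * c) by group, fmul, fone (d⁻¹ * c) (by rw [map_mul, map_inv, h, inv_mul_cancel])]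
  let e : S2 → MulAut (↥B ⧸ A.subgroupOf B) := fun g =>
    { toFun := f (s g)
      invFun := f (s g⁻¹)
      left_inv := fun q => by
        rw [← fmul]
        exact fone _ (by rw [map_mul, hs, hs, inv_mul_cancel]) q
      right_inv := fun q => by
        rw [← fmul]
        exact fone _ (by rw [map_mul, hs, hs, mul_inv_cancel]) q
      map_mul' := map_mul _ }
  refine ⟨MonoidHom.mk' e fun g h => MulEquiv.ext fun q => ?_, fun c x hx => ?_⟩
  · show f (s (g * h)) q = f (s g) (f (s h) q)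
    rw [← fmul]
    exact hindep _ _ (by rw [map_mul, hs, hs, hs]) q
  · simp only [MonoidHom.mk'_apply]
    show f (s (π c)) (x : ↥B ⧸ A.subgroupOf B) = _
    rw [hindep (s (π c)) c (hs _), fmk]
    rfl

end Derive

variable {G : Type*} [Group G] [Finite G]

/-- The local data. -/
theorem derive
    (S : Sylow 3 G) (Z : Subgroup G) (hZ : Z = (S : Subgroup G) ⊓ Subgroup.centralizer ((S : Subgroup G) : Set G))
    (C : Subgroup G) (hCZ : C = Subgroup.centralizer (Z : Set G))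
    (Q : Subgroup G) (hQ : Q = (Cfsg.pCore 3 C).map C.subtype)
    (hQex : Cfsg.IsExtraspecial 3 Q) (hQcard : Nat.card Q = 3 ^ 5) (hQexp : ∀ a ∈ Q, a ^ 3 = 1)
    (hCQ : Subgroup.centralizer (Q : Set G) ≤ Q)
    (hZQ : ∃ x : G, Z.map (MulAut.conj x).toMonoidHom ≤ Q ∧ Z.map (MulAut.conj x).toMonoidHom ≠ Z)
    (K : Subgroup G) (hK : K = ((Cfsg.pResidual 2 (C ⧸ Cfsg.pCore 3 C)).comap (QuotientGroup.mk' (Cfsg.pCore 3 C))).map C.subtype)
    (r : ℕ) (A : Fin (r + 1) → Subgroup G) (hA0 : A 0 = Z) (hAr : A (Fin.last r) = Q)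
    (hmono : ∀ i : Fin r, A i.castSucc < A i.succ)
    (hinv : ∀ i : Fin (r + 1), ∀ k ∈ K, ∀ a ∈ A i, k * a * k⁻¹ ∈ A i)
    (hmax : ∀ i : Fin r, ∀ B : Subgroup G, A i.castSucc < B → B < A i.succ → ∃ k ∈ K, ∃ b ∈ B, k * b * k⁻¹ ∉ B)
    (e : C ⧸ Cfsg.pCore 3 C ≃* Matrix.SpecialLinearGroup (Fin 2) (ZMod 3))
    (htwo : ∃ i j : Fin r, i ≠ j ∧ (∃ k ∈ K, ∃ a ∈ A i.succ, k * a * k⁻¹ * a⁻¹ ∉ A i.castSucc) ∧ (∃ k ∈ K, ∃ a ∈ A j.succ, k * a * k⁻¹ * a⁻¹ ∉ A j.castSucc) ∧
      ∀ l : Fin r, (∃ k ∈ K, ∃ a ∈ A l.succ, k * a * k⁻¹ * a⁻¹ ∉ A l.castSucc) → l = i ∨ l = j) :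
    ∃ (z : G) (π : Subgroup.centralizer ({z} : Set G) →* S2), Z = Subgroup.zpowers z ∧ Local z Q π ∧
      ¬ 3 ^ 7 ∣ Nat.card G ∧ ∃ x : G, x * z * x⁻¹ ∈ Q ∧ x * z * x⁻¹ ∉ Subgroup.zpowers z := by
  classical
  haveI : Fact (Nat.Prime 3) := ⟨Nat.prime_three⟩
  have hQC : Q ≤ C := hQ ▸ Subgroup.map_subtype_le _
  -- the centre
  have hZcQ : Z ≤ Subgroup.centralizer (Q : Set G) := fun x hx => Subgroup.mem_centralizer_iff.2 fun q hq => by
    have hq' : q ∈ Subgroup.centralizer (Z : Set G) := hCZ ▸ hQC hq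
    exact (Subgroup.mem_centralizer_iff.1 hq' x hx).symm
  have hZle : Z ≤ Q := hZcQ.trans hCQ
  set ZQ := (Subgroup.center Q).map Q.subtype with hZQdef
  have hZQcard : Nat.card ZQ = 3 := by
    rw [hZQdef, Subgroup.card_map_of_injective Q.subtype_injective, hQex.2]
  have hZcen : Z ≤ ZQ := fun x hx => ⟨⟨x, hZle hx⟩, Subgroup.mem_center_iff.2 fun q =>
    Subtype.ext (Subgroup.mem_centralizer_iff.1 (hZcQ hx) q q.2), rfl⟩
  have hZne : Z ≠ ⊥ := by
    intro hbot
    haveI : Nontrivial (S : Subgroup G) := by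
      rw [← Finite.one_lt_card_iff_nontrivial]
      have hQp : IsPGroup 3 Q := IsPGroup.of_card hQcard
      obtain ⟨P, hP⟩ := hQp.exists_le_sylow
      have h1 := Subgroup.card_le_of_le hP
      rw [hQcard] at h1
      rw [show Nat.card (S : Subgroup G) = Nat.card (P : Subgroup G) from Sylow.card_eq_multiplicity S |>.trans
        (Sylow.card_eq_multiplicity P).symm]
      omega
    haveI := S.2.center_nontrivial
    obtain ⟨⟨c, hc⟩, hc1⟩ := exists_ne (1 : Subgroup.center (S : Subgroup G))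
    apply hc1
    have : (c : G) ∈ Z := hZ ▸ ⟨c.2, Subgroup.mem_centralizer_iff.2 fun s hs => by
      have := Subgroup.mem_center_iff.1 hc ⟨s, hs⟩
      exact congrArg Subtype.val this⟩
    rw [hbot, Subgroup.mem_bot] at this
    exact Subtype.ext (Subtype.ext this)
  have hZeq : Z = ZQ := by
    refine Subgroup.eq_of_le_of_card_ge hZcen ?_
    rw [hZQcard]
    have hd := Subgroup.card_dvd_of_le hZcen
    rw [hZQcard] at hd
    rcases (Nat.prime_three.eq_one_or_self_of_dvd _ hd) with h | h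
    · exact absurd (Subgroup.eq_bot_of_card_eq _ h) hZne
    · omega
  have hZ3 : Nat.card Z = 3 := hZeq ▸ hZQcard
  obtain ⟨⟨z, hzZ⟩, hz⟩ := exists_prime_orderOf_dvd_card' (G := Z) 3 (by rw [hZ3])
  have hord : orderOf z = 3 := by rw [← hz, Subgroup.orderOf_mk]
  have hZz : Z = Subgroup.zpowers z := (Subgroup.eq_of_le_of_card_ge (Subgroup.zpowers_le.2 hzZ)
    (by rw [hZ3, Nat.card_zpowers, hord])).symm
  have hcent : Subgroup.centralizer ({z} : Set G) = C := by
    rw [hCZ, hZz, Subgroup.zpowers_eq_closure, Subgroup.centralizer_closure]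
  let ι : Subgroup.centralizer ({z} : Set G) ≃* C := MulEquiv.subgroupCongr hcent
  let π₀ : C →* S2 := e.toMonoidHom.comp (QuotientGroup.mk' (Cfsg.pCore 3 C))
  let π : Subgroup.centralizer ({z} : Set G) →* S2 := π₀.comp ι.toMonoidHom
  have hsurj₀ : Function.Surjective π₀ := e.surjective.comp (QuotientGroup.mk'_surjective _)
  have hker₀ : ∀ c : C, π₀ c = 1 ↔ (c : G) ∈ Q := fun c => by
    show e (QuotientGroup.mk' _ c) = 1 ↔ _
    rw [MulEquiv.map_eq_one_iff, QuotientGroup.mk'_apply, QuotientGroup.eq_one_iff, hQ]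
    exact ⟨fun h => ⟨c, h, rfl⟩, fun ⟨d, hd, hdc⟩ => (Subtype.ext hdc : d = c) ▸ hd⟩
  -- `K = C`
  have hKC : ∀ c ∈ C, c ∈ K := by
    intro c hc
    rw [hK]
    refine ⟨⟨c, hc⟩, ?_, rfl⟩
    show QuotientGroup.mk' _ (⟨c, hc⟩ : C) ∈ Cfsg.pResidual 2 (C ⧸ Cfsg.pCore 3 C)
    suffices h : ∀ g : S2, (e.symm g : C ⧸ Cfsg.pCore 3 C) ∈ Cfsg.pResidual 2 (C ⧸ Cfsg.pCore 3 C) by
      simpa using h (e (QuotientGroup.mk' _ (⟨c, hc⟩ : C)))
    have hgen : ∀ g : S2, g ^ 3 = 1 → (e.symm g : C ⧸ Cfsg.pCore 3 C) ∈ Cfsg.pResidual 2 (C ⧸ Cfsg.pCore 3 C) := fun g hg => by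
      refine Subgroup.subset_closure ?_
      show Nat.Coprime (orderOf (e.symm g)) 2
      exact Nat.Coprime.coprime_dvd_left (orderOf_dvd_of_pow_eq_one (by rw [← map_pow, hg, map_one]))
        (by norm_num)
    intro g
    have hg : g ∈ Subgroup.closure ({pE, sE} : Set S2) := closure_ps ▸ Subgroup.mem_top g
    have hle : Subgroup.closure ({pE, sE} : Set S2) ≤
        (Cfsg.pResidual 2 (C ⧸ Cfsg.pCore 3 C)).comap e.symm.toMonoidHom := by
      rw [Subgroup.closure_le]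
      rintro y (rfl | rfl)
      · exact hgen _ s2_rels.2.2.1
      · show (e.symm sE : C ⧸ Cfsg.pCore 3 C) ∈ Cfsg.pResidual 2 (C ⧸ Cfsg.pCore 3 C)
        rw [← s2_rels.1, map_mul, map_mul]
        exact Subgroup.mul_mem _ (Subgroup.mul_mem _ (hgen _ s2_rels.2.2.1) (hgen _ s2_rels.2.2.2))
          (hgen _ s2_rels.2.2.1)
    exact hle hg
  have hinvC : ∀ i : Fin (r + 1), ∀ c ∈ C, ∀ a ∈ A i, c * a * c⁻¹ ∈ A i :=
    fun i c hc => hinv i c (hKC c hc)
  have hAQ : ∀ i : Fin (r + 1), A i ≤ Q := by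
    intro i
    induction i using Fin.reverseInduction with
    | last => exact hAr.le
    | cast i ih => exact (hmono i).le.trans ih
  have hZA : ∀ i : Fin (r + 1), Z ≤ A i := by
    intro i
    induction i using Fin.induction with
    | zero => exact hA0.ge
    | succ i ih => exact ih.trans (hmono i).le
  have hcommQ : ∀ a ∈ Q, ∀ b ∈ Q, a * b * a⁻¹ * b⁻¹ ∈ Z := by
    intro a ha b hb
    rw [hZeq]
    refine ⟨⁅(⟨a, ha⟩ : Q), ⟨b, hb⟩⁆, ?_, by simp [commutatorElement_def]⟩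
    rw [SetLike.mem_coe, ← hQex.1.2.2]
    exact Subgroup.commutator_mem_commutator (Subgroup.mem_top _) (Subgroup.mem_top _)
  have hcenQ : ∀ a ∈ Q, (∀ b ∈ Q, a * b = b * a) → a ∈ Z := fun a ha h => by
    rw [hZeq]
    exact ⟨⟨a, ha⟩, Subgroup.mem_center_iff.2 fun b => Subtype.ext (h b b.2).symm, rfl⟩
  -- orders of the factors
  let n : Fin r → ℕ := fun l => (A l.castSucc).relIndex (A l.succ)
  have hcardA : ∀ l : Fin r, Nat.card (A l.succ) = Nat.card (A l.castSucc) * n l := fun l => by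
    have h := Subgroup.card_mul_index ((A l.castSucc).subgroupOf (A l.succ))
    rw [Nat.card_congr (Subgroup.subgroupOfEquivOfLe (hmono l).le).toEquiv] at h
    exact h.symm
  have hn3 : ∀ l, n l ≠ 3 → 9 ≤ n l := by
    intro l h3
    have hd : n l ∣ 3 ^ 5 := (Dvd.intro_left _ (hcardA l).symm).trans
      (hQcard ▸ Subgroup.card_dvd_of_le (hAQ l.succ))
    obtain ⟨k, -, hk⟩ := (Nat.dvd_prime_pow Nat.prime_three).1 hd
    have hk0 : k ≠ 0 := by
      rintro rfl
      have h := hcardA l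
      rw [hk, pow_zero, mul_one] at h
      exact (hmono l).ne (Subgroup.eq_of_le_of_card_ge (hmono l).le h.le)
    have hk1 : k ≠ 1 := by
      rintro rfl
      exact h3 (by rw [hk]; norm_num)
    rw [hk]
    exact le_trans (by norm_num) (Nat.pow_le_pow_right (by norm_num) (show 2 ≤ k by omega))
  have hn : ∀ l, 3 ≤ n l := fun l => by
    rcases eq_or_ne (n l) 3 with h | h
    · omega
    · have := hn3 l h; omega
  have hprod : Nat.card Q = 3 * ∏ l, n l := by
    have key : ∀ (m : ℕ) (B : Fin (m + 1) → Subgroup G) (N : Fin m → ℕ),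
        (∀ l, Nat.card (B l.succ) = Nat.card (B l.castSucc) * N l) →
          Nat.card (B (Fin.last m)) = Nat.card (B 0) * ∏ l, N l := by
      intro m
      induction m with
      | zero => intro B N _; simp
      | succ m ih =>
        intro B N hB
        rw [Fin.prod_univ_castSucc, ← mul_assoc, ← Fin.succ_last, hB]
        congr 1
        exact ih (fun i => B i.castSucc) (fun l => N l.castSucc) (fun l => by
          have h := hB l.castSucc
          rw [Fin.succ_castSucc] at h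
          exact h)
    rw [← hAr, key r A n hcardA, hA0, hZ3]
  -- the factors
  have hnorm : ∀ l : Fin r, ((A l.castSucc).subgroupOf (A l.succ)).Normal := fun l =>
    ⟨fun x hx g => hinvC l.castSucc g (hQC (hAQ _ g.2)) x hx⟩
  have hfac : ∀ l : Fin r, ∀ [((A l.castSucc).subgroupOf (A l.succ)).Normal],
      ∀ x y : ↥(A l.succ) ⧸ (A l.castSucc).subgroupOf (A l.succ), x * y = y * x := by
    intro l _ x y
    obtain ⟨a, rfl⟩ := QuotientGroup.mk_surjective x
    obtain ⟨b, rfl⟩ := QuotientGroup.mk_surjective y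
    rw [← QuotientGroup.mk_mul, ← QuotientGroup.mk_mul, QuotientGroup.eq, Subgroup.mem_subgroupOf]
    have h := hZA l.castSucc (hcommQ _ (Q.inv_mem (hAQ _ b.2)) _ (Q.inv_mem (hAQ _ a.2)))
    simpa [mul_assoc, mul_inv_rev] using h
  have hact : ∀ l : Fin r, ∀ [((A l.castSucc).subgroupOf (A l.succ)).Normal],
      ∃ σ : S2 →* MulAut (↥(A l.succ) ⧸ (A l.castSucc).subgroupOf (A l.succ)),
      ∀ (c : C) (x : A l.succ) (hx : (c : G) * x * (c : G)⁻¹ ∈ A l.succ),
        σ (π₀ c) (x : ↥(A l.succ) ⧸ (A l.castSucc).subgroupOf (A l.succ)) =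
          ((⟨(c : G) * x * (c : G)⁻¹, hx⟩ : A l.succ) : ↥(A l.succ) ⧸ (A l.castSucc).subgroupOf (A l.succ)) := by
    intro l _
    exact Derive.exists_action hsurj₀ (hmono l).le (hinvC l.succ) (hinvC l.castSucc)
      (fun c hc x hx => hZA _ (hcommQ _ ((hker₀ c).1 hc) _ (hAQ _ hx)))
      (fun x hx y hy => hZA _ (hcommQ _ (hAQ _ hx) _ (hAQ _ hy)))
  -- a factor moved by `K` has order at least nine
  have hbig : ∀ l : Fin r, (∃ k ∈ K, ∃ a ∈ A l.succ, k * a * k⁻¹ * a⁻¹ ∉ A l.castSucc) → 9 ≤ n l := by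
    intro l hl
    refine hn3 l fun h3 => ?_
    obtain ⟨k, hk, a, ha, hne⟩ := hl
    haveI := hnorm l
    letI : CommGroup (↥(A l.succ) ⧸ (A l.castSucc).subgroupOf (A l.succ)) :=
      { (inferInstance : Group (↥(A l.succ) ⧸ (A l.castSucc).subgroupOf (A l.succ))) with mul_comm := hfac l }
    obtain ⟨σ, hσ⟩ := hact l
    have htriv := Derive.trivial_of_card_three (M := ↥(A l.succ) ⧸ (A l.castSucc).subgroupOf (A l.succ)) h3 σ
    have hkC : k ∈ C := by
      rw [hK] at hk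
      obtain ⟨c, -, rfl⟩ := hk
      exact c.2
    have hka : k * a * k⁻¹ ∈ A l.succ := hinvC _ k hkC a ha
    have h := hσ ⟨k, hkC⟩ ⟨a, ha⟩ hka
    rw [htriv, MulAut.one_apply, QuotientGroup.eq, Subgroup.mem_subgroupOf] at h
    apply hne
    have h2 := hinvC l.castSucc a (hQC (hAQ _ ha)) _ h
    simpa [mul_assoc] using h2
  obtain ⟨i, j, hij, hi, hj, -⟩ := htwo
  have h81 : ∏ l, n l = 81 := by rw [hQcard] at hprod; omega
  have hall : ∀ l, n l = 9 := by
    have hsplit : ∏ l, n l = n i * n j * ∏ l ∈ (Finset.univ.erase i).erase j, n l := by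
      rw [mul_assoc, Finset.mul_prod_erase _ _ (Finset.mem_erase.2 ⟨hij.symm, Finset.mem_univ _⟩),
        Finset.mul_prod_erase _ _ (Finset.mem_univ i)]
    have hpos : 1 ≤ ∏ l ∈ (Finset.univ.erase i).erase j, n l :=
      Finset.one_le_prod' fun l _ => le_trans (by norm_num) (hn l)
    have h1 := hbig i hi
    have h2 := hbig j hj
    have hij81 : n i * n j ≤ 81 := by
      rw [← h81, hsplit]; exact Nat.le_mul_of_pos_right _ hpos
    have hni : n i = 9 := by nlinarith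
    have hnj : n j = 9 := by nlinarith
    intro l
    rcases eq_or_ne l i with rfl | hli
    · exact hni
    rcases eq_or_ne l j with rfl | hlj
    · exact hnj
    exfalso
    have : n l ≤ ∏ m ∈ (Finset.univ.erase i).erase j, n m :=
      Finset.single_le_prod' (f := n) (fun m _ => le_trans (by norm_num) (hn m))
        (Finset.mem_erase.2 ⟨hlj, Finset.mem_erase.2 ⟨hli, Finset.mem_univ _⟩⟩)
    have := hn l
    rw [hsplit, hni, hnj] at h81
    omega
  -- `-1` inverts each factor, hence `Q` modulo the centre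
  have hfacinv : ∀ l : Fin r, ∀ c : C, π₀ c = -1 → ∀ x ∈ A l.succ,
      (c : G) * x * (c : G)⁻¹ * x ∈ A l.castSucc := by
    intro l c hc x hx
    haveI := hnorm l
    letI : CommGroup (↥(A l.succ) ⧸ (A l.castSucc).subgroupOf (A l.succ)) :=
      { (inferInstance : Group (↥(A l.succ) ⧸ (A l.castSucc).subgroupOf (A l.succ))) with mul_comm := hfac l }
    obtain ⟨σ, hσ⟩ := hact l
    have hcard : Nat.card (↥(A l.succ) ⧸ (A l.castSucc).subgroupOf (A l.succ)) = 9 := hall l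
    have h3 : ∀ q : ↥(A l.succ) ⧸ (A l.castSucc).subgroupOf (A l.succ), q ^ 3 = 1 := fun q => by
      obtain ⟨a, rfl⟩ := QuotientGroup.mk_surjective q
      rw [← QuotientGroup.mk_pow, show a ^ 3 = 1 from Subtype.ext (by simpa using hQexp _ (hAQ _ a.2)),
        QuotientGroup.mk_one]
    have hirr : ∀ B : Subgroup (↥(A l.succ) ⧸ (A l.castSucc).subgroupOf (A l.succ)),
        (∀ g, ∀ q ∈ B, σ g q ∈ B) → B = ⊥ ∨ B = ⊤ := by
      intro B hB
      by_contra hne
      push Not at hne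
      set B' := (B.comap (QuotientGroup.mk' _)).map (A l.succ).subtype
      have hlo : A l.castSucc < B' := by
        refine lt_of_le_of_ne (fun a ha => ⟨⟨a, (hmono l).le ha⟩, ?_, rfl⟩) fun h => hne.1 ?_
        · show QuotientGroup.mk' _ _ ∈ B
          rw [QuotientGroup.mk'_apply, (QuotientGroup.eq_one_iff _).2 (Subgroup.mem_subgroupOf.2 ha)]
          exact one_mem B
        · refine (Subgroup.eq_bot_iff_forall _).2 fun q hq => ?_
          obtain ⟨a, rfl⟩ := QuotientGroup.mk_surjective q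
          rw [QuotientGroup.eq_one_iff, Subgroup.mem_subgroupOf, h]
          exact ⟨a, hq, rfl⟩
      have hhi : B' < A l.succ := by
        refine lt_of_le_of_ne (Subgroup.map_subtype_le _) fun h => hne.2 (eq_top_iff.2 fun q _ => ?_)
        obtain ⟨a, rfl⟩ := QuotientGroup.mk_surjective q
        obtain ⟨b, hb, hba⟩ : (a : G) ∈ B' := h.symm ▸ a.2
        rw [← show b = a from Subtype.ext hba]
        exact hb
      obtain ⟨k, hk, b, hb, hkb⟩ := hmax l B' hlo hhi
      obtain ⟨b', hb', rfl⟩ := hb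
      have hkC : k ∈ C := by
        rw [hK] at hk
        obtain ⟨c, -, rfl⟩ := hk
        exact c.2
      refine hkb ⟨⟨k * b'.1 * k⁻¹, hinvC _ k hkC b'.1 b'.2⟩, ?_, rfl⟩
      show QuotientGroup.mk' _ _ ∈ B
      rw [QuotientGroup.mk'_apply, ← hσ ⟨k, hkC⟩ b' (hinvC _ k hkC b'.1 b'.2)]
      exact hB _ _ hb'
    have hcx : (c : G) * x * (c : G)⁻¹ ∈ A l.succ := hinvC _ c c.2 x hx
    have h := Derive.neg_inverts hcard h3 σ hirr ((⟨x, hx⟩ : A l.succ) : ↥(A l.succ) ⧸ (A l.castSucc).subgroupOf (A l.succ))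
    rw [← hc, hσ c ⟨x, hx⟩ hcx, ← QuotientGroup.mk_mul, QuotientGroup.eq_one_iff,
      Subgroup.mem_subgroupOf] at h
    exact h
  have hneg : ∀ c : C, π₀ c = -1 → ∀ q ∈ Q, (c : G) * q * (c : G)⁻¹ * q ∈ Z := by
    intro c hc
    have hc2 : (c : G) * c ∈ Q := by
      refine (hker₀ (c * c)).1 ?_
      rw [map_mul, hc]
      decide +kernel
    suffices h : ∀ i : Fin (r + 1), ∀ q ∈ A i, (c : G) * q * (c : G)⁻¹ * q ∈ Z from
      fun q hq => h (Fin.last r) q (hAr.symm ▸ hq)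
    intro i
    induction i using Fin.induction with
    | zero =>
      intro q hq
      rw [hA0] at hq
      have hcz : (c : G) ∈ Subgroup.centralizer (Z : Set G) := hCZ ▸ c.2
      rw [← Subgroup.mem_centralizer_iff.1 hcz q hq, mul_inv_cancel_right]
      exact Z.mul_mem hq hq
    | succ l ih =>
      intro q hq
      set a := (c : G) * q * (c : G)⁻¹ * q
      have ha : a ∈ A l.castSucc := hfacinv l c hc q hq
      have hw := ih a ha
      have haQ : a ∈ Q := hAQ _ ha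
      have hqQ : q ∈ Q := hAQ _ hq
      set w := (c : G) * a * (c : G)⁻¹ * a
      have h1 : (c : G) * c * q * ((c : G) * c)⁻¹ * q⁻¹ ∈ Z := hcommQ _ hc2 _ hqQ
      have h2 : (c : G) * c * q * ((c : G) * c)⁻¹ * q⁻¹ = w * (a⁻¹ * q * a⁻¹ * q⁻¹) := by
        simp only [a, w]; group
      rw [h2] at h1
      have h3 : a⁻¹ * q * a⁻¹ * q⁻¹ ∈ Z := by
        simpa using Z.mul_mem (Z.inv_mem hw) h1
      have h4 : a * q * a⁻¹ * q⁻¹ ∈ Z := hcommQ _ haQ _ hqQ
      have h5 : a⁻¹ * a⁻¹ ∈ Z := by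
        have := Z.mul_mem h3 (Z.inv_mem h4)
        rwa [show a⁻¹ * q * a⁻¹ * q⁻¹ * (a * q * a⁻¹ * q⁻¹)⁻¹ = a⁻¹ * a⁻¹ by group] at this
      have h6 : a⁻¹ * a⁻¹ = a := by
        have h := hQexp a haQ
        calc a⁻¹ * a⁻¹ = a⁻¹ * a⁻¹ * a ^ 3 := by rw [h, mul_one]
          _ = a := by group
      rwa [h6] at h5
  -- orders
  have hCcard : Nat.card C = 5832 := by
    have h := Subgroup.card_eq_card_quotient_mul_card_subgroup (Cfsg.pCore 3 C)
    have h24 : Nat.card S2 = 24 := by rw [Nat.card_eq_fintype_card]; decide +kernel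
    have hcore : Nat.card (Cfsg.pCore 3 C) = 3 ^ 5 := by
      rw [← hQcard, hQ, Subgroup.card_map_of_injective C.subtype_injective]
    rw [Nat.card_congr e.toEquiv, hcore] at h
    rw [h]
    show Nat.card S2 * 3 ^ 5 = 5832
    rw [h24]; norm_num
  have hSC : (S : Subgroup G) ≤ C := fun s hs => by
    rw [hCZ, Subgroup.mem_centralizer_iff]
    intro x hx
    rw [SetLike.mem_coe, hZ] at hx
    exact (Subgroup.mem_centralizer_iff.1 hx.2 s hs).symm
  refine ⟨z, π, hZz, ⟨hord, hsurj₀.comp ι.surjective, fun c => hker₀ (ι c), hcent ▸ hQC,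
    hZle hzZ, by rw [hQcard]; norm_num, hQexp, fun a ha b hb => hZz ▸ hcommQ a ha b hb,
    fun a ha h => hZz ▸ hcenQ a ha h, fun c hc q hq => hZz ▸ hneg (ι c) hc q hq⟩, fun h7 => ?_, ?_⟩
  · have h1 : 3 ^ 7 ∣ Nat.card (S : Subgroup G) := by
      rw [Sylow.card_eq_multiplicity]
      exact pow_dvd_pow 3 ((Nat.Prime.pow_dvd_iff_le_factorization Nat.prime_three Nat.card_pos.ne').1 h7)
    have h2 := h1.trans (Subgroup.card_dvd_of_le hSC)
    rw [hCcard] at h2
    norm_num at h2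
  · obtain ⟨x, hx, hne⟩ := hZQ
    refine ⟨x, hx ⟨z, hzZ, rfl⟩, fun h => hne ?_⟩
    refine Subgroup.eq_of_le_of_card_ge ?_ ?_
    · rw [Subgroup.map_le_iff_le_comap]
      intro w hw
      rw [hZz] at hw
      exact (Subgroup.zpowers_le.2 (show z ∈ Z.comap (MulAut.conj x).toMonoidHom by
        show x * z * x⁻¹ ∈ Z
        rw [hZz]; exact h)) hw
    · rw [Subgroup.card_map_of_injective (MulAut.conj x).injective]

end CfsgLib.LFourThree
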