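import Cfsg.Agent.Lib.LFourThree.Pair

/-!
The meet of two radicals is a natural module: the frame.
-/

set_option autoImplicit false
set_option linter.style.haveILetI false
set_option linter.unusedSectionVars false

namespace CfsgLib.LFourThree

variable {G : Type*} [Group G] [Finite G]

theorem mem_norm {E : Subgroup G} {g : G} (h : ∀ e ∈ E, g * e * g⁻¹ ∈ E) :
    g ∈ Subgroup.normalizer (E : Set G) := by
  rw [Subgroup.mem_normalizer_iff_map_conj_eq]
  refine Subgroup.eq_of_le_of_card_ge ?_ ?_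
  · rintro _ ⟨e, he, rfl⟩
    simpa using h e he
  · rw [Subgroup.card_map_of_injective (MulEquiv.injective _)]

theorem closure_comm {S : Set G} (h : ∀ a ∈ S, ∀ b ∈ S, a * b = b * a) :
    ∀ a ∈ Subgroup.closure S, ∀ b ∈ Subgroup.closure S, a * b = b * a := by
  haveI := Subgroup.isMulCommutative_closure h
  intro a ha b hb
  exact congrArg Subtype.val (mul_comm' (⟨a, ha⟩ : Subgroup.closure S) ⟨b, hb⟩)

namespace Local

variable {z : G} {Q : Subgroup G} {π : Subgroup.centralizer ({z} : Set G) →* S2} (L : Local z Q π)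
include L

/-- An element which fixes the centre normalises the centraliser and its radical. -/
theorem nor_of_conj {g : G} (hg : g * z * g⁻¹ ∈ Subgroup.zpowers z) :
    Nor z Q g ∧ ∀ c ∈ Subgroup.centralizer ({z} : Set G), g * c * g⁻¹ ∈ Subgroup.centralizer ({z} : Set G) := by
  have hgen : z ∈ Subgroup.zpowers (g * z * g⁻¹) := L.zpow_gen hg fun h => L.z_ne (conj_eq_one_iff.1 h)
  have hC : ∀ c ∈ Subgroup.centralizer ({z} : Set G), g * c * g⁻¹ ∈ Subgroup.centralizer ({z} : Set G) := by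
    intro c hc
    obtain ⟨n, hn⟩ := Subgroup.mem_zpowers_iff.1 hgen
    have hcom : Commute (g * c * g⁻¹) (g * z * g⁻¹) := by
      have h := mem_cz.1 hc
      show _ = _
      calc g * c * g⁻¹ * (g * z * g⁻¹) = g * (c * z) * g⁻¹ := by group
        _ = g * (z * c) * g⁻¹ := by rw [h]
        _ = _ := by group
    rw [mem_cz]
    have h := (hcom.zpow_right n).eq
    rwa [hn] at h
  have hC' : ∀ c ∈ Subgroup.centralizer ({z} : Set G), g⁻¹ * c * g ∈ Subgroup.centralizer ({z} : Set G) := by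
    intro c hc
    rw [mem_cz]
    have h := L.z_comm hc hg
    calc g⁻¹ * c * g * z = g⁻¹ * (c * (g * z * g⁻¹)) * g := by group
      _ = g⁻¹ * ((g * z * g⁻¹) * c) * g := by rw [h]
      _ = _ := by group
  refine ⟨⟨fun q hq => ?_, hg⟩, hC⟩
  refine L.normal_le (N := Q.map (MulAut.conj g).toMonoidHom) ?_ ((IsPGroup.of_card (n := 5) (by rw [L.card]; norm_num)).map _)
    ?_ ⟨q, hq, rfl⟩
  · rintro _ ⟨a, ha, rfl⟩
    exact hC a (L.le ha)
  · rintro c hc _ ⟨a, ha, rfl⟩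
    refine ⟨_, L.conj_mem (hC' c hc) ha, ?_⟩
    simp [mul_assoc]

/-- The radical moves a noncentral element by the generator. -/
theorem exists_move {w : G} (hw : w ∈ Q) (hwz : w ∉ Subgroup.zpowers z) : ∃ q ∈ Q, q * w * q⁻¹ = z * w := by
  obtain ⟨b, hb, hne⟩ : ∃ b ∈ Q, w * b ≠ b * w := by
    by_contra h
    push Not at h
    exact hwz (L.center w hw h)
  obtain ⟨i, hi⟩ := L.exists_pow (L.comm b hb w hw)
  have e1 : b * w * b⁻¹ = z ^ i * w := by rw [hi]; group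
  have h3 : i % 3 = 1 ∨ i % 3 = 2 := by
    have : i % 3 ≠ 0 := fun h0 => hne (by
      rw [← mul_one (z ^ i), show z ^ i = z ^ 0 from L.pow_eq_iff.2 h0, pow_zero, one_mul] at hi
      rw [eq_comm, mul_inv_eq_one, mul_inv_eq_iff_eq_mul] at hi
      exact hi.symm)
    omega
  rcases h3 with h | h
  · refine ⟨b, hb, ?_⟩
    rw [e1, (L.pow_eq_iff (j := 1)).2 (by omega), pow_one]
  · refine ⟨b * b, Q.mul_mem hb hb, ?_⟩
    rw [show b * b * w * (b * b)⁻¹ = b * (b * w * b⁻¹) * b⁻¹ by group, e1,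
      show b * (z ^ i * w) * b⁻¹ = (b * z ^ i * b⁻¹) * (b * w * b⁻¹) by group,
      L.conj_sub hb (Subgroup.pow_mem _ (Subgroup.mem_zpowers z) i), e1, ← mul_assoc, ← pow_add,
      (L.pow_eq_iff (j := 1)).2 (by omega), pow_one]

theorem rho_conj {g : G} (hg : Nor z Q g)
    (hC : ∀ c ∈ Subgroup.centralizer ({z} : Set G), g * c * g⁻¹ ∈ Subgroup.centralizer ({z} : Set G))
    (c : Subgroup.centralizer ({z} : Set G)) :
    haveI := L.zq_normal
    ∀ v : Mod z Q, conjM hg (L.rho (π c) v) = L.rho (π ⟨g * c * g⁻¹, hC c c.2⟩) (conjM hg v) := by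
  haveI := L.zq_normal
  intro v
  obtain ⟨q, rfl⟩ := cls_surj v
  rw [L.rho_cls, conjM_cls, conjM_cls, L.rho_cls]
  congr 1
  exact Subtype.ext (by simp [mul_assoc])

end Local

namespace Pair

variable {z w s : G} {Q Q' : Subgroup G} {π : Subgroup.centralizer ({z} : Set G) →* S2}
  {π' : Subgroup.centralizer ({w} : Set G) →* S2} (P : Pair z w s Q Q' π π')
include P

theorem w_mem : w ∈ Q ⊓ Q' := ⟨P.hw, P.L'.zmem⟩

theorem z_mem : z ∈ Q ⊓ Q' := ⟨P.L.zmem, P.hz⟩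

theorem s_cz : s * z = z * s := mem_cz.1 P.hs

theorem s_w : s * w = w * s := mem_cz.1 (P.L'.le P.hs')

theorem s_notMem : s ∉ Q := fun h => by
  have h1 := (P.L.ker ⟨s, P.hs⟩).2 h
  rw [P.pis] at h1
  exact absurd h1 (by decide +kernel)

theorem q_norm : Q ≤ Subgroup.normalizer ((Q ⊓ Q' : Subgroup G) : Set G) := fun q hq => mem_norm fun e he => by
  have h := (Subgroup.zpowers_le.2 P.z_mem) (P.L.comm q hq e he.1)
  have := (Q ⊓ Q').mul_mem h he
  rwa [inv_mul_cancel_right] at this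

theorem q'_norm : Q' ≤ Subgroup.normalizer ((Q ⊓ Q' : Subgroup G) : Set G) := fun q hq => mem_norm fun e he => by
  have h := (Subgroup.zpowers_le.2 P.w_mem) (P.L'.comm q hq e he.2)
  have := (Q ⊓ Q').mul_mem h he
  rwa [inv_mul_cancel_right] at this

theorem exists_y : ∃ y ∈ Q ⊓ Q', s * y ≠ y * s := by
  by_contra h
  push Not at h
  set B := Subgroup.closure (insert s ((Q ⊓ Q' : Subgroup G) : Set G)) with hB
  have hle : B ≤ Q' := (Subgroup.closure_le _).2 (Set.insert_subset P.hs' fun e he => he.2)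
  have hab := closure_comm (S := insert s ((Q ⊓ Q' : Subgroup G) : Set G)) (by
    rintro a (rfl | ha) b (rfl | hb)
    · rfl
    · exact h b hb
    · exact (h a ha).symm
    · exact P.abel a ha b hb)
  have h1 := P.L'.abelian_le hle hab
  have hlt : Q ⊓ Q' < B := SetLike.lt_iff_le_and_exists.2
    ⟨fun e he => Subgroup.subset_closure (Set.mem_insert_of_mem _ he), s, Subgroup.subset_closure (Set.mem_insert _ _),
      fun hs => P.s_notMem hs.1⟩
  have := Subgroup.card_le_of_le hlt.le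
  rw [P.card] at this
  exact hlt.ne (Subgroup.eq_of_le_of_card_ge hlt.le (by rw [P.card]; exact h1))

/-- The inverting element and the third basis vector. -/
theorem exists_h : ∃ h, h ∈ Subgroup.normalizer ((Q ⊓ Q' : Subgroup G) : Set G) ∧ h * z * h⁻¹ = z⁻¹ ∧
    h * w * h⁻¹ = w⁻¹ ∧ ∃ y ∈ Q ⊓ Q', s * y ≠ y * s ∧ ∃ i : ℕ, h * y * h⁻¹ = z ^ i * y := by
  obtain ⟨y, hy, hsy⟩ := P.exists_y
  obtain ⟨q, hq, hqw⟩ := P.L.exists_move P.hw P.hwz
  obtain ⟨q', hq', hqz⟩ := P.L'.exists_move P.hz P.hzw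
  have hqz1 : q * z * q⁻¹ = z := P.L.conj_sub hq (Subgroup.mem_zpowers z)
  have hqw1 : q' * w * q'⁻¹ = w := P.L'.conj_sub hq' (Subgroup.mem_zpowers w)
  set r := q' * q' with hr
  have hrw : r * w * r⁻¹ = w := P.L'.conj_sub (Q'.mul_mem hq' hq') (Subgroup.mem_zpowers w)
  have hrz : r * z * r⁻¹ = w * (w * z) := by
    rw [hr, show q' * q' * z * (q' * q')⁻¹ = q' * (q' * z * q'⁻¹) * q'⁻¹ by group, hqz,
      show q' * (w * z) * q'⁻¹ = (q' * w * q'⁻¹) * (q' * z * q'⁻¹) by group, hqw1, hqz]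
  have hw3 : w * w * w = 1 := by
    have := P.L'.z_cube
    rwa [pow_succ, pow_two] at this
  have hwi : w⁻¹ = w * w := inv_eq_of_mul_eq_one_left hw3
  have hrz' : r * z * r⁻¹ = w⁻¹ * z := by rw [hrz, hwi, mul_assoc]
  have czw : Commute z w := P.abel z P.z_mem w P.w_mem
  set t := q * r * q with ht
  have htz : t * z * t⁻¹ = w⁻¹ := by
    rw [ht, show q * r * q * z * (q * r * q)⁻¹ = q * (r * (q * z * q⁻¹) * r⁻¹) * q⁻¹ by group, hqz1, hrz',
      show q * (w⁻¹ * z) * q⁻¹ = (q * w * q⁻¹)⁻¹ * (q * z * q⁻¹) by group, hqw, hqz1, mul_inv_rev]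
    group
  have htw : t * w * t⁻¹ = z := by
    rw [ht, show q * r * q * w * (q * r * q)⁻¹ = q * (r * (q * w * q⁻¹) * r⁻¹) * q⁻¹ by group, hqw,
      show r * (z * w) * r⁻¹ = (r * z * r⁻¹) * (r * w * r⁻¹) by group, hrz', hrw,
      show w⁻¹ * z * w = z by rw [mul_assoc, czw.eq, inv_mul_cancel_left], hqz1]
  have hrQ : r ∈ Q' := Q'.mul_mem hq' hq'
  have htN : t ∈ Subgroup.normalizer ((Q ⊓ Q' : Subgroup G) : Set G) :=
    Subgroup.mul_mem _ (Subgroup.mul_mem _ (P.q_norm hq) (P.q'_norm hrQ)) (P.q_norm hq)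
  have hstep_q : ∀ x, (∃ i j : ℕ, x = z ^ i * w ^ j * y) → ∃ i j : ℕ, q * x * q⁻¹ = z ^ i * w ^ j * y := by
    rintro x ⟨i, j, rfl⟩
    obtain ⟨a, ha⟩ := P.L.exists_pow (P.L.comm q hq y hy.1)
    refine ⟨i + j + a, j, ?_⟩
    rw [show q * (z ^ i * w ^ j * y) * q⁻¹ = (q * z * q⁻¹) ^ i * (q * w * q⁻¹) ^ j * (q * y * q⁻¹) by
        rw [conj_pow, conj_pow]; group,
      hqz1, hqw, czw.mul_pow, show q * y * q⁻¹ = z ^ a * y by rw [ha]; group, pow_add, pow_add,
      show z ^ i * (z ^ j * w ^ j) * (z ^ a * y) = z ^ i * z ^ j * (w ^ j * z ^ a) * y by group,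
      ((czw.symm.pow_left j).pow_right a).eq]
    group
  have hstep_r : ∀ x, (∃ i j : ℕ, x = z ^ i * w ^ j * y) → ∃ i j : ℕ, r * x * r⁻¹ = z ^ i * w ^ j * y := by
    rintro x ⟨i, j, rfl⟩
    obtain ⟨b, hb⟩ := P.L'.exists_pow (P.L'.comm r hrQ y hy.2)
    refine ⟨i, 2 * i + j + b, ?_⟩
    rw [show r * (z ^ i * w ^ j * y) * r⁻¹ = (r * z * r⁻¹) ^ i * (r * w * r⁻¹) ^ j * (r * y * r⁻¹) by
        rw [conj_pow, conj_pow]; group,
      hrz', hrw, hwi, ((czw.symm.mul_left czw.symm) : Commute (w * w) z).mul_pow,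
      show r * y * r⁻¹ = w ^ b * y by rw [hb]; group, show (w * w) ^ i = w ^ (2 * i) by rw [pow_mul, pow_two],
      pow_add, pow_add, ((czw.symm.pow_left (2 * i)).pow_right i).eq]
    group
  obtain ⟨i, j, hij⟩ : ∃ i j : ℕ, (t * t) * y * (t * t)⁻¹ = z ^ i * w ^ j * y := by
    have hst : ∀ x, (∃ i j : ℕ, x = z ^ i * w ^ j * y) → ∃ i j : ℕ, t * x * t⁻¹ = z ^ i * w ^ j * y := fun x hx => by
      have := hstep_q _ (hstep_r _ (hstep_q x hx))
      rwa [show t * x * t⁻¹ = q * (r * (q * x * q⁻¹) * r⁻¹) * q⁻¹ by rw [ht]; group]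
    have := hst _ (hst y ⟨0, 0, by simp⟩)
    rwa [show t * t * y * (t * t)⁻¹ = t * (t * y * t⁻¹) * t⁻¹ by group]
  have hhw : (t * t) * w * (t * t)⁻¹ = w⁻¹ := by
    rw [show t * t * w * (t * t)⁻¹ = t * (t * w * t⁻¹) * t⁻¹ by group, htw, htz]
  refine ⟨t * t, Subgroup.mul_mem _ htN htN, ?_, hhw, y * w ^ (2 * j), ?_, ?_, i, ?_⟩
  · rw [show t * t * z * (t * t)⁻¹ = t * (t * z * t⁻¹) * t⁻¹ by group, htz,
      show t * w⁻¹ * t⁻¹ = (t * w * t⁻¹)⁻¹ by group, htw]
  · exact mul_mem hy (pow_mem P.w_mem _)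
  · intro e
    apply hsy
    have e' : s * y * w ^ (2 * j) = y * s * w ^ (2 * j) := by
      rw [mul_assoc, e, mul_assoc, ← ((show Commute s w from P.s_w).pow_right (2 * j)).eq, mul_assoc]
    exact mul_right_cancel e'
  · have hwy : Commute w y := P.abel w P.w_mem y hy
    rw [show t * t * (y * w ^ (2 * j)) * (t * t)⁻¹ =
        (t * t * y * (t * t)⁻¹) * (t * t * w * (t * t)⁻¹) ^ (2 * j) by rw [conj_pow]; group,
      hij, hhw, mul_assoc, mul_assoc, inv_pow]
    congr 1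
    rw [← mul_assoc, (hwy.pow_left j).eq, mul_assoc]
    congr 1
    rw [mul_inv_eq_iff_eq_mul, ← pow_add, (P.L'.pow_eq_iff).2 (show j % 3 = (2 * j + 2 * j) % 3 by omega)]

/-- The frame: the third vector is in the span of the second and its image. -/
theorem frame : haveI := P.L.zq_normal; letI := P.L.addCommGroup
    ∃ y : Q, (y : G) ∈ Q ⊓ Q' ∧ s * (y : G) ≠ (y : G) * s ∧
      P.L.formB (cls ⟨w, P.hw⟩) (P.L.rho sE (cls ⟨w, P.hw⟩)) = 0 ∧
      ∃ i j : Fin 3, j ≠ 0 ∧ cls (z := z) y = i.val • cls ⟨w, P.hw⟩ + j.val • P.L.rho sE (cls ⟨w, P.hw⟩) := by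
  haveI := P.L.zq_normal
  letI := P.L.addCommGroup
  obtain ⟨h, -, hhz, hhw, y, hy, hsy, i, hiy⟩ := P.exists_h
  refine ⟨⟨y, hy.1⟩, hy, hsy, ?_⟩
  have hnor := P.L.nor_of_conj (g := h) (by rw [hhz]; exact inv_mem (Subgroup.mem_zpowers z))
  have hnor' := P.L'.nor_of_conj (g := h) (by rw [hhw]; exact inv_mem (Subgroup.mem_zpowers w))
  have hwp : P.L.rho pE (cls ⟨w, P.hw⟩) = cls ⟨w, P.hw⟩ := by
    rw [← P.pis, P.L.rho_cls]
    congr 1
    exact Subtype.ext (by show s * w * s⁻¹ = w; rw [P.s_w, mul_inv_cancel_right])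
  have hw0 : cls (z := z) (⟨w, P.hw⟩ : Q) ≠ 0 := fun e => P.hwz (cls_eq_zero_iff.1 e)
  have hY : P.L.rho pE (cls ⟨y, hy.1⟩) - cls ⟨y, hy.1⟩ = cls ⟨w, P.hw⟩ ∨
      P.L.rho pE (cls ⟨y, hy.1⟩) - cls ⟨y, hy.1⟩ = -cls ⟨w, P.hw⟩ := by
    obtain ⟨k, hk⟩ := P.L'.exists_pow (P.L'.comm s P.hs' y hy.2)
    have e : P.L.rho pE (cls ⟨y, hy.1⟩) = k • cls ⟨w, P.hw⟩ + cls ⟨y, hy.1⟩ := by
      rw [← P.pis, P.L.rho_cls, ← cls_pow, ← cls_mul]
      congr 1
      exact Subtype.ext (by show s * y * s⁻¹ = w ^ k * y; rw [hk]; group)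
    have h3 : k % 3 = 1 ∨ k % 3 = 2 := by
      have : k % 3 ≠ 0 := fun h0 => hsy (by
        rw [show w ^ k = w ^ 0 from P.L'.pow_eq_iff.2 h0, pow_zero, eq_comm, mul_inv_eq_one, mul_inv_eq_iff_eq_mul] at hk
        exact hk)
      omega
    rw [e, add_sub_cancel_right, P.L.symp.nsmul_mod k]
    rcases h3 with h3 | h3 <;> rw [h3]
    · exact Or.inl (one_nsmul _)
    · right
      rw [eq_neg_iff_add_eq_zero, two_nsmul]
      exact P.L.symp.three _
  refine P.L.symp.plane hwp hw0 hY ?_ (conjM hnor.1) (fun u v => ?_) ?_ ?_ (fun v => ?_) ?_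
  · rw [P.L.formB_cls, P.L.beta_eq_zero]
    exact P.abel w P.w_mem y hy
  · obtain ⟨a, rfl⟩ := cls_surj u
    obtain ⟨b, rfl⟩ := cls_surj v
    rw [conjM_cls, conjM_cls, P.L.formB_cls, P.L.formB_cls, P.L.conjM_neg hnor.1 hhz]
  · rw [conjM_cls, ← cls_inv]
    congr 1
    exact Subtype.ext hhw
  · rw [conjM_cls, cls_eq_iff]
    show (h * y * h⁻¹)⁻¹ * y ∈ _
    rw [hiy, show (z ^ i * y)⁻¹ * y = y⁻¹ * (z ^ i)⁻¹ * y by group, mul_assoc,
      ← P.L.q_comm hy.1 (inv_mem (pow_mem (Subgroup.mem_zpowers z) i)), inv_mul_cancel_left]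
    exact inv_mem (pow_mem (Subgroup.mem_zpowers z) i)
  · have hε : P.L.rho (π ⟨h * s * h⁻¹, hnor.2 s P.hs⟩) = P.L.rho (pE * pE) := by
      congr 1
      have hmem : h * s * h⁻¹ ∈ Q' := hnor'.1.1 s P.hs'
      have hnot : π ⟨h * s * h⁻¹, hnor.2 s P.hs⟩ ≠ 1 := fun e => by
        have hin : h * s * h⁻¹ ∈ Q := (P.L.ker _).1 e
        have := P.L.nor_of_conj (g := h⁻¹) (by
          rw [inv_inv, show h⁻¹ * z * h = z⁻¹ by
            rw [eq_inv_iff_mul_eq_one, show h⁻¹ * z * h * z = h⁻¹ * (z * (h * z * h⁻¹)) * h by group, hhz,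
              mul_inv_cancel, mul_one, inv_mul_cancel]]
          exact inv_mem (Subgroup.mem_zpowers z))
        exact P.s_notMem (by simpa [mul_assoc] using this.1.1 _ hin)
      set c : Subgroup.centralizer ({z} : Set G) := ⟨h * s * h⁻¹, hnor.2 s P.hs⟩
      set d : Subgroup.centralizer ({z} : Set G) := ⟨s, P.hs⟩
      have cube : ∀ e : Subgroup.centralizer ({z} : Set G), (e : G) ∈ Q' → π e ^ 3 = 1 := fun e he => by
        rw [← map_pow, show e ^ 3 = 1 from Subtype.ext (P.L'.exp _ he), map_one]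
      obtain ⟨-, hc⟩ := s2_three_comm (π d) (π c) (cube d P.hs') (cube c hmem)
        (by rw [← map_mul]; exact cube _ (mul_mem P.hs' hmem))
        (by rw [← map_mul, ← map_mul]; exact cube _ (mul_mem (mul_mem P.hs' hmem) hmem))
      rw [show π d = pE from P.pis] at hc
      rcases hc with e | e | e | e
      · exact absurd e (by decide +kernel)
      · exact absurd e hnot
      · exfalso
        have e1 := P.L.rho_conj hnor.1 hnor.2 d (cls ⟨y, hy.1⟩)
        rw [show π ⟨h * (d : G) * h⁻¹, hnor.2 d d.2⟩ = pE from e, show π d = pE from P.pis] at e1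
        have hfix : conjM hnor.1 (cls ⟨y, hy.1⟩) = cls (z := z) (⟨y, hy.1⟩ : Q) := by
          rw [conjM_cls, cls_eq_iff]
          show (h * y * h⁻¹)⁻¹ * y ∈ _
          rw [hiy, show (z ^ i * y)⁻¹ * y = y⁻¹ * (z ^ i)⁻¹ * y by group, mul_assoc,
            ← P.L.q_comm hy.1 (inv_mem (pow_mem (Subgroup.mem_zpowers z) i)), inv_mul_cancel_left]
          exact inv_mem (pow_mem (Subgroup.mem_zpowers z) i)
        have hwneg : conjM hnor.1 (cls ⟨w, P.hw⟩) = -cls (z := z) (⟨w, P.hw⟩ : Q) := by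
          rw [conjM_cls, ← cls_inv]
          congr 1
          exact Subtype.ext hhw
        apply hw0
        rw [hfix] at e1
        rcases hY with e2 | e2
        all_goals
          rw [sub_eq_iff_eq_add] at e2
          rw [e2, map_add, hfix] at e1
          simp only [map_neg, hwneg, neg_neg, add_left_inj] at e1
          first
            | exact P.L.symp.eq_zero_of_neg e1
            | exact P.L.symp.eq_zero_of_neg e1.symm
      · exact e
    rw [← P.pis, P.L.rho_conj hnor.1 hnor.2, hε, P.pis]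
    exact P.L.symp.mul pE pE _
  · obtain ⟨c, hc⟩ := P.L.surj qE
    exact ⟨_, fun v => by rw [← hc]; exact P.L.rho_conj hnor.1 hnor.2 c v⟩

end Pair

end CfsgLib.LFourThree
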