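import Mathlib
import Cfsg.Agent.Lib.LFourThree.InvCentCore
import Cfsg.Agent.Lib.LFourThree.Blocks

/-!
The centraliser of the image of `diag (1,-1,-1,1)` in `PSL(4,3)` is not strongly 3-embedded in a
larger group in which this image stays central.
-/

set_option autoImplicit false
set_option maxRecDepth 100000
set_option synthInstance.maxSize 2000

namespace CfsgLib.LFourThree

open Count Blocks

namespace Psl

/-- The centraliser. -/
abbrev CP : Type := ↥(Subgroup.centralizer ({mk dmat} : Set PL4))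

/-- `x` represents `g`. -/
def Rep (g : CP) (x : Blk) : Prop := ∃ h : SL4, mk h = g.1 ∧ h.1 = toM x ∧ Ok x

theorem exists_rep (g : CP) : ∃ x, Rep g x := by
  obtain ⟨h, e⟩ := mk_surjective g.1
  have hc : Commute (mk h) (mk dmat) := e ▸ Subgroup.mem_centralizer_singleton_iff.1 g.2
  obtain ⟨x, hx, hm⟩ := exists_blk hc
  exact ⟨x, h, e, hm.symm, hx⟩

/-- A representative. -/
noncomputable def rep (g : CP) : Blk := (exists_rep g).choose

theorem rep_spec (g : CP) : Rep g (rep g) := (exists_rep g).choose_spec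

theorem Rep.ok {g : CP} {x : Blk} (h : Rep g x) : Ok x := h.choose_spec.2.2

/-- `-1`. -/
def negOne : SL4 := ⟨-1, by decide +kernel⟩

theorem neg_one_mem : negOne ∈ Subgroup.center SL4 := by
  rw [Subgroup.mem_center_iff]
  intro g
  refine Subtype.ext ?_
  rw [Matrix.SpecialLinearGroup.coe_mul, Matrix.SpecialLinearGroup.coe_mul]
  simp [negOne]

theorem rep_unique {g g' : CP} {x y : Blk} (h : Rep g x) (h' : Rep g' y) :
    g = g' ↔ x = y ∨ x = bneg y := by
  obtain ⟨a, ha, ha', hx⟩ := h
  obtain ⟨b, hb, hb', hy⟩ := h'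
  rw [Subtype.ext_iff, ← ha, ← hb]
  constructor
  · intro e
    have h1 : mk (b⁻¹ * a) = 1 := by rw [map_mul, map_inv, e, inv_mul_cancel]
    have key : a.1 = b.1 * (b⁻¹ * a).1 := by
      rw [← Matrix.SpecialLinearGroup.coe_mul, mul_inv_cancel_left]
    rcases center_cases (mk_eq_one.1 h1) with h2 | h2 <;> rw [h2, ha', hb'] at key
    · exact Or.inl (toM_inj hx hy (by simpa using key))
    · exact Or.inr (toM_inj hx hy.neg (by rw [toM_bneg]; simpa using key))
  · rintro (rfl | rfl)
    · rw [show a = b from Subtype.ext (ha'.trans hb'.symm)]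
    · rw [show a = b * negOne from Subtype.ext (by
        rw [ha', toM_bneg, Matrix.SpecialLinearGroup.coe_mul, hb']; simp [negOne]), map_mul,
        mk_eq_one.2 neg_one_mem, mul_one]

theorem Rep.mul {g g' : CP} {x y : Blk} (h : Rep g x) (h' : Rep g' y) : Rep (g * g') (bmul x y) := by
  obtain ⟨a, ha, ha', hx⟩ := h
  obtain ⟨b, hb, hb', hy⟩ := h'
  exact ⟨a * b, by rw [map_mul, ha, hb]; rfl,
    by rw [Matrix.SpecialLinearGroup.coe_mul, ha', hb', toM_bmul], hx.mul hy⟩

theorem bpi_rep (i : Bool) {g : CP} {x : Blk} (h : Rep g x) : bpi i (rep g) = bpi i x := by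
  rcases (rep_unique (rep_spec g) h).1 rfl with e | e <;> rw [e]
  exact bpi_neg i h.ok

/-- The two maps to the symmetric group on three points. -/
noncomputable def piHom (i : Bool) : CP →* Equiv.Perm (Fin 3) :=
  MonoidHom.mk' (fun g => bpi i (rep g)) fun g g' => by
    rw [bpi_rep i ((rep_spec g).mul (rep_spec g')), bpi_mul i (rep_spec g).ok (rep_spec g').ok]

theorem piHom_apply (i : Bool) {g : CP} {x : Blk} (h : Rep g x) : piHom i g = bpi i x := bpi_rep i h

/-- The element `dmat`. -/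
noncomputable abbrev dC : CP := ⟨mk dmat, Subgroup.mem_centralizer_singleton_iff.2 rfl⟩

/-- The model of `dmat`. -/
def bd : Blk := (false, qone, qneg qone)

theorem rep_d : Rep dC bd :=
  ⟨dmat, rfl, by decide +kernel, by unfold Ok; decide +kernel⟩

theorem exists_of_blk {x : Blk} (hd : (toM x).det = 1) (hok : Ok x)
    (hc : bmul x bd = bmul bd x ∨ bmul x bd = bneg (bmul bd x)) : ∃ g : CP, Rep g x := by
  obtain ⟨h, hh⟩ : ∃ h : SL4, h.1 = toM x := ⟨⟨toM x, hd⟩, rfl⟩
  refine ⟨⟨mk h, Subgroup.mem_centralizer_singleton_iff.2 ?_⟩, h, rfl, hh, hok⟩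
  have hb : dmat.1 = toM bd := by decide +kernel
  rw [← map_mul, ← map_mul]
  rcases hc with e | e
  · congr 1
    exact Subtype.ext (by rw [Matrix.SpecialLinearGroup.coe_mul, Matrix.SpecialLinearGroup.coe_mul,
      hh, hb, ← toM_bmul, ← toM_bmul, e])
  · rw [show h * dmat = dmat * h * negOne from Subtype.ext (by
      rw [Matrix.SpecialLinearGroup.coe_mul, Matrix.SpecialLinearGroup.coe_mul,
        Matrix.SpecialLinearGroup.coe_mul, hh, hb, ← toM_bmul, ← toM_bmul, e, toM_bneg]; simp [negOne]),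
      map_mul, mk_eq_one.2 neg_one_mem, mul_one]

theorem det_toM_false (A B : Q) (h : qdet A * qdet B = 1) : (toM (false, A, B)).det = 1 := by
  have hcomm : toM (false, A, B) * dmat.1 = dmat.1 * toM (false, A, B) := by
    rw [show dmat.1 = toM bd by decide +kernel, ← toM_bmul, ← toM_bmul]
    congr 1
    obtain ⟨a, b, c, d⟩ := A
    obtain ⟨e, f, g, k⟩ := B
    simp [bmul, bd, qmul, qone, qneg]
  rw [det_blocks _ hcomm, ← h]
  obtain ⟨a, b, c, d⟩ := A
  obtain ⟨e, f, g, k⟩ := B
  rfl

theorem exists_pair (A B : Q) (h : qdet A * qdet B = 1) : ∃ g : CP, Rep g (false, A, B) := by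
  refine exists_of_blk (det_toM_false A B h) h (Or.inl ?_)
  obtain ⟨a, b, c, d⟩ := A
  obtain ⟨e, f, g, k⟩ := B
  simp [bmul, bd, qmul, qone, qneg]

theorem exists_flip : ∃ g : CP, Rep g (true, qone, qone) :=
  exists_of_blk (by rw [toM_wflip]; exact wflip.2) (by unfold Ok; decide +kernel)
    (Or.inr (by decide +kernel))

/-- The element of order three with the given translations. -/
noncomputable def tEl (a : ZMod 3 × ZMod 3) : CP :=
  (exists_pair (qt a.1) (qt a.2) (by rw [(shift_qt _).1, (shift_qt _).1, one_mul])).choose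

theorem rep_tEl (a : ZMod 3 × ZMod 3) : Rep (tEl a) (false, qt a.1, qt a.2) :=
  (exists_pair (qt a.1) (qt a.2) (by rw [(shift_qt _).1, (shift_qt _).1, one_mul])).choose_spec

theorem qt_table : ∀ a b : ZMod 3, qmul (qt a) (qt b) = qt (a + b) := by decide +kernel

theorem qt_inj : ∀ a b a' b' : ZMod 3, ((false, qt a, qt b) : Blk) = (false, qt a', qt b') ∨
    ((false, qt a, qt b) : Blk) = bneg (false, qt a', qt b') → a = a' ∧ b = b' := by decide +kernel

/-- The group of order nine. -/
noncomputable def tHom : Multiplicative (ZMod 3 × ZMod 3) →* CP :=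
  MonoidHom.mk' (fun a => tEl a.toAdd) fun a b => by
    refine (rep_unique (rep_tEl _) ((rep_tEl _).mul (rep_tEl _))).2 (Or.inl ?_)
    simp [bmul, qt_table]

theorem tHom_injective : Function.Injective tHom := fun a b e => by
  obtain ⟨h1, h2⟩ := qt_inj _ _ _ _ ((rep_unique (rep_tEl _) (rep_tEl _)).1 e)
  exact Multiplicative.toAdd.injective (Prod.ext h1 h2)

/-- The quaternion elements of order four of one side. -/
def xs : Fin 12 → Blk := fun n =>
  ![(false, qi, qone), (false, qneg qi, qone), (false, qj, qone), (false, qneg qj, qone),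
    (false, qk, qone), (false, qneg qk, qone), (false, qone, qi), (false, qone, qneg qi),
    (false, qone, qj), (false, qone, qneg qj), (false, qone, qk), (false, qone, qneg qk)] n

theorem xs_spec : ∀ m : Fin 6, ∀ B : Q, B = qone ∨ B = qneg qone →
    ((∃ n, ((false, quat m, B) : Blk) = xs n ∨ ((false, quat m, B) : Blk) = bneg (xs n)) ∧
     (∃ n, ((false, B, quat m) : Blk) = xs n ∨ ((false, B, quat m) : Blk) = bneg (xs n))) := by
  decide +kernel

/-- The square roots of `dmat`. -/
theorem sq_cases {x : Blk} (hx : Ok x) (h : bmul x x = bd ∨ bmul x x = bneg bd) :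
    ∃ n, (x = xs n ∨ x = bneg (xs n)) ∧ x.1 = false ∧
      qdet x.2.1 = 1 ∧ shift x.2.1 = 0 ∧ shift x.2.2 = 0 := by
  obtain ⟨s, A, B⟩ := x
  have hne : qone ≠ qneg qone := by decide +kernel
  have h11 : qneg (qneg qone) = qone := by decide +kernel
  cases s
  · simp only [bmul, bd, bneg, Bool.false_eq_true, if_false, Prod.mk.injEq, true_and, h11] at h
    rcases h with ⟨hA, hB⟩ | ⟨hA, hB⟩
    · obtain ⟨d, r, m, rfl⟩ := sq_neg_one B hB
      have dA : qdet A = 1 := by
        have : qdet A * qdet (quat m) = 1 := hx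
        rwa [d, mul_one] at this
      have hAs := sq_one_det A hA dA
      obtain ⟨n, hn⟩ := (xs_spec m A hAs).2
      have hA0 : shift A = 0 := by rcases hAs with e | e <;> rw [e] <;> decide +kernel
      exact ⟨n, hn, rfl, dA, hA0, r⟩
    · obtain ⟨d, r, m, rfl⟩ := sq_neg_one A hA
      have dB : qdet B = 1 := by
        have : qdet (quat m) * qdet B = 1 := hx
        rwa [d, one_mul] at this
      have hBs := sq_one_det B hB dB
      obtain ⟨n, hn⟩ := (xs_spec m B hBs).1
      have hB0 : shift B = 0 := by rcases hBs with e | e <;> rw [e] <;> decide +kernel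
      exact ⟨n, hn, rfl, d, r, hB0⟩
  · exfalso
    simp only [bmul, bd, bneg, if_true, Bool.not_true, Prod.mk.injEq, true_and, h11] at h
    rcases h with ⟨h1, h2⟩ | ⟨h1, h2⟩
    · exact hne (((comm_inverse _ _).1 h1).symm.trans h2)
    · exact hne (h2.symm.trans ((comm_inverse _ _).2 h1))

/-- Membership in the kernel of both maps. -/
theorem mem_ker_iff {g : CP} {x : Blk} (h : Rep g x) :
    g ∈ (piHom false).ker ⊓ (piHom true).ker ↔ bpi false x = 1 ∧ bpi true x = 1 := by
  rw [Subgroup.mem_inf, MonoidHom.mem_ker, MonoidHom.mem_ker, piHom_apply _ h, piHom_apply _ h]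

theorem ker_blk {x : Blk} (hx : Ok x) (h1 : bpi false x = 1) (h2 : bpi true x = 1) :
    x.1 = false ∧ qdet x.2.1 = 1 ∧ qdet x.2.2 = 1 ∧ shift x.2.1 = 0 ∧ shift x.2.2 = 0 := by
  obtain ⟨s, A, B⟩ := x
  obtain ⟨hs, hd, ha, hb⟩ := pair_eq_one s _ _ _ hx.det_ne.1 h1 h2
  exact ⟨hs, hd, ((ok_dets _ _ hx).2).trans hd, ha, hb⟩

theorem bpi_ker_iff {A B : Q} (hA : qdet A = 1) (ha : shift A = 0) (hb : shift B = 0) :
    ∀ i, bpi i (false, A, B) = 1 := by
  intro i
  simp only [bpi, hA, ha, hb]
  revert i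
  decide +kernel

theorem kernel_inj : ∀ n : Fin 12, Ok (xs n) ∧ (xs n).1 = false ∧ qdet (xs n).2.1 = 1 ∧
    shift (xs n).2.1 = 0 ∧ shift (xs n).2.2 = 0 := by unfold Ok; decide +kernel

/-- The generators of `O`. -/
noncomputable def aEl (n : Fin 12) : CP :=
  (exists_pair (xs n).2.1 (xs n).2.2 (kernel_inj n).1).choose

theorem rep_aEl (n : Fin 12) : Rep (aEl n) (xs n) := by
  have h := (exists_pair (xs n).2.1 (xs n).2.2 (kernel_inj n).1).choose_spec
  have e : xs n = (false, (xs n).2.1, (xs n).2.2) := Prod.ext (kernel_inj n).2.1 rfl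
  rw [e]
  exact h

/-- The four generators. -/
def gi : Fin 4 → Fin 12 := ![0, 2, 6, 8]

/-- The commutation table. -/
def comm12 (m n : Fin 12) : Bool :=
  bmul (xs m) (xs n) == bmul (xs n) (xs m) || bmul (xs m) (xs n) == bneg (bmul (xs n) (xs m))

/-- Good quadruples. -/
def quads : Finset (Fin 12 × Fin 12 × Fin 12 × Fin 12) :=
  Finset.univ.filter fun p => comm12 p.1 p.2.1 = false ∧ comm12 p.1 p.2.2.1 = true ∧
    comm12 p.1 p.2.2.2 = true ∧ comm12 p.2.1 p.2.2.1 = true ∧ comm12 p.2.1 p.2.2.2 = true ∧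
    comm12 p.2.2.1 p.2.2.2 = false

theorem card_quads : quads.card ≤ 1152 := by decide +kernel

theorem comm_iff {g g' : CP} {m n : Fin 12} (h : Rep g (xs m)) (h' : Rep g' (xs n)) :
    g * g' = g' * g ↔ comm12 m n = true := by
  rw [rep_unique (h.mul h') (h'.mul h)]
  simp [comm12]

theorem comm12_gens : comm12 (gi 0) (gi 1) = false ∧ comm12 (gi 0) (gi 2) = true ∧
    comm12 (gi 0) (gi 3) = true ∧ comm12 (gi 1) (gi 2) = true ∧ comm12 (gi 1) (gi 3) = true ∧
    comm12 (gi 2) (gi 3) = false := by decide +kernel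

/-- Words in the generators reach every element of the kernel. -/
def word : Fin 4 → Fin 4 → Fin 2 → Blk := fun u v w =>
  let q : Fin 4 → Q := ![qone, qi, qj, qk]
  if w = 0 then (false, q u, q v) else (false, q u, qneg (q v))

theorem kernel_list_one : ∀ A : Q, qdet A = 1 → shift A = 0 →
    ∃ u : Fin 4, A = (![qone, qi, qj, qk] : Fin 4 → Q) u ∨ A = qneg ((![qone, qi, qj, qk] : Fin 4 → Q) u) := by
  decide +kernel

theorem kernel_list {A B : Q} (hA : qdet A = 1) (hB : qdet B = 1) (ha : shift A = 0) (hb : shift B = 0) :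
    ∃ u v w, ((false, A, B) : Blk) = word u v w ∨ ((false, A, B) : Blk) = bneg (word u v w) := by
  obtain ⟨u, hu⟩ := kernel_list_one A hA ha
  obtain ⟨v, hv⟩ := kernel_list_one B hB hb
  have hnn : ∀ q : Q, qneg (qneg q) = q := fun q => by obtain ⟨a, b, c, d⟩ := q; simp [qneg]
  rcases hu with rfl | rfl <;> rcases hv with rfl | rfl
  · exact ⟨u, v, 0, Or.inl rfl⟩
  · exact ⟨u, v, 1, Or.inl rfl⟩
  · exact ⟨u, v, 1, Or.inr (by simp [word, bneg, hnn])⟩
  · exact ⟨u, v, 0, Or.inr rfl⟩

theorem word_inj : ∀ u v w u' v' w', word u v w = word u' v' w' ∨ word u v w = bneg (word u' v' w') →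
    u = u' ∧ v = v' ∧ w = w' := by decide +kernel

theorem word_ker : ∀ u v w, qdet (word u v w).2.1 = 1 ∧ qdet (word u v w).2.2 = 1 ∧
    shift (word u v w).2.1 = 0 ∧ shift (word u v w).2.2 = 0 ∧ (word u v w).1 = false := by decide +kernel

/-- Products of generators realising the words. -/
def wordGen (u v : Fin 4) (w : Fin 2) : List (Fin 4) :=
  (![[], [0], [1], [0, 1]] : Fin 4 → List (Fin 4)) u ++ (![[], [2], [3], [2, 3]] : Fin 4 → List (Fin 4)) v ++
    (if w = 0 then [] else [2, 2])

theorem wordGen_spec : ∀ u v w,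
    (wordGen u v w).foldr (fun n acc => bmul (xs (gi n)) acc) (false, qone, qone) = word u v w := by
  decide +kernel

theorem rep_one : Rep (1 : CP) (false, qone, qone) :=
  ⟨1, map_one mk, by decide +kernel, by unfold Ok; decide +kernel⟩

theorem rep_list (l : List (Fin 4)) :
    Rep ((l.map fun n => aEl (gi n)).prod) (l.foldr (fun n acc => bmul (xs (gi n)) acc) (false, qone, qone)) := by
  induction l with
  | nil => exact rep_one
  | cons n l ih => exact (rep_aEl _).mul ih

theorem rep_word (u v : Fin 4) (w : Fin 2) : Rep (((wordGen u v w).map fun n => aEl (gi n)).prod) (word u v w) :=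
  wordGen_spec u v w ▸ rep_list _

theorem pi_table : ∀ a b : ZMod 3, ∀ c s : Bool, ∀ a' b' : ZMod 3, ∀ c' s' : Bool,
    (∀ i, pair i false 1 a b * pair i false (if c then -1 else 1) 0 0 * pair i s 1 0 0 =
      pair i false 1 a' b' * pair i false (if c' then -1 else 1) 0 0 * pair i s' 1 0 0) →
    a = a' ∧ b = b' ∧ c = c' ∧ s = s' := by decide +kernel

theorem le_card : 1152 ≤ Nat.card CP := by
  classical
  obtain ⟨σ, hσ⟩ := exists_flip
  obtain ⟨δ, hδ⟩ := exists_pair qdelta qdelta (by decide +kernel)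
  let f : (Fin 4 × Fin 4 × Fin 2) × (ZMod 3 × ZMod 3) × Bool × Bool → CP := fun p =>
    ((wordGen p.1.1 p.1.2.1 p.1.2.2).map fun n => aEl (gi n)).prod *
      (tEl p.2.1 * (if p.2.2.1 then δ else 1) * (if p.2.2.2 then σ else 1))
  have hd : ∀ (i c : Bool), piHom i (if c then δ else 1) = pair i false (if c then -1 else 1) 0 0 := fun i c => by
    cases c
    · rw [if_neg Bool.false_ne_true, map_one]; revert i; decide +kernel
    · rw [if_pos rfl, piHom_apply i hδ]; revert i; decide +kernel
  have hs : ∀ (i c : Bool), piHom i (if c then σ else 1) = pair i c 1 0 0 := fun i c => by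
    cases c
    · rw [if_neg Bool.false_ne_true, map_one]; revert i; decide +kernel
    · rw [if_pos rfl, piHom_apply i hσ]; revert i; decide +kernel
  have hw : ∀ i u v w, piHom i (((wordGen u v w).map fun n => aEl (gi n)).prod) = 1 := fun i u v w => by
    obtain ⟨h1, h2, h3, h4, h5⟩ := word_ker u v w
    rw [piHom_apply i (rep_word u v w), show word u v w = (false, (word u v w).2.1, (word u v w).2.2) from
      Prod.ext h5 rfl]
    exact bpi_ker_iff h1 h3 h4 i
  have ht : ∀ i a, piHom i (tEl a) = pair i false 1 a.1 a.2 := fun i a => by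
    rw [piHom_apply i (rep_tEl a)]
    simp [bpi, (shift_qt _).1, (shift_qt _).2]
  have hf : Function.Injective f := by
    rintro ⟨⟨u, v, w⟩, ⟨a, b⟩, c, s⟩ ⟨⟨u', v', w'⟩, ⟨a', b'⟩, c', s'⟩ e
    obtain ⟨rfl, rfl, rfl, rfl⟩ := pi_table a b c s a' b' c' s' fun i => by
      have := congrArg (piHom i) e
      simp only [f, map_mul, hw, ht, hd, hs, one_mul] at this
      exact this
    obtain ⟨rfl, rfl, rfl⟩ := word_inj _ _ _ _ _ _
      ((rep_unique (rep_word u v w) (rep_word u' v' w')).1 (mul_right_cancel e))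
    rfl
  have := Nat.card_le_card_of_injective f hf
  simpa using this

theorem scalar_pm {s : Bool} {A B : Q} (hx : Ok (s, A, B))
    (h : ∀ n : Fin 4, bmul (s, A, B) (xs (gi n)) = bmul (xs (gi n)) (s, A, B) ∨
      bmul (s, A, B) (xs (gi n)) = bneg (bmul (xs (gi n)) (s, A, B))) :
    s = false ∧ (A = qone ∨ A = qneg qone) ∧ (B = qone ∨ B = qneg qone) := by
  obtain ⟨hA, hB⟩ := hx.det_ne
  simp only at hA hB
  have x0 : xs (gi 0) = (false, qi, qone) := rfl
  have x1 : xs (gi 1) = (false, qj, qone) := rfl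
  have x2 : xs (gi 2) = (false, qone, qi) := rfl
  have x3 : xs (gi 3) = (false, qone, qj) := rfl
  obtain ⟨na, -, -, -, ea, ea'⟩ := not_fix_mul A hA
  obtain ⟨-, nb', -, -, -, -⟩ := not_fix_mul A hA
  obtain ⟨-, -, -, -, eb, eb'⟩ := not_fix_mul B hB
  cases s
  · have hn : ∀ q : Q, qdet q ≠ 0 → q ≠ qneg q := by decide +kernel
    have g0 := h 0; have g1 := h 1; have g2 := h 2; have g3 := h 3
    simp only [x0, x1, x2, x3, bmul, bneg, Bool.false_eq_true, if_false, Prod.mk.injEq, true_and,
      ea, ea', eb, eb', hn A hA, hn B hB, false_and, and_false, or_false, and_true] at g0 g1 g2 g3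
    exact ⟨rfl, scalar_of_comm A hA g0 g1, scalar_of_comm B hB g2 g3⟩
  · exfalso
    have g0 := h 0
    simp only [x0, bmul, bneg, Bool.false_eq_true, if_false, if_true, Bool.not_false, Prod.mk.injEq,
      true_and, ea, ea'] at g0
    rcases g0 with ⟨g, -⟩ | ⟨g, -⟩
    · exact na g
    · exact nb' g

theorem scalar_comm_t : ∀ A B : Q, A = qone ∨ A = qneg qone → B = qone ∨ B = qneg qone →
    ∀ a b : ZMod 3, bmul (false, A, B) (false, qt a, qt b) = bmul (false, qt a, qt b) (false, A, B) := by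
  decide +kernel

/-- The data of the centraliser. -/
noncomputable def data : CentData CP dC where
  O := (piHom false).ker ⊓ (piHom true).ker
  T := tHom.range
  O_normal := inferInstance
  O_coprime := fun h => by
    haveI : Fact (Nat.Prime 3) := ⟨Nat.prime_three⟩
    obtain ⟨⟨g, hg⟩, e⟩ := exists_prime_orderOf_dvd_card' 3 h
    rw [Subgroup.orderOf_mk] at e
    obtain ⟨x, hx⟩ := exists_rep g
    obtain ⟨h1, h2⟩ := (mem_ker_iff hx).1 hg
    obtain ⟨⟨s, A, B⟩, rfl⟩ : ∃ y : Blk, y = x := ⟨x, rfl⟩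
    obtain ⟨hs, dA, dB, rA, rB⟩ := ker_blk hx.ok h1 h2
    simp only at hs dA dB rA rB
    subst hs
    have e4 : g * g * (g * g) = 1 := (rep_unique ((hx.mul hx).mul (hx.mul hx)) rep_one).2 (Or.inl (by
      simp [bmul, kernel_pow_four A dA rA, kernel_pow_four B dB rB]))
    have := orderOf_dvd_of_pow_eq_one (x := g) (n := 4)
      (by rw [pow_succ, pow_succ, pow_succ, pow_one, mul_assoc (g * g), e4])
    rw [e] at this
    norm_num at this
  d_sq := (rep_unique (rep_d.mul rep_d) rep_one).2 (Or.inl (by decide +kernel))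
  d_ne := fun h => by
    have := (rep_unique rep_d rep_one).1 h
    revert this
    decide +kernel
  sq_mem := fun u hu => by
    obtain ⟨x, hx⟩ := exists_rep u
    obtain ⟨n, -, hs, d, r, r'⟩ := sq_cases hx.ok ((rep_unique (hx.mul hx) rep_d).1 hu)
    obtain ⟨s, A, B⟩ := x
    simp only at hs
    subst hs
    exact (mem_ker_iff hx).2 ⟨bpi_ker_iff d r r' _, bpi_ker_iff d r r' _⟩
  T_comm := by
    rintro _ ⟨a, rfl⟩ _ ⟨b, rfl⟩
    rw [← map_mul, mul_comm, map_mul]
  T_cube := by
    rintro _ ⟨a, rfl⟩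
    rw [← map_pow]
    have : a ^ 3 = 1 := by revert a; decide +kernel
    rw [this, map_one]
  T_card := by
    rw [← Nat.card_congr (MonoidHom.ofInjective tHom_injective).toEquiv, Nat.card_eq_fintype_card]
    rfl
  not27 := fun h => by
    have h1 := le_card
    have h2 : Nat.card CP ≤ 1152 := card_cent_PL4
    omega
  π := piHom
  π_ker := fun g h => ⟨h false, h true⟩
  π_T := fun i => ⟨tHom (Multiplicative.ofAdd (1, 0)), ⟨_, rfl⟩, fun h => by
    have e : piHom i (tEl (1, 0)) = 1 := h
    rw [piHom_apply i (rep_tEl _)] at e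
    exact absurd e (by clear h e; revert i; decide +kernel)⟩
  π_sign := fun g h => by
    obtain ⟨x, hx⟩ := exists_rep g
    obtain ⟨⟨s, A, B⟩, rfl⟩ : ∃ y : Blk, y = x := ⟨x, rfl⟩
    have h1 := h false; have h2 := h true
    rw [piHom_apply _ hx] at h1 h2
    obtain ⟨rfl, hd⟩ := pair_even s _ _ _ hx.ok.det_ne.1 h1 h2
    have hg : g = g * (tHom (Multiplicative.ofAdd (shift A, shift B)))⁻¹ *
        tHom (Multiplicative.ofAdd (shift A, shift B)) := (inv_mul_cancel_right _ _).symm
    rw [hg]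
    refine Subgroup.mul_mem_sup ?_ ⟨_, rfl⟩
    have key : ∀ i, piHom i (g * (tHom (Multiplicative.ofAdd (shift A, shift B)))⁻¹) = 1 := fun i => by
      rw [map_mul, map_inv, mul_inv_eq_one, piHom_apply i hx]
      show _ = piHom i (tEl (shift A, shift B))
      rw [piHom_apply i (rep_tEl _)]
      simp [bpi, hd, (shift_qt _).1, (shift_qt _).2]
    exact ⟨key false, key true⟩
  cent_T := fun c hc t ht => by
    obtain ⟨a, rfl⟩ := ht
    obtain ⟨x, hx⟩ := exists_rep c
    obtain ⟨⟨s, A, B⟩, rfl⟩ : ∃ y : Blk, y = x := ⟨x, rfl⟩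
    obtain ⟨rfl, hA, hB⟩ := scalar_pm hx.ok fun n => (rep_unique (hx.mul (rep_aEl _))
      ((rep_aEl _).mul hx)).1 (hc _ (by
        obtain ⟨-, hs, d, r, r'⟩ := kernel_inj (gi n)
        rw [mem_ker_iff (rep_aEl _), show xs (gi n) = (false, (xs (gi n)).2.1, (xs (gi n)).2.2) from
          Prod.ext hs rfl]
        exact ⟨bpi_ker_iff d r r' _, bpi_ker_iff d r r' _⟩))
    exact (rep_unique (hx.mul (rep_tEl _)) ((rep_tEl _).mul hx)).2
      (Or.inl (scalar_comm_t A B hA hB _ _))
  k := 4
  a := fun n => aEl (gi n)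
  a_sq := fun n => (rep_unique ((rep_aEl _).mul (rep_aEl _)) rep_d).2 (by revert n; decide +kernel)
  gen := fun g hg => by
    obtain ⟨x, hx⟩ := exists_rep g
    obtain ⟨⟨s, A, B⟩, rfl⟩ : ∃ y : Blk, y = x := ⟨x, rfl⟩
    obtain ⟨h1, h2⟩ := (mem_ker_iff hx).1 hg
    obtain ⟨hs, dA, dB, rA, rB⟩ := ker_blk hx.ok h1 h2
    simp only at hs dA dB rA rB
    subst hs
    obtain ⟨u, v, w, huvw⟩ := kernel_list dA dB rA rB
    rw [(rep_unique hx (rep_word u v w)).2 huvw]
    refine Subgroup.list_prod_mem _ fun y hy => ?_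
    obtain ⟨n, -, rfl⟩ := List.mem_map.1 hy
    exact Subgroup.subset_closure ⟨n, rfl⟩
  bound := by
    classical
    set V := {v : Fin 4 → CP // (∀ i, v i * v i = dC) ∧ ∀ i j,
      (v i * v j = v j * v i ↔ aEl (gi i) * aEl (gi j) = aEl (gi j) * aEl (gi i))}
    have hV : Nat.card V ≤ 1152 := by
      have hsel : ∀ (v : V) (i : Fin 4), ∃ n, Rep (v.1 i) (xs n) := fun v i => by
        obtain ⟨x, hx⟩ := exists_rep (v.1 i)
        obtain ⟨n, hn, -⟩ := sq_cases hx.ok ((rep_unique (hx.mul hx) rep_d).1 (v.2.1 i))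
        refine ⟨n, ?_⟩
        obtain ⟨w, hw⟩ : ∃ g : CP, Rep g (xs n) := ⟨_, rep_aEl n⟩
        rw [(rep_unique hx hw).2 hn]
        exact hw
      choose n hn using hsel
      refine (Nat.card_le_card_of_injective (fun v : V => (⟨(n v 0, n v 1, n v 2, n v 3), ?_⟩ : quads))
        ?_).trans (by rw [Nat.card_eq_finsetCard]; exact card_quads)
      · have hc : ∀ i j, comm12 (n v i) (n v j) = comm12 (gi i) (gi j) := fun i j => by
          have := v.2.2 i j
          rw [comm_iff (hn v i) (hn v j), comm_iff (rep_aEl _) (rep_aEl _)] at this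
          exact Bool.eq_iff_iff.2 this
        obtain ⟨c1, c2, c3, c4, c5, c6⟩ := comm12_gens
        simp only [quads, Finset.mem_filter, Finset.mem_univ, true_and, hc, c1, c2, c3, c4, c5, c6,
          and_self]
      · intro v v' e
        simp only [Subtype.mk.injEq, Prod.mk.injEq] at e
        obtain ⟨e0, e1, e2, e3⟩ := e
        refine Subtype.ext (funext fun i => (rep_unique (hn v i) (hn v' i)).2 (Or.inl ?_))
        fin_cases i <;> simp [e0, e1, e2, e3]
    have hC : Nat.card (Subgroup.centralizer (((piHom false).ker ⊓ (piHom true).ker : Subgroup CP) : Set CP)) ≤ 2 := by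
      let f : Bool → CP := fun b => if b then dC else 1
      have hmem : ∀ c ∈ Subgroup.centralizer (((piHom false).ker ⊓ (piHom true).ker : Subgroup CP) : Set CP),
          ∃ b, f b = c := fun c hc => by
        obtain ⟨x, hx⟩ := exists_rep c
        obtain ⟨⟨s, A, B⟩, rfl⟩ : ∃ y : Blk, y = x := ⟨x, rfl⟩
        obtain ⟨rfl, hA, hB⟩ := scalar_pm hx.ok fun n => (rep_unique (hx.mul (rep_aEl _))
          ((rep_aEl _).mul hx)).1 ((hc _ (by
            obtain ⟨-, hs, d, r, r'⟩ := kernel_inj (gi n)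
            rw [SetLike.mem_coe, mem_ker_iff (rep_aEl _),
              show xs (gi n) = (false, (xs (gi n)).2.1, (xs (gi n)).2.2) from Prod.ext hs rfl]
            exact ⟨bpi_ker_iff d r r' _, bpi_ker_iff d r r' _⟩)).symm)
        rcases hA with rfl | rfl <;> rcases hB with rfl | rfl
        · exact ⟨false, (rep_unique rep_one hx).2 (Or.inl rfl)⟩
        · exact ⟨true, (rep_unique rep_d hx).2 (Or.inl rfl)⟩
        · exact ⟨true, (rep_unique rep_d hx).2 (Or.inr (by decide +kernel))⟩
        · exact ⟨false, (rep_unique rep_one hx).2 (Or.inr (by decide +kernel))⟩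
      choose b hb using hmem
      refine (Nat.card_le_card_of_injective (β := Bool) (fun c => b c.1 c.2) fun c c' e => ?_).trans
        (le_of_eq (by simp))
      exact Subtype.ext (by rw [← hb c.1 c.2, ← hb c'.1 c'.2]; exact congrArg f e)
    have := Nat.mul_le_mul hV hC
    have := le_card
    omega

end Psl

/-- A group in which the centraliser of `diag (1,-1,-1,1)` in `PSL(4,3)` is strongly 3-embedded,
with that element central, is that centraliser. -/
theorem cent_psl {M : Type*} [Group M] [Finite M]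
    (ψ : Subgroup.centralizer ({mk dmat} : Set PL4) →* M) (hinj : Function.Injective ψ)
    (hS : Strong ψ.range)
    (hc : ∀ g : M, g * ψ ⟨mk dmat, Subgroup.mem_centralizer_singleton_iff.2 rfl⟩ =
      ψ ⟨mk dmat, Subgroup.mem_centralizer_singleton_iff.2 rfl⟩ * g) :
    Function.Surjective ψ :=
  CentData.surjective Psl.data ψ hinj hS hc

end CfsgLib.LFourThree
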