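import Cfsg.Agent.Lib.LFourThree.Basic
import Cfsg.Agent.Lib.Classical.Card
import Cfsg.Agent.Lib.Classical.MinIndexPSL

/-!
Orders of the models, elements of order three commuting with an involution, and centralisers of
`diag (1,-1,-1,1)`.
-/

set_option autoImplicit false
set_option linter.style.haveILetI false

namespace CfsgLib.LFourThree.Count

open Matrix

abbrev M4 : Type := Matrix (Fin 4) (Fin 4) (ZMod 3)
abbrev V4 : Type := Fin 4 → ZMod 3

theorem card_SL4 : Nat.card SL4 = 12130560 := by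
  have h := CfsgLib.Classical.sub_one_mul_card_SL (F := ZMod 3) (n := 4) (by norm_num)
  norm_num [Fin.prod_univ_four, ZMod.card] at h
  simp only [← Nat.card_eq_fintype_card] at h
  change Nat.card (Matrix.SpecialLinearGroup (Fin 4) (ZMod 3)) = 12130560
  omega

theorem center_cases {g : SL4} (h : g ∈ Subgroup.center SL4) : g.1 = 1 ∨ g.1 = -1 := by
  obtain ⟨r, hr, e⟩ := Matrix.SpecialLinearGroup.mem_center_iff.1 h
  rw [Fintype.card_fin] at hr
  have h4 : ∀ r : ZMod 3, r ^ 4 = 1 → r = 1 ∨ r = -1 := by decide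
  rcases h4 r hr with rfl | rfl
  · exact Or.inl (by rw [← e]; simp)
  · exact Or.inr (by rw [← e]; ext i j; by_cases hij : i = j <;> simp [hij])

theorem card_center : Nat.card (Subgroup.center SL4) = 2 := by
  haveI : Nonempty (Fin 4) := ⟨0⟩
  rw [CfsgLib.Classical.card_center_SL]
  norm_num [Nat.card_zmod]

theorem card_PL4 : Nat.card PL4 = 6065280 := by
  have h := Subgroup.card_eq_card_quotient_mul_card_subgroup (Subgroup.center SL4)
  rw [card_SL4, card_center] at h
  change Nat.card (SL4 ⧸ Subgroup.center SL4) = 6065280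
  omega

theorem mk_surjective : Function.Surjective mk := QuotientGroup.mk'_surjective _

theorem mk_eq_one {g : SL4} : mk g = 1 ↔ g ∈ Subgroup.center SL4 := QuotientGroup.eq_one_iff g

theorem mk_commute {g h : SL4} (e : Commute (mk g) (mk h)) :
    g.1 * h.1 = h.1 * g.1 ∨ g.1 * h.1 = -(h.1 * g.1) := by
  have hm : mk ((h * g)⁻¹ * (g * h)) = 1 := by
    rw [map_mul, map_inv, map_mul, map_mul, e.eq, inv_mul_cancel]
  have key : (g * h).1 = (h * g).1 * ((h * g)⁻¹ * (g * h)).1 := by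
    rw [← Matrix.SpecialLinearGroup.coe_mul, mul_inv_cancel_left]
  rw [Matrix.SpecialLinearGroup.coe_mul g h] at key
  rcases center_cases (mk_eq_one.1 hm) with h' | h'
  · exact Or.inl (by rw [key, h', mul_one, Matrix.SpecialLinearGroup.coe_mul])
  · exact Or.inr (by rw [key, h', mul_neg, mul_one, Matrix.SpecialLinearGroup.coe_mul])

/-! ### Elements of order three commuting with an involution -/

theorem vmv_mulVec (v f x : V4) : Matrix.vecMulVec v f *ᵥ x = (f ⬝ᵥ x) • v := by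
  ext i
  simp only [Matrix.mulVec, dotProduct, Matrix.vecMulVec_apply, Pi.smul_apply, smul_eq_mul,
    Finset.sum_mul]
  exact Finset.sum_congr rfl fun k _ => by ring

theorem eq_zero_of_mulVec {M : M4} (h : ∀ x : V4, M *ᵥ x = 0) : M = 0 := by
  ext i j
  have := congrFun (h (Pi.single j 1)) i
  simpa [Matrix.mulVec, dotProduct_single] using this

/-- A nilpotent matrix commuting with `T` gives an element of order three commuting with `T`. -/
theorem exists_of_nilp {T : SL4} {M : M4} (h2 : M * M = 0) (hM : M ≠ 0) (hTM : T.1 * M = M * T.1) :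
    ∃ N : SL4, N.1 = 1 + M ∧ orderOf N = 3 ∧ Commute T N := by
  have h3 : ∀ x : ZMod 3, x + x + x = 0 := by decide
  have hMMM : M + M + M = 0 := by ext i j; exact h3 (M i j)
  have hcube : (1 + M) ^ 3 = 1 := by
    have : (1 + M) ^ 3 = 1 + (M + M + M) + (M * M + M * M + M * M) + M * M * M := by noncomm_ring
    rw [this, hMMM, h2]; simp
  have hdet : (1 + M).det = 1 := by
    have h := congrArg Matrix.det hcube
    rw [Matrix.det_pow, Matrix.det_one] at h
    revert h
    generalize (1 + M).det = r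
    revert r
    decide
  obtain ⟨N, hN⟩ : ∃ N : SL4, N.1 = 1 + M := ⟨⟨1 + M, hdet⟩, rfl⟩
  refine ⟨N, hN, ?_, ?_⟩
  · haveI : Fact (Nat.Prime 3) := ⟨Nat.prime_three⟩
    refine orderOf_eq_prime (Subtype.ext ?_) fun h => hM ?_
    · rw [Matrix.SpecialLinearGroup.coe_pow, hN]; exact hcube
    · have : (1 : M4) + M = 1 := hN ▸ congrArg Subtype.val h
      simpa using this
  · refine Subtype.ext ?_
    rw [Matrix.SpecialLinearGroup.coe_mul, Matrix.SpecialLinearGroup.coe_mul, hN]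
    rw [mul_add, add_mul, one_mul, mul_one, hTM]

/-- Two independent eigenvectors give a commuting nilpotent matrix. -/
theorem exists_M_eigen {T : M4} (hT : T * T = 1) {c : ZMod 3} (hc : c * c = 1) {v u : V4} (hv : v ≠ 0)
    (hTv : T *ᵥ v = c • v) (hTu : T *ᵥ u = c • u) (hu : u ∉ Submodule.span (ZMod 3) {v}) :
    ∃ M : M4, M * M = 0 ∧ M ≠ 0 ∧ T * M = M * T ∧
      ∀ w, w = v ∨ T *ᵥ w = (-c) • w → M *ᵥ w = 0 := by
  obtain ⟨g, hg, hgu⟩ := CfsgLib.Classical.MinIndex.exists_sep _ hu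
  have hgv : g ⬝ᵥ v = 0 := hg v (Submodule.mem_span_singleton_self v)
  set f : V4 := g + c • (g ᵥ* T) with hf
  have hfx : ∀ x, f ⬝ᵥ x = g ⬝ᵥ x + c * (g ⬝ᵥ (T *ᵥ x)) := fun x => by
    rw [hf, add_dotProduct, smul_dotProduct, ← dotProduct_mulVec, smul_eq_mul]
  have hfv : f ⬝ᵥ v = 0 := by rw [hfx, hTv, dotProduct_smul, hgv]; simp
  have hfT : f ᵥ* T = c • f := by
    rw [hf, add_vecMul, smul_vecMul, vecMul_vecMul, hT, vecMul_one, smul_add, smul_smul, hc, one_smul,
      add_comm]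
  have hmv : ∀ x, vecMulVec v f *ᵥ x = (f ⬝ᵥ x) • v := vmv_mulVec v f
  refine ⟨vecMulVec v f, eq_zero_of_mulVec fun x => ?_, fun h0 => ?_, ?_, ?_⟩
  · rw [← mulVec_mulVec, hmv, hmv, dotProduct_smul, hfv, smul_zero, zero_smul]
  · have h2 : (f ⬝ᵥ u) • v = 0 := by rw [← hmv, h0, zero_mulVec]
    rw [hfx, hTu, dotProduct_smul, hgu, smul_eq_mul, mul_one, hc] at h2
    exact (smul_eq_zero.1 h2).elim (by decide) hv
  · rw [mul_vecMulVec, vecMulVec_mul, hTv, hfT]
    ext i j
    simp only [vecMulVec_apply, Pi.smul_apply, smul_eq_mul]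
    ring
  · rintro w (rfl | hw)
    · rw [hmv, hfv, zero_smul]
    · rw [hmv, hfx, hw, dotProduct_smul, smul_eq_mul, ← mul_assoc, mul_neg, hc]
      simp

/-- An element with square `-1` has a commuting nilpotent matrix. -/
theorem exists_M_neg {T : M4} (hT : T * T = -1) : ∃ M : M4, M * M = 0 ∧ M ≠ 0 ∧ T * M = M * T := by
  set v : V4 := Pi.single 0 1 with hvdef
  have hv : v ≠ 0 := by simp [hvdef]
  have hTTv : T *ᵥ (T *ᵥ v) = -v := by rw [mulVec_mulVec, hT, neg_mulVec, one_mulVec]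
  obtain ⟨u, -, hu⟩ := SetLike.exists_of_lt (lt_top_iff_ne_top.2
    (CfsgLib.Classical.MinIndex.span_pair_ne_top (F := ZMod 3) (n := 4) (by norm_num) v (T *ᵥ v)))
  obtain ⟨g, hg, hgu⟩ := CfsgLib.Classical.MinIndex.exists_sep _ hu
  have hgv : g ⬝ᵥ v = 0 := hg v (Submodule.subset_span (Or.inl rfl))
  have hgTv : g ⬝ᵥ (T *ᵥ v) = 0 := hg _ (Submodule.subset_span (Or.inr rfl))
  set M : M4 := vecMulVec v g - vecMulVec (T *ᵥ v) (g ᵥ* T) with hM
  have hmv : ∀ x, M *ᵥ x = (g ⬝ᵥ x) • v - (g ⬝ᵥ (T *ᵥ x)) • (T *ᵥ v) := fun x => by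
    rw [hM, sub_mulVec, vmv_mulVec, vmv_mulVec, ← dotProduct_mulVec]
  have h1 : M *ᵥ v = 0 := by rw [hmv, hgv, hgTv]; simp
  have h2 : M *ᵥ (T *ᵥ v) = 0 := by rw [hmv, hgTv, hTTv, dotProduct_neg, hgv]; simp
  refine ⟨M, eq_zero_of_mulVec fun x => ?_, fun h0 => ?_, ?_⟩
  · rw [← mulVec_mulVec, hmv x, mulVec_sub, mulVec_smul, mulVec_smul, h1, h2]
    simp
  · have h := hmv u
    rw [h0, zero_mulVec, hgu, one_smul] at h
    set a := g ⬝ᵥ (T *ᵥ u)
    have hva : v = a • (T *ᵥ v) := (sub_eq_zero.1 h.symm)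
    have h' : v = -(a * a) • v := by
      have hTv : T *ᵥ v = -(a • v) := by
        conv_lhs => rw [hva]
        rw [mulVec_smul, hTTv, smul_neg]
      conv_lhs => rw [hva, hTv]
      rw [smul_neg, smul_smul, neg_smul]
    have h'' : (1 + a * a) • v = 0 := by
      rw [add_smul, one_smul]
      conv_lhs => arg 1; rw [h']
      rw [neg_smul, neg_add_cancel]
    have hne : ∀ a : ZMod 3, 1 + a * a ≠ 0 := by decide
    exact (smul_eq_zero.1 h'').elim (hne a) hv
  · rw [hM, mul_sub, sub_mul, mul_vecMulVec, mul_vecMulVec, vecMulVec_mul, vecMulVec_mul, mulVec_mulVec,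
      hT, neg_mulVec, one_mulVec, vecMul_vecMul, hT, vecMul_neg, vecMul_one]
    ext i j
    simp only [Matrix.sub_apply, vecMulVec_apply, Pi.neg_apply]
    ring

/-- The eigenspaces of an involutory matrix are not both lines. -/
theorem exists_indep {T : M4} (hT : T * T = 1) (p q : V4) :
    (∃ u, T *ᵥ u = u ∧ u ∉ Submodule.span (ZMod 3) {p}) ∨
      ∃ u, T *ᵥ u = -u ∧ u ∉ Submodule.span (ZMod 3) {q} := by
  by_contra h
  push Not at h
  obtain ⟨hp, hq⟩ := h
  have hsurj : Function.Surjective fun ab : ZMod 3 × ZMod 3 => -(ab.1 • p + ab.2 • q) := fun x => by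
    have hTT : T *ᵥ (T *ᵥ x) = x := by rw [mulVec_mulVec, hT, one_mulVec]
    obtain ⟨a, ha⟩ := Submodule.mem_span_singleton.1 (hp (x + T *ᵥ x) (by
      rw [mulVec_add, hTT, add_comm]))
    obtain ⟨b, hb⟩ := Submodule.mem_span_singleton.1 (hq (x - T *ᵥ x) (by
      rw [mulVec_sub, hTT, neg_sub]))
    refine ⟨(a, b), ?_⟩
    show -(a • p + b • q) = x
    rw [ha, hb]
    have h3 : ∀ y z : ZMod 3, -(y + z + (y - z)) = y := by decide
    ext i
    exact h3 (x i) _
  have := Nat.card_le_card_of_surjective _ hsurj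
  simp at this

theorem exists_M_pos {T : M4} (hT : T * T = 1) {p : V4} (hp : p ≠ 0) (hTp : T *ᵥ p = p) :
    ∃ M : M4, M * M = 0 ∧ M ≠ 0 ∧ T * M = M * T ∧ M *ᵥ p = 0 := by
  by_cases h : ∃ u, T *ᵥ u = u ∧ u ∉ Submodule.span (ZMod 3) {p}
  · obtain ⟨u, hu, hus⟩ := h
    obtain ⟨M, h1, h2, h3, h4⟩ := exists_M_eigen hT (c := 1) (by decide) hp (by rw [hTp, one_smul])
      (by rw [hu, one_smul]) hus
    exact ⟨M, h1, h2, h3, h4 p (Or.inl rfl)⟩
  · obtain ⟨v, hv, hvs⟩ := (exists_indep hT p 0).resolve_left h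
    obtain ⟨u, hu, hus⟩ := (exists_indep hT p v).resolve_left h
    have hv0 : v ≠ 0 := fun e => hvs (by rw [e]; exact zero_mem _)
    obtain ⟨M, h1, h2, h3, h4⟩ := exists_M_eigen hT (c := -1) (by decide) hv0 (by rw [hv, neg_one_smul])
      (by rw [hu, neg_one_smul]) hus
    exact ⟨M, h1, h2, h3, h4 p (Or.inr (by rw [hTp, neg_neg, one_smul]))⟩

theorem exists_M_sq_one {T : M4} (hT : T * T = 1) :
    ∃ M : M4, M * M = 0 ∧ M ≠ 0 ∧ T * M = M * T := by
  by_cases h : ∃ p, p ≠ 0 ∧ T *ᵥ p = p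
  · obtain ⟨p, hp, hTp⟩ := h
    obtain ⟨M, h1, h2, h3, -⟩ := exists_M_pos hT hp hTp
    exact ⟨M, h1, h2, h3⟩
  · push Not at h
    have hno : ∀ p : V4, ¬ ∃ u, T *ᵥ u = u ∧ u ∉ Submodule.span (ZMod 3) {p} := fun p ⟨u, hu, hus⟩ =>
      h u (fun e => hus (by rw [e]; exact zero_mem _)) hu
    obtain ⟨v, hv, hvs⟩ := (exists_indep hT 0 0).resolve_left (hno 0)
    obtain ⟨u, hu, hus⟩ := (exists_indep hT 0 v).resolve_left (hno 0)
    have hv0 : v ≠ 0 := fun e => hvs (by rw [e]; exact zero_mem _)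
    obtain ⟨M, h1, h2, h3, -⟩ := exists_M_eigen hT (c := -1) (by decide) hv0 (by rw [hv, neg_one_smul])
      (by rw [hu, neg_one_smul]) hus
    exact ⟨M, h1, h2, h3⟩

/-- Every involution of `PSL(4,3)` commutes with an element of order three. -/
theorem exists_three_PL4 {t : PL4} (ht : t * t = 1) : ∃ y : PL4, orderOf y = 3 ∧ Commute t y := by
  obtain ⟨T, rfl⟩ := mk_surjective t
  have hTT : T * T ∈ Subgroup.center SL4 := mk_eq_one.1 (by rw [map_mul, ht])
  have hM : ∃ M : M4, M * M = 0 ∧ M ≠ 0 ∧ T.1 * M = M * T.1 := by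
    rcases center_cases hTT with h | h <;> rw [Matrix.SpecialLinearGroup.coe_mul] at h
    · exact exists_M_sq_one h
    · exact exists_M_neg h
  obtain ⟨M, h1, h2, h3⟩ := hM
  obtain ⟨N, -, hN3, hTN⟩ := exists_of_nilp h1 h2 h3
  refine ⟨mk N, ?_, hTN.map mk⟩
  haveI : Fact (Nat.Prime 3) := ⟨Nat.prime_three⟩
  refine orderOf_eq_prime (by rw [← map_pow, orderOf_dvd_iff_pow_eq_one.1 (dvd_of_eq hN3), map_one]) fun h => ?_
  have hpow : (⟨N, mk_eq_one.1 h⟩ : Subgroup.center SL4) ^ 2 = 1 := by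
    have := pow_card_eq_one' (x := (⟨N, mk_eq_one.1 h⟩ : Subgroup.center SL4))
    rwa [card_center] at this
  have hN2 : N ^ 2 = 1 := by simpa using congrArg Subtype.val hpow
  have := orderOf_dvd_of_pow_eq_one hN2
  rw [hN3] at this
  norm_num at this

theorem para_apply (g : para) (i : Fin 4) : g.1.1 i 0 = (1 : M4) i 0 := g.2 i

theorem para_fix (g : para) : g.1.1 *ᵥ (Pi.single 0 1 : V4) = Pi.single 0 1 := by
  ext i
  rw [mulVec_single_one, col_apply, para_apply]
  simp [Matrix.one_apply, Pi.single_apply]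

/-- Every involution of the parabolic commutes with an element of order three of it. -/
theorem exists_three_para {t : para} (ht : t * t = 1) : ∃ y : para, orderOf y = 3 ∧ Commute t y := by
  have hTT : t.1.1 * t.1.1 = 1 := by
    have := congrArg (fun g : para => g.1.1) ht
    simpa using this
  obtain ⟨M, h1, h2, h3, h4⟩ := exists_M_pos hTT (p := Pi.single 0 1) (by simp) (para_fix t)
  obtain ⟨N, hN, hN3, hTN⟩ := exists_of_nilp h1 h2 h3
  have hmem : N ∈ para := fun i => by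
    rw [hN, Matrix.add_apply]
    have h0 : M i 0 = 0 := by
      have := congrFun h4 i
      rwa [mulVec_single_one, col_apply] at this
    rw [h0, add_zero]
  exact ⟨⟨N, hmem⟩, by rw [Subgroup.orderOf_mk, hN3], Subtype.ext hTN.eq⟩

end CfsgLib.LFourThree.Count
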