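import Cfsg.Agent.Lib.LFourThree.ZFusionModel

/-!
Facts on the centraliser model: the commutant of the root element, the invariant abelian subgroups of the
radical, the reversing automorphism, and the commutant of the abelian group of order 81.
-/

set_option autoImplicit false
set_option linter.style.haveILetI false
set_option maxRecDepth 100000

namespace CfsgLib.LFourThree.Model

open Matrix CfsgLib.LFourThree.ZF

theorem zmat_mem_cm : zmat ∈ cm := ⟨zmat_mem_para, zmat_mem_para3⟩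

theorem zmat_mem_row : zmat ∈ rowGrp := Subgroup.subset_closure (by simp [zmat])

theorem zmat_mem_col : zmat ∈ colGrp := Subgroup.subset_closure (by simp [zmat])

theorem comm_zmat {g : SL4} (hg : g ∈ para) : g * zmat = zmat * g ↔ g ∈ para3 := by
  constructor
  · intro h j
    have h' := congrFun (congrFun (congrArg Subtype.val h) 0) j
    have h00 : g.1 0 0 = 1 := by simpa using hg 0
    rw [zmat_eq, Matrix.SpecialLinearGroup.coe_mul, Matrix.SpecialLinearGroup.coe_mul, coe_uEl] at h'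
    fin_cases j <;> simp [Matrix.mul_apply, Fin.sum_univ_four, uMat, h00, Matrix.one_apply] at h' ⊢ <;>
      first
        | exact h'
        | exact h'.symm
        | linear_combination h'
        | linear_combination -h'
  · intro h
    have hcol : ∀ i, g.1 i 0 = (1 : Matrix (Fin 4) (Fin 4) (ZMod 3)) i 0 := hg
    have hrow : ∀ j, g.1 3 j = (1 : Matrix (Fin 4) (Fin 4) (ZMod 3)) 3 j := h
    apply Subtype.ext
    rw [zmat_eq, Matrix.SpecialLinearGroup.coe_mul, Matrix.SpecialLinearGroup.coe_mul, coe_uEl]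
    ext i j
    fin_cases i <;> fin_cases j <;>
      simp [Matrix.mul_apply, Fin.sum_univ_four, uMat, hcol, hrow, Matrix.one_apply] <;> ring

/-- The coordinates of the radical. -/
def qEl (x : ZMod 3 × ZMod 3 × ZMod 3 × ZMod 3 × ZMod 3) : SL4 := uEl x.1 x.2.1 x.2.2.1 0 x.2.2.2.1 x.2.2.2.2

theorem card_qGrp : Nat.card qGrp = 243 := by
  let f : ZMod 3 × ZMod 3 × ZMod 3 × ZMod 3 × ZMod 3 → qGrp := fun x => ⟨qEl x, mem_qGrp.2 ⟨_, _, _, _, _, rfl⟩⟩
  have hf : Function.Bijective f := by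
    constructor
    · rintro ⟨a, b, c, d, e⟩ ⟨a', b', c', d', e'⟩ h
      obtain ⟨rfl, rfl, rfl, -, rfl, rfl⟩ := uEl_inj (congrArg Subtype.val h)
      rfl
    · rintro ⟨g, hg⟩
      obtain ⟨a, b, c, d, e, rfl⟩ := mem_qGrp.1 hg
      exact ⟨(a, b, c, d, e), rfl⟩
  rw [← Nat.card_eq_of_bijective f hf]
  simp

theorem card_rowGrp : Nat.card rowGrp = 27 := by
  let f : ZMod 3 × ZMod 3 × ZMod 3 → rowGrp := fun x => ⟨uEl x.1 x.2.1 x.2.2 0 0 0, mem_rowGrp.2 ⟨_, _, _, rfl⟩⟩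
  have hf : Function.Bijective f := by
    constructor
    · rintro ⟨a, b, c⟩ ⟨a', b', c'⟩ h
      obtain ⟨rfl, rfl, rfl, -⟩ := uEl_inj (congrArg Subtype.val h)
      rfl
    · rintro ⟨g, hg⟩
      obtain ⟨a, b, c, rfl⟩ := mem_rowGrp.1 hg
      exact ⟨(a, b, c), rfl⟩
  rw [← Nat.card_eq_of_bijective f hf]
  simp

theorem card_colGrp : Nat.card colGrp = 27 := by
  let f : ZMod 3 × ZMod 3 × ZMod 3 → colGrp := fun x => ⟨uEl 0 0 x.1 0 x.2.1 x.2.2, mem_colGrp.2 ⟨_, _, _, rfl⟩⟩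
  have hf : Function.Bijective f := by
    constructor
    · rintro ⟨a, b, c⟩ ⟨a', b', c'⟩ h
      obtain ⟨-, -, rfl, -, rfl, rfl⟩ := uEl_inj (congrArg Subtype.val h)
      rfl
    · rintro ⟨g, hg⟩
      obtain ⟨a, b, c, rfl⟩ := mem_colGrp.1 hg
      exact ⟨(a, b, c), rfl⟩
  rw [← Nat.card_eq_of_bijective f hf]
  simp

theorem col_comm {x y : SL4} (hx : x ∈ colGrp) (hy : y ∈ colGrp) : x * y = y * x := by
  obtain ⟨a, b, c, rfl⟩ := mem_colGrp.1 hx
  obtain ⟨a', b', c', rfl⟩ := mem_colGrp.1 hy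
  rw [uEl_comm_iff]; simp

/-- The rotation of the middle block. -/
def wMat : SL4 := ⟨!![1, 0, 0, 0; 0, 0, 1, 0; 0, -1, 0, 0; 0, 0, 0, 1], by decide +kernel⟩

theorem wMat_mem : wMat ∈ cm :=
  ⟨show ∀ i, wMat.1 i 0 = (1 : Matrix (Fin 4) (Fin 4) (ZMod 3)) i 0 by decide +kernel,
    show ∀ j, wMat.1 3 j = (1 : Matrix (Fin 4) (Fin 4) (ZMod 3)) 3 j by decide +kernel⟩

theorem wMat_conj (a₁ a₂ b c₁ c₂ : ZMod 3) :
    wMat * uEl a₁ a₂ b 0 c₁ c₂ * wMat⁻¹ = uEl a₂ (-a₁) b 0 c₂ (-c₁) := by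
  rw [mul_inv_eq_iff_eq_mul]
  apply Subtype.ext
  rw [Matrix.SpecialLinearGroup.coe_mul, Matrix.SpecialLinearGroup.coe_mul, coe_uEl, coe_uEl]
  revert a₁ a₂ b c₁ c₂
  decide +kernel

theorem u12_conj (a₁ a₂ b c₁ c₂ : ZMod 3) : uEl 0 0 0 1 0 0 * uEl a₁ a₂ b 0 c₁ c₂ * (uEl 0 0 0 1 0 0)⁻¹ =
    uEl a₁ (a₂ - a₁) b 0 (c₁ + c₂) c₂ := by
  rw [mul_inv_eq_iff_eq_mul, uEl_mul, uEl_mul]
  congr 1 <;> ring

/-- An abelian subgroup of the radical invariant under the centraliser model lies in a row or a column. -/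
theorem inv_abelian {D : Subgroup SL4} (hD : D ≤ qGrp) (hab : ∀ x ∈ D, ∀ y ∈ D, x * y = y * x)
    (hinv : ∀ g ∈ cm, ∀ x ∈ D, g * x * g⁻¹ ∈ D) : D ≤ rowGrp ∨ D ≤ colGrp := by
  have hu : uEl 0 0 0 1 0 0 ∈ cm := uGrp_le_cm ⟨_, _, _, _, _, _, rfl⟩
  have one : ∀ {a₁ a₂ b c₁ c₂ : ZMod 3}, uEl a₁ a₂ b 0 c₁ c₂ ∈ D → a₁ * c₂ = 0 := by
    intro a₁ a₂ b c₁ c₂ h
    have h' := hinv _ hu _ h
    rw [u12_conj] at h'
    have h'' := ((uEl_comm_iff ..).1 (hab _ h _ h')).2.1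
    have k : ∀ a₁ a₂ c₁ c₂ : ZMod 3, a₁ * (c₁ + c₂) + a₂ * c₂ = a₁ * c₁ + (a₂ - a₁) * c₂ → a₁ * c₂ = 0 := by decide
    exact k _ _ _ _ h''
  have two : ∀ {a₁ a₂ b c₁ c₂ : ZMod 3}, uEl a₁ a₂ b 0 c₁ c₂ ∈ D → a₂ * c₁ = 0 := by
    intro a₁ a₂ b c₁ c₂ h
    have h' := hinv _ wMat_mem _ h
    rw [wMat_conj] at h'
    have := one h'
    rwa [mul_neg, neg_eq_zero] at this
  have split : ∀ x ∈ D, x ∈ rowGrp ∨ x ∈ colGrp := by
    intro x hx
    obtain ⟨a₁, a₂, b, c₁, c₂, rfl⟩ := mem_qGrp.1 (hD hx)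
    have h' := hinv _ hu _ hx
    rw [u12_conj] at h'
    have k : ∀ a₁ a₂ c₁ c₂ : ZMod 3, a₁ * c₂ = 0 ∧ a₂ * c₁ = 0 ∧ (a₂ - a₁) * (c₁ + c₂) = 0 →
        (a₁ = 0 ∧ a₂ = 0) ∨ (c₁ = 0 ∧ c₂ = 0) := by decide
    rcases k _ _ _ _ ⟨one hx, two hx, two h'⟩ with ⟨rfl, rfl⟩ | ⟨rfl, rfl⟩
    · exact Or.inr (mem_colGrp.2 ⟨_, _, _, rfl⟩)
    · exact Or.inl (mem_rowGrp.2 ⟨_, _, _, rfl⟩)
  by_contra h
  push Not at h
  obtain ⟨x, hx, hxr⟩ := SetLike.not_le_iff_exists.1 h.1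
  obtain ⟨y, hy, hyc⟩ := SetLike.not_le_iff_exists.1 h.2
  rcases split _ (mul_mem hx hy) with h' | h'
  · exact hxr ((Subgroup.mul_mem_cancel_right _ ((split y hy).resolve_right hyc)).1 h')
  · exact hyc ((Subgroup.mul_mem_cancel_left _ ((split x hx).resolve_left hxr)).1 h')

/-- The signed reversal. -/
def revMat : SL4 := ⟨!![0, 0, 0, 1; 0, 0, 1, 0; 0, -1, 0, 0; -1, 0, 0, 0], by decide +kernel⟩

/-- Inverse transpose followed by the reversal. -/
def tau : SL4 →* SL4 :=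
  MonoidHom.mk' (fun g => revMat * g⁻¹.transpose * revMat⁻¹) fun g h => by
    have e : (g * h)⁻¹.transpose = g⁻¹.transpose * h⁻¹.transpose := by
      apply Subtype.ext
      rw [_root_.mul_inv_rev]
      show ((h⁻¹ * g⁻¹).1)ᵀ = (g⁻¹).1ᵀ * (h⁻¹).1ᵀ
      rw [Matrix.SpecialLinearGroup.coe_mul, Matrix.transpose_mul]
    show revMat * (g * h)⁻¹.transpose * revMat⁻¹ = _
    rw [e]; group

theorem tau_injective : Function.Injective tau := fun g h e => by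
  have e0 := congrArg (fun x : SL4 => revMat⁻¹ * x * revMat) e
  simp only [tau, MonoidHom.mk'_apply, mul_assoc, inv_mul_cancel_left, inv_mul_cancel, mul_one] at e0
  have ht : ∀ a b : SL4, a.transpose = b.transpose → a = b := fun a b h' =>
    Subtype.ext (Matrix.transpose_injective (congrArg Subtype.val h'))
  exact inv_injective (ht _ _ e0)

theorem tau_mem {g : SL4} (hg : g ∈ para3) : tau g ∈ para := by
  intro i
  have hinv : ∀ j, (g⁻¹).1 3 j = (1 : Matrix (Fin 4) (Fin 4) (ZMod 3)) 3 j := inv_mem hg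
  show (revMat.1 * ((g⁻¹).1)ᵀ * (revMat⁻¹).1) i 0 = _
  have hm : revMat.1 * revMat.1ᵀ = 1 := by decide +kernel
  have hi : revMat * revMat.transpose = 1 := Subtype.ext hm
  rw [inv_eq_of_mul_eq_one_right hi]
  show (revMat.1 * ((g⁻¹).1)ᵀ * revMat.1ᵀ) i 0 = _
  generalize (g⁻¹).1 = N at hinv ⊢
  fin_cases i <;> simp [Matrix.mul_apply, Matrix.vecMul, dotProduct, Fin.sum_univ_four, revMat, hinv, Matrix.one_apply]


theorem tau_mem' {g : SL4} (hg : g ∈ para) : tau g ∈ para3 := by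
  intro j
  have hinv : ∀ i, (g⁻¹).1 i 0 = (1 : Matrix (Fin 4) (Fin 4) (ZMod 3)) i 0 := inv_mem hg
  show (revMat.1 * ((g⁻¹).1)ᵀ * (revMat⁻¹).1) 3 j = _
  have hm : revMat.1 * revMat.1ᵀ = 1 := by decide +kernel
  have hi : revMat * revMat.transpose = 1 := Subtype.ext hm
  rw [inv_eq_of_mul_eq_one_right hi]
  show (revMat.1 * ((g⁻¹).1)ᵀ * revMat.1ᵀ) 3 j = _
  generalize (g⁻¹).1 = N at hinv ⊢
  fin_cases j <;>
    simp [Matrix.mul_apply, Matrix.vecMul, dotProduct, Fin.sum_univ_four, revMat, hinv, Matrix.one_apply]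

theorem tau_col (b c₁ c₂ : ZMod 3) : tau (uEl 0 0 b 0 c₁ c₂) = uEl (-c₂) c₁ b 0 0 0 := by
  show revMat * (uEl 0 0 b 0 c₁ c₂)⁻¹.transpose * revMat⁻¹ = _
  rw [mul_inv_eq_iff_eq_mul, uEl_inv]
  apply Subtype.ext
  show revMat.1 * (uMat _ _ _ _ _ _)ᵀ = uMat _ _ _ _ _ _ * revMat.1
  revert b c₁ c₂
  decide +kernel

theorem tau_row (a₁ a₂ b : ZMod 3) : tau (uEl a₁ a₂ b 0 0 0) = uEl 0 0 b 0 a₂ (-a₁) := by
  show revMat * (uEl a₁ a₂ b 0 0 0)⁻¹.transpose * revMat⁻¹ = _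
  rw [mul_inv_eq_iff_eq_mul, uEl_inv]
  apply Subtype.ext
  show revMat.1 * (uMat _ _ _ _ _ _)ᵀ = uMat _ _ _ _ _ _ * revMat.1
  revert a₁ a₂ b
  decide +kernel

theorem tau_zmat : tau zmat = zmat := by rw [zmat_eq, tau_col, neg_zero]

theorem tau_colGrp {g : SL4} (hg : g ∈ colGrp) : tau g ∈ rowGrp := by
  obtain ⟨b, c₁, c₂, rfl⟩ := mem_colGrp.1 hg
  exact mem_rowGrp.2 ⟨_, _, _, tau_col b c₁ c₂⟩

theorem tau_rowGrp {g : SL4} (hg : g ∈ rowGrp) : tau g ∈ colGrp := by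
  obtain ⟨a₁, a₂, b, rfl⟩ := mem_rowGrp.1 hg
  exact mem_colGrp.2 ⟨_, _, _, tau_row a₁ a₂ b⟩

theorem tau_map_para3 : para3.map tau = para := by
  refine Subgroup.eq_of_le_of_card_ge ?_ ?_
  · rintro _ ⟨g, hg, rfl⟩; exact tau_mem hg
  · have h : Nat.card (para.map tau) ≤ Nat.card para3 := Subgroup.card_le_of_le (by
      rintro _ ⟨g, hg, rfl⟩; exact tau_mem' hg)
    rw [Subgroup.card_map_of_injective tau_injective] at h
    rwa [Subgroup.card_map_of_injective tau_injective]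

theorem tau_map_cm : cm.map tau = cm := by
  refine Subgroup.eq_of_le_of_card_ge ?_ ?_
  · rintro _ ⟨g, hg, rfl⟩; exact ⟨tau_mem hg.2, tau_mem' hg.1⟩
  · rw [Subgroup.card_map_of_injective tau_injective]

/-- The commutant of `aGrp` in the centraliser model is `aGrp`. -/
theorem comm_aGrp {g : SL4} (hg : g ∈ cm) (h : ∀ a ∈ aGrp, g * a = a * g) : g ∈ aGrp := by
  have e02 := congrArg Subtype.val (h _ (Subgroup.subset_closure (show root 0 2 1 ∈ ({root 0 2 1, root 0 3 1,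
    root 1 2 1, root 1 3 1} : Set SL4) by simp)))
  have e12 := congrArg Subtype.val (h _ (Subgroup.subset_closure (show root 1 2 1 ∈ ({root 0 2 1, root 0 3 1,
    root 1 2 1, root 1 3 1} : Set SL4) by simp)))
  have e13 := congrArg Subtype.val (h _ (Subgroup.subset_closure (show root 1 3 1 ∈ ({root 0 2 1, root 0 3 1,
    root 1 2 1, root 1 3 1} : Set SL4) by simp)))
  simp only [Matrix.SpecialLinearGroup.coe_mul, root, CfsgLib.Schur.SLFam.coe_tv (show (0 : Fin 4) ≠ 2 by decide),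
    CfsgLib.Schur.SLFam.coe_tv (show (1 : Fin 4) ≠ 2 by decide),
    CfsgLib.Schur.SLFam.coe_tv (show (1 : Fin 4) ≠ 3 by decide)] at e02 e12 e13
  have h00 : g.1 0 0 = 1 := by simpa using hg.1 0
  have h10 : g.1 1 0 = 0 := by simpa using hg.1 1
  have h20 : g.1 2 0 = 0 := by simpa using hg.1 2
  have h30 : g.1 3 0 = 0 := by simpa using hg.1 3
  have h31 : g.1 3 1 = 0 := by simpa using hg.2 1
  have h32 : g.1 3 2 = 0 := by simpa using hg.2 2
  have h33 : g.1 3 3 = 1 := by simpa using hg.2 3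
  have h01 : g.1 0 1 = 0 := by
    have := congrFun (congrFun e12 0) 2
    simpa [Matrix.mul_apply, Fin.sum_univ_four, Matrix.one_apply, Matrix.single] using this
  have h11 : g.1 1 1 = 1 := by
    have := congrFun (congrFun e13 1) 3
    simp [Matrix.mul_apply, Fin.sum_univ_four, Matrix.one_apply, Matrix.single, h33] at this
    linear_combination this
  have h21 : g.1 2 1 = 0 := by
    have := congrFun (congrFun e13 2) 3
    simpa [Matrix.mul_apply, Fin.sum_univ_four, Matrix.one_apply, Matrix.single, h33] using this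
  have h22 : g.1 2 2 = 1 := by
    have := congrFun (congrFun e02 0) 2
    simp [Matrix.mul_apply, Fin.sum_univ_four, Matrix.one_apply, Matrix.single, h00] at this
    linear_combination -this
  have h23 : g.1 2 3 = 0 := by
    have := congrFun (congrFun e02 0) 3
    simpa [Matrix.mul_apply, Fin.sum_univ_four, Matrix.one_apply, Matrix.single, h00] using this
  have e : g = uEl 0 0 0 1 0 0 ^ (g.1 1 2).val * uEl 0 1 0 0 0 0 ^ (g.1 0 2).val *
      uEl 0 0 0 0 1 0 ^ (g.1 1 3).val * uEl 0 0 1 0 0 0 ^ (g.1 0 3).val := by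
    have k : ∀ a b c d : ZMod 3, uEl 0 b d a c 0 = uEl 0 0 0 1 0 0 ^ a.val * uEl 0 1 0 0 0 0 ^ b.val *
        uEl 0 0 0 0 1 0 ^ c.val * uEl 0 0 1 0 0 0 ^ d.val := by decide +kernel
    rw [← k]
    apply Subtype.ext
    rw [coe_uEl]
    ext i j
    fin_cases i <;> fin_cases j <;> simp [uMat, h00, h10, h20, h30, h31, h32, h33, h01, h11, h21, h22, h23]
  rw [e, ← root_eq.2.1, ← root_eq.2.2.1, ← root_eq.2.2.2.1]
  have h12 : uEl 0 0 0 1 0 0 = root 1 2 1 := by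
    apply Subtype.ext
    rw [root, CfsgLib.Schur.SLFam.coe_tv (by decide), coe_uEl]
    decide +kernel
  rw [h12]
  refine mul_mem (mul_mem (mul_mem (pow_mem ?_ _) (pow_mem ?_ _)) (pow_mem ?_ _)) (pow_mem ?_ _) <;>
    exact Subgroup.subset_closure (by simp)

end CfsgLib.LFourThree.Model
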