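import Cfsg.Agent.Lib.LFourThree.Quot

/-!
Two conjugates of the central element, one in the radical of the centraliser of the other.
-/

set_option autoImplicit false
set_option linter.style.haveILetI false
set_option linter.unusedSectionVars false

namespace CfsgLib.LFourThree

variable {G : Type*} [Group G]

theorem s2_three_comm : ∀ g h : S2, g ^ 3 = 1 → h ^ 3 = 1 → (g * h) ^ 3 = 1 → (g * h * h) ^ 3 = 1 →
    g * h = h * g ∧ (g = 1 ∨ h = 1 ∨ h = g ∨ h = g * g) := by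
  decide +kernel

theorem conj_neg_one : ∀ a g : S2, (a * g * a⁻¹ = -1 → g = -1) := by decide +kernel

/-- Conjugation by `x⁻¹` between the two centralisers. -/
def backHom (x : G) (z : G) :
    Subgroup.centralizer ({x * z * x⁻¹} : Set G) →* Subgroup.centralizer ({z} : Set G) where
  toFun c := ⟨x⁻¹ * c * x, by
    rw [mem_cz]
    have h := mem_cz.1 c.2
    calc x⁻¹ * (c : G) * x * z = x⁻¹ * ((c : G) * (x * z * x⁻¹)) * x := by group
      _ = x⁻¹ * ((x * z * x⁻¹) * (c : G)) * x := by rw [h]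
      _ = _ := by group⟩
  map_one' := Subtype.ext (by simp)
  map_mul' a b := Subtype.ext (by simp [mul_assoc])

namespace Local

variable {z : G} {Q : Subgroup G} {π : Subgroup.centralizer ({z} : Set G) →* S2} (L : Local z Q π)
include L

theorem transport (x : G) :
    Local (x * z * x⁻¹) (Q.map (MulAut.conj x).toMonoidHom) (π.comp (backHom x z)) := by
  have hmem : ∀ g : G, g ∈ Q.map (MulAut.conj x).toMonoidHom ↔ x⁻¹ * g * x ∈ Q := by
    intro g
    constructor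
    · rintro ⟨q, hq, rfl⟩
      simpa [mul_assoc] using hq
    · intro h
      exact ⟨_, h, by simp [mul_assoc]⟩
  have hzp : ∀ g : G, x⁻¹ * g * x ∈ Subgroup.zpowers z → g ∈ Subgroup.zpowers (x * z * x⁻¹) := by
    intro g hg
    obtain ⟨n, hn⟩ := Subgroup.mem_zpowers_iff.1 hg
    exact Subgroup.mem_zpowers_iff.2 ⟨n, by rw [conj_zpow, hn]; group⟩
  refine ⟨?_, fun g => ?_, fun c => ?_, fun g hg => ?_, ?_, ?_, fun a ha => ?_, fun a ha b hb => ?_, fun a ha hab => ?_,
    fun c hc q hq => ?_⟩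
  · rw [show x * z * x⁻¹ = MulAut.conj x z from rfl, MulEquiv.orderOf_eq, L.ord]
  · obtain ⟨c, rfl⟩ := L.surj g
    refine ⟨⟨x * c * x⁻¹, ?_⟩, congrArg π (Subtype.ext (by
      show x⁻¹ * (x * (c : G) * x⁻¹) * x = c
      group))⟩
    rw [mem_cz]
    calc x * (c : G) * x⁻¹ * (x * z * x⁻¹) = x * ((c : G) * z) * x⁻¹ := by group
      _ = x * (z * (c : G)) * x⁻¹ := by rw [mem_cz.1 c.2]
      _ = _ := by group
  · rw [hmem]; exact L.ker _
  · rw [mem_cz]
    have h := mem_cz.1 (L.le ((hmem g).1 hg))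
    calc g * (x * z * x⁻¹) = x * ((x⁻¹ * g * x) * z) * x⁻¹ := by group
      _ = x * (z * (x⁻¹ * g * x)) * x⁻¹ := by rw [h]
      _ = _ := by group
  · rw [hmem]; simpa [mul_assoc] using L.zmem
  · rw [Subgroup.card_map_of_injective (MulEquiv.injective _), L.card]
  · have h := L.exp _ ((hmem a).1 ha)
    have h' : (MulAut.conj x⁻¹ a) ^ 3 = 1 := by simpa using h
    rwa [← map_pow, EmbeddingLike.map_eq_one_iff] at h'
  · apply hzp
    have h := L.comm _ ((hmem a).1 ha) _ ((hmem b).1 hb)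
    rwa [show x⁻¹ * (a * b * a⁻¹ * b⁻¹) * x =
      x⁻¹ * a * x * (x⁻¹ * b * x) * (x⁻¹ * a * x)⁻¹ * (x⁻¹ * b * x)⁻¹ by group]
  · apply hzp
    refine L.center _ ((hmem a).1 ha) fun b hb => ?_
    have h := hab (x * b * x⁻¹) ((hmem _).2 (by simpa [mul_assoc] using hb))
    calc x⁻¹ * a * x * b = x⁻¹ * (a * (x * b * x⁻¹)) * x := by group
      _ = x⁻¹ * ((x * b * x⁻¹) * a) * x := by rw [h]
      _ = _ := by group
  · apply hzp
    have h := L.neg _ hc _ ((hmem q).1 hq)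
    simpa [backHom, mul_assoc] using h

theorem twist (a : S2) : Local z Q ((MulAut.conj a).toMonoidHom.comp π) := by
  refine ⟨L.ord, fun g => ?_, fun c => ?_, L.le, L.zmem, L.card, L.exp, L.comm, L.center, fun c hc => ?_⟩
  · obtain ⟨c, hc⟩ := L.surj (a⁻¹ * g * a)
    exact ⟨c, by simp [hc, mul_assoc]⟩
  · rw [← L.ker c]
    simp
  · exact L.neg c (conj_neg_one a _ hc)

variable [Finite G]

theorem zpow_gen {c : G} (hc : c ∈ Subgroup.zpowers z) (hc1 : c ≠ 1) : z ∈ Subgroup.zpowers c := by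
  obtain ⟨i, rfl⟩ := L.exists_pow hc
  have h3 : i % 3 = 1 ∨ i % 3 = 2 := by
    have : i % 3 ≠ 0 := fun h => hc1 (by
      rw [← orderOf_dvd_iff_pow_eq_one, L.ord]
      exact Nat.dvd_of_mod_eq_zero h)
    omega
  rcases h3 with h | h
  · exact Subgroup.mem_zpowers_iff.2 ⟨1, by rw [zpow_one]; exact ((L.pow_eq_iff (j := 1)).2 (by omega)).trans (pow_one z)⟩
  · refine Subgroup.mem_zpowers_iff.2 ⟨((2 : ℕ) : ℤ), ?_⟩
    rw [zpow_natCast, ← pow_mul]
    exact ((L.pow_eq_iff (j := 1)).2 (by omega)).trans (pow_one z)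

variable {w : G} {Q' : Subgroup G} {π' : Subgroup.centralizer ({w} : Set G) →* S2} (L' : Local w Q' π')
include L'

theorem card_cent (hw : w ∈ Q) (hwz : w ∉ Subgroup.zpowers z) :
    Nat.card (Subgroup.centralizer ({w} : Set G) ⊓ Q : Subgroup G) = 81 := by
  haveI := L.zq_normal
  let f : Q →* Multiplicative (ZMod 3) :=
    MonoidHom.mk' (fun q => Multiplicative.ofAdd (L.beta q ⟨w, hw⟩)) fun a b => by
      rw [L.beta_mul, ofAdd_add]
  have hker : f.ker.map Q.subtype = Subgroup.centralizer ({w} : Set G) ⊓ Q := by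
    ext g
    constructor
    · rintro ⟨q, hq, rfl⟩
      exact ⟨mem_cz.2 (L.beta_eq_zero.1 (ofAdd_eq_one.1 hq)), q.2⟩
    · rintro ⟨h1, h2⟩
      exact ⟨⟨g, h2⟩, ofAdd_eq_one.2 (L.beta_eq_zero.2 (mem_cz.1 h1)), rfl⟩
  have hr : Nat.card f.range ∣ 3 := by
    have h := Subgroup.card_subgroup_dvd_card f.range
    simpa using h
  have hne : f.range ≠ ⊥ := fun h => hwz (L.center w hw fun b hb => by
    have : f ⟨b, hb⟩ ∈ f.range := ⟨_, rfl⟩
    rw [h, Subgroup.mem_bot] at this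
    exact (L.beta_eq_zero.1 (ofAdd_eq_one.1 this)).symm)
  have h3 : Nat.card f.range = 3 := ((Nat.dvd_prime Nat.prime_three).1 hr).resolve_left
    fun h => hne (Subgroup.card_eq_one.1 h)
  have h := f.ker.card_mul_index
  rw [Subgroup.index_ker, h3, L.card] at h
  rw [← hker, Subgroup.card_map_of_injective Q.subtype_injective]
  omega

/-- The radicals of two such conjugates meet in an elementary abelian group of order 27. -/
theorem meet (hw : w ∈ Q) (hwz : w ∉ Subgroup.zpowers z) :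
    z ∈ Q' ∧ Nat.card (Q ⊓ Q' : Subgroup G) = 27 ∧ ∀ a ∈ Q ⊓ Q', ∀ b ∈ Q ⊓ Q', a * b = b * a := by
  classical
  set D : Subgroup G := Subgroup.centralizer ({w} : Set G) ⊓ Q with hD
  have hD81 : Nat.card D = 81 := L.card_cent L' hw hwz
  let f : D →* S2 := π'.comp (Subgroup.inclusion inf_le_left)
  have cube : ∀ a : D, f a ^ 3 = 1 := fun a => by
    rw [← map_pow, show a ^ 3 = 1 from Subtype.ext (L.exp _ a.2.2), map_one]
  have hpair : ∀ a b : D, f a * f b = f b * f a ∧ (f a = 1 ∨ f b = 1 ∨ f b = f a ∨ f b = f a * f a) :=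
    fun a b => s2_three_comm _ _ (cube a) (cube b) (by rw [← map_mul]; exact cube _)
      (by rw [← map_mul, ← map_mul]; exact cube _)
  obtain ⟨a, ha, b, hb, hab⟩ : ∃ a ∈ D, ∃ b ∈ D, a * b ≠ b * a := by
    by_contra h
    push Not at h
    have := L.abelian_le inf_le_right h
    rw [← hD, hD81] at this
    omega
  have hc : a * b * a⁻¹ * b⁻¹ ∈ Q' := by
    have e : f (⟨a, ha⟩ * ⟨b, hb⟩ * (⟨a, ha⟩ : D)⁻¹ * (⟨b, hb⟩ : D)⁻¹) = 1 := by
      rw [map_mul, map_mul, map_mul, (hpair _ _).1, map_inv, map_inv, mul_inv_cancel_right, mul_inv_cancel]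
    exact (L'.ker _).1 e
  have hzQ' : z ∈ Q' := by
    refine (Subgroup.zpowers_le.2 hc) (L.zpow_gen (L.comm a ha.2 b hb.2) fun e => hab ?_)
    rwa [mul_inv_eq_one, mul_inv_eq_iff_eq_mul] at e
  have habel : ∀ a ∈ Q ⊓ Q', ∀ b ∈ Q ⊓ Q', a * b = b * a := fun a ha b hb => by
    have h1 := L.comm a ha.1 b hb.1
    have h2 := L'.comm a ha.2 b hb.2
    by_contra hne
    have hne' : a * b * a⁻¹ * b⁻¹ ≠ 1 := fun e => hne (by rwa [mul_inv_eq_one, mul_inv_eq_iff_eq_mul] at e)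
    exact hwz ((Subgroup.zpowers_le.2 h1) (L'.zpow_gen h2 hne'))
  have hker : f.ker.map D.subtype = Q ⊓ Q' := by
    ext g
    constructor
    · rintro ⟨d, hd, rfl⟩
      exact ⟨d.2.2, (L'.ker _).1 hd⟩
    · rintro ⟨h1, h2⟩
      exact ⟨⟨g, L'.le h2, h1⟩, (L'.ker ⟨g, L'.le h2⟩).2 h2, rfl⟩
  have hr : Nat.card f.range ≤ 3 := by
    rcases em (∀ a : D, f a = 1) with h | h
    · rw [show f.range = ⊥ from MonoidHom.range_eq_bot_iff.2 (MonoidHom.ext h), Subgroup.card_bot]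
      norm_num
    · push Not at h
      obtain ⟨a, ha⟩ := h
      have hsub : f.range ≤ Subgroup.zpowers (f a) := by
        rintro _ ⟨b, rfl⟩
        rcases (hpair a b).2 with e | e | e | e
        · exact absurd e ha
        · rw [e]; exact one_mem _
        · rw [e]; exact Subgroup.mem_zpowers _
        · rw [e]; exact Subgroup.mul_mem _ (Subgroup.mem_zpowers _) (Subgroup.mem_zpowers _)
      refine (Subgroup.card_le_of_le hsub).trans ?_
      rw [Nat.card_zpowers]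
      exact orderOf_le_of_pow_eq_one (by norm_num) (cube a)
  refine ⟨hzQ', le_antisymm (L.abelian_le inf_le_left habel) ?_, habel⟩
  have h := f.ker.card_mul_index
  rw [Subgroup.index_ker, hD81] at h
  have hcd : Nat.card (Q ⊓ Q' : Subgroup G) = Nat.card f.ker := by
    rw [← hker, Subgroup.card_map_of_injective D.subtype_injective]
  rw [hcd]
  nlinarith

end Local

/-- The configuration of two conjugates with a chosen element of order three. -/
structure Pair (z w s : G) (Q Q' : Subgroup G) (π : Subgroup.centralizer ({z} : Set G) →* S2)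
    (π' : Subgroup.centralizer ({w} : Set G) →* S2) : Prop where
  L : Local z Q π
  L' : Local w Q' π'
  hw : w ∈ Q
  hwz : w ∉ Subgroup.zpowers z
  hz : z ∈ Q'
  hzw : z ∉ Subgroup.zpowers w
  card : Nat.card (Q ⊓ Q' : Subgroup G) = 27
  abel : ∀ a ∈ Q ⊓ Q', ∀ b ∈ Q ⊓ Q', a * b = b * a
  hs' : s ∈ Q'
  hs : s ∈ Subgroup.centralizer ({z} : Set G)
  pis : π ⟨s, hs⟩ = pE

theorem Local.exists_pair [Finite G] {z : G} {Q : Subgroup G} {π : Subgroup.centralizer ({z} : Set G) →* S2}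
    (L : Local z Q π) {x : G} (hx : x * z * x⁻¹ ∈ Q) (hxz : x * z * x⁻¹ ∉ Subgroup.zpowers z) :
    ∃ π₁ : Subgroup.centralizer ({z} : Set G) →* S2, ∃ s,
      Pair z (x * z * x⁻¹) s Q (Q.map (MulAut.conj x).toMonoidHom) π₁ (π.comp (backHom x z)) := by
  set w := x * z * x⁻¹
  set Q' := Q.map (MulAut.conj x).toMonoidHom
  have L' : Local w Q' (π.comp (backHom x z)) := L.transport x
  obtain ⟨hz, hcard, habel⟩ := L.meet L' hx hxz
  have hzw : z ∉ Subgroup.zpowers w := fun h =>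
    hxz ((Subgroup.zpowers_le.2 (L'.zpow_gen h L.z_ne)) (Subgroup.mem_zpowers w))
  obtain ⟨s, ⟨hsC, hs'⟩, hsQ⟩ : ∃ s ∈ Subgroup.centralizer ({z} : Set G) ⊓ Q', s ∉ Q := by
    by_contra h
    push Not at h
    have hle : Subgroup.centralizer ({z} : Set G) ⊓ Q' ≤ Q ⊓ Q' := fun g hg => ⟨h g hg, hg.2⟩
    have := Subgroup.card_le_of_le hle
    rw [L'.card_cent L hz hzw, hcard] at this
    omega
  have hπs : π ⟨s, hsC⟩ ≠ 1 := fun e => hsQ ((L.ker _).1 e)
  have h3 : π ⟨s, hsC⟩ ^ 3 = 1 := by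
    rw [← map_pow, show (⟨s, hsC⟩ : Subgroup.centralizer ({z} : Set G)) ^ 3 = 1 from
      Subtype.ext (L'.exp s hs'), map_one]
  obtain ⟨a, ha | ha⟩ := s2_three_conj _ h3 hπs
  · exact ⟨_, s, L.twist a, L', hx, hxz, hz, hzw, hcard, habel, hs', hsC, by simpa using ha⟩
  · refine ⟨_, s * s, L.twist a, L', hx, hxz, hz, hzw, hcard, habel, Q'.mul_mem hs' hs',
      Subgroup.mul_mem _ hsC hsC, ?_⟩
    show a * π (⟨s, hsC⟩ * ⟨s, hsC⟩) * a⁻¹ = pE
    rw [map_mul, show a * (π ⟨s, hsC⟩ * π ⟨s, hsC⟩) * a⁻¹ =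
      (a * π ⟨s, hsC⟩ * a⁻¹) * (a * π ⟨s, hsC⟩ * a⁻¹) by group, ha]
    decide +kernel

end CfsgLib.LFourThree
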