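import Cfsg.Agent.Lib.LFourThree.CentI

/-!
The centraliser of `uE`, and the joint centralisers of `wE` or `vE` with a further element of
order three.
-/

set_option autoImplicit false

namespace CfsgLib.LFourThree.Par

open Matrix

variable {G : Type*} [Group G] [Finite G] {φ : para →* G}

theorem A_pow (q r b c : ZMod 3) (n : ℕ) :
    U 0 q r b c 0 ^ n = U 0 (n * q) (n * r) (n * b) (n * c) 0 := by
  induction n with
  | zero => simp [U_one]
  | succ n ih =>
    rw [pow_succ, ih, U_mul]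
    congr 1 <;> push_cast <;> ring

theorem A_pow_val (q r b c k : ZMod 3) :
    U 0 q r b c 0 ^ k.val = U 0 (k * q) (k * r) (k * b) (k * c) 0 := by
  rw [A_pow, val_eq]

theorem conj_class {p q r b c t : ZMod 3} (hp : p * b * t = 0) (hne : U p q r b c t ≠ 1) {i : ℕ}
    (hi : ent p.val q.val r.val b.val c.val t.val % 6 = i) :
    ∃ k : para, k * U p q r b c t * k⁻¹ = rep i := by
  obtain ⟨k, hk⟩ := class_U hp hne
  exact ⟨k, by rw [hk, hi, mul_inv_cancel_right]⟩

theorem ent_Q : ∀ p q r : ZMod 3, ¬(p = 0 ∧ q = 0 ∧ r = 0) →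
    ent p.val q.val r.val (0 : ZMod 3).val (0 : ZMod 3).val (0 : ZMod 3).val % 6 = 0 := by
  decide +kernel

theorem ent_x : ∀ r c : ZMod 3, c ≠ 0 →
    ent (0 : ZMod 3).val (0 : ZMod 3).val r.val (0 : ZMod 3).val c.val (0 : ZMod 3).val % 6 = 1 := by
  decide +kernel

theorem ent_lift : ∀ p q r c s : ZMod 3, p ≠ 0 → s ≠ 0 → ∃ k : ZMod 3,
    ent p.val (q + k).val (r + p * (k * s)).val (0 : ZMod 3).val (c + k * s).val (s * p).val % 6 =
      4 := by
  decide +kernel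

theorem isZ_Q {p q r : ZMod 3} (h : ¬(p = 0 ∧ q = 0 ∧ r = 0)) : IsZ (U p q r 0 0 0) := by
  have hne : U p q r 0 0 0 ≠ 1 := fun e => h (by
    obtain ⟨h1, h2, h3, -⟩ := U_ext (e.trans U_one.symm)
    exact ⟨h1, h2, h3⟩)
  exact conj_class (by ring) hne (ent_Q p q r h)

theorem isZ_zE : IsZ zE := ⟨1, by simp⟩

omit [Finite G] in
theorem good2_of_good {v x : para} {n : ℕ} (h : Good φ (x * v ^ n)) : Good2 φ v x :=
  fun g hv hx => h g (by
    rw [map_mul, map_pow]
    exact (show Commute g (φ x) from hx).mul_right ((show Commute g (φ v) from hv).pow_right n))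

theorem good_u (hinj : Function.Injective φ) (hz : ZHyp φ) : Good φ uE := by
  intro g hg
  refine good2_of_plane hinj hz (v := uE) (x := uE) ?_ ?_ ?_ (fun i j => U i 0 j 0 0 0) ?_ ?_ ?_
    ?_ ?_ g hg hg
  · simp [zE, uE, U_mul]
  · simp [zE, uE, U_mul]
  · intro g h _
    obtain ⟨p, q, r, c, rfl⟩ := cent_u h
    exact ⟨_, _, _, _, _, _, rfl⟩
  · intro i j i' j'
    simp only [U_mul]
    congr 1 <;> ring
  · intro i j h
    obtain ⟨h1, -, h3, -⟩ := U_ext (h.trans U_one.symm)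
    exact ⟨h1, h3⟩
  · intro i j
    simp only [uE, U_mul]
    congr 1 <;> ring
  · intro i j
    refine ⟨0, ?_⟩
    rw [pow_zero, mul_one, mul_inv_eq_iff_eq_mul]
    simp only [uE, U_mul]
    congr 1 <;> ring
  · intro i j hij
    exact fun g _ h => good_of_isZ hz (isZ_Q (fun e => hij ⟨e.1, e.2.2⟩)) g h

/-- Two elements of the abelian group of order 81. -/
theorem good2_A (hinj : Function.Injective φ) (hz : ZHyp φ) (d e q r b c : ZMod 3)
    (hU : ∀ g, g * U 0 d 0 0 e 0 = U 0 d 0 0 e 0 * g →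
      g * U 0 q r b c 0 = U 0 q r b c 0 * g → IsU g) :
    Good2 φ (U 0 d 0 0 e 0) (U 0 q r b c 0) := by
  refine good2_of_plane hinj hz ?_ ?_ hU (fun i j => U 0 i j 0 0 0) ?_ ?_ ?_ ?_ ?_
  · simp only [zE, U_mul]; congr 1 <;> ring
  · simp only [zE, U_mul]; congr 1 <;> ring
  · intro i j i' j'
    simp only [U_mul]
    congr 1 <;> ring
  · intro i j h
    obtain ⟨-, h2, h3, -⟩ := U_ext (h.trans U_one.symm)
    exact ⟨h2, h3⟩
  · intro i j
    simp only [U_mul]
    congr 1 <;> ring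
  · intro i j
    refine ⟨0, ?_⟩
    rw [pow_zero, mul_one, mul_inv_eq_iff_eq_mul]
    simp only [U_mul]
    congr 1 <;> ring
  · intro i j hij
    exact fun g _ h => good_of_isZ hz (isZ_Q (fun e => hij ⟨e.2.1, e.2.2⟩)) g h

theorem hU_w {q r b c t : ZMod 3} (hbt : ¬(b = 0 ∧ t = 0)) {g : para} (hv : g * wE = wE * g)
    (hx : g * U 0 q r b c t = U 0 q r b c t * g) : IsU g := by
  obtain ⟨q', r', a, b', c', t', hg⟩ := cent_w hv
  have h := (comm_iff _ _).1 hx
  rw [hg, m_U, WM_mul, WM_mul] at h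
  obtain ⟨-, -, -, -, h5, -, h7⟩ := WM_ext h
  rcases tri_cases hg with ⟨_, he⟩ | ⟨ha, -⟩
  · exact ⟨_, _, _, _, _, _, he⟩
  · subst ha
    exact absurd ⟨by linear_combination h5, by linear_combination -h7⟩ hbt

theorem hU_v {s : ZMod 3} (hs : s ≠ 0) {p q r b c : ZMod 3} (hpb : ¬(p = 0 ∧ b = 0)) {g : para}
    (hv : g * vE s = vE s * g)
    (hx : g * U p q r b c (s * p) = U p q r b c (s * p) * g) : IsU g := by
  obtain ⟨p', q', r', a, b', c', hg⟩ := cent_v hs hv
  have h := (comm_iff _ _).1 hx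
  rw [hg, m_U, WM_mul, WM_mul] at h
  obtain ⟨h1, -, -, -, h5, -, -⟩ := WM_ext h
  rcases tri_cases hg with ⟨_, he⟩ | ⟨ha, -⟩
  · exact ⟨_, _, _, _, _, _, he⟩
  · subst ha
    exact absurd ⟨by linear_combination -h1, by linear_combination h5⟩ hpb

theorem lift_w {q r c : ZMod 3} (hn : U 0 q r 0 c 0 ∉ Subgroup.zpowers wE) :
    ∃ n : ℕ, IsZ (U 0 q r 0 c 0 * wE ^ n) := by
  refine ⟨(-c).val, ?_⟩
  have hp : wE ^ (-c).val = U 0 0 0 0 (-c) 0 := by
    rw [wE, A_pow_val]; simp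
  rw [hp, U_mul]
  have : U (0 + 0) (0 + 0 * 0 + q) (0 + 0 * -c + q * 0 + r) (0 + 0) (-c + 0 * 0 + c) (0 + 0) =
      U 0 q r 0 0 0 := by congr 1 <;> ring
  rw [this]
  refine isZ_Q fun h => hn ?_
  rw [h.2.1, h.2.2, show U 0 0 0 0 c 0 = wE ^ c.val by rw [wE, A_pow_val]; simp]
  exact Subgroup.npow_mem_zpowers _ _

theorem lift_v {s : ZMod 3} (hs : s ≠ 0) {q r c : ZMod 3}
    (hn : U 0 q r 0 c 0 ∉ Subgroup.zpowers (vE s)) :
    ∃ n : ℕ, IsZ (U 0 q r 0 c 0 * vE s ^ n) := by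
  have h2 : ∀ s c : ZMod 3, s ≠ 0 → s * c * s = c := by decide
  refine ⟨(-(s * c)).val, ?_⟩
  rw [vE, A_pow_val, U_mul]
  have : U (0 + 0) (-(s * c) * 1 + 0 * (-(s * c) * 0) + q)
      (-(s * c) * 0 + 0 * (-(s * c) * s) + q * 0 + r) (-(s * c) * 0 + 0)
      (-(s * c) * s + 0 * 0 + c) (0 + 0) = U 0 (q - s * c) r 0 0 0 := by
    congr 1 <;> first | linear_combination -(h2 s c hs) | ring
  rw [this]
  refine isZ_Q fun h => hn ?_
  have hq : q = s * c := sub_eq_zero.1 h.2.1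
  rw [hq, h.2.2, show U 0 (s * c) 0 0 c 0 = vE s ^ (s * c).val by
    rw [vE, A_pow_val]; simp [h2 s c hs]]
  exact Subgroup.npow_mem_zpowers _ _

theorem good2_w (hinj : Function.Injective φ) (hz : ZHyp φ) {q r b c t : ZMod 3}
    (hn : U 0 q r b c t ∉ Subgroup.zpowers wE) : Good2 φ wE (U 0 q r b c t) := by
  by_cases hbt : b = 0 ∧ t = 0
  · obtain ⟨hb, ht⟩ := hbt
    subst hb ht
    obtain ⟨n, hn'⟩ := lift_w hn
    exact good2_of_good (good_of_isZ hz hn')
  have hU : ∀ g, g * wE = wE * g → g * U 0 q r b c t = U 0 q r b c t * g → IsU g :=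
    fun g hv hx => hU_w hbt hv hx
  by_cases ht : t = 0
  · subst ht
    exact good2_A hinj hz 0 1 q r b c hU
  refine good2_of_plane hinj hz ?_ ?_ hU (fun i j => U 0 0 i j 0 0) ?_ ?_ ?_ ?_ ?_
  · simp only [zE, wE, U_mul]; congr 1 <;> ring
  · simp only [zE, U_mul]; congr 1 <;> ring
  · intro i j i' j'
    simp only [U_mul]
    congr 1 <;> ring
  · intro i j h
    obtain ⟨-, -, h3, h4, -⟩ := U_ext (h.trans U_one.symm)
    exact ⟨h3, h4⟩
  · intro i j
    simp only [wE, U_mul]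
    congr 1 <;> ring
  · intro i j
    refine ⟨(j * t).val, ?_⟩
    have hp : wE ^ (j * t).val = U 0 0 0 0 (j * t) 0 := by rw [wE, A_pow_val]; simp
    rw [hp, mul_inv_eq_iff_eq_mul]
    simp only [U_mul]
    congr 1 <;> ring
  · intro i j hij
    by_cases hj : j = 0
    · subst hj
      exact fun g _ h => good_of_isZ hz (isZ_Q (fun e => hij ⟨e.2.2, rfl⟩)) g h
    · exact good2_A hinj hz 0 1 0 i j 0 fun g hv hx => hU_w (fun e => hj e.1) hv hx

theorem good2_v (hinj : Function.Injective φ) (hz : ZHyp φ) {s : ZMod 3} (hs : s ≠ 0)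
    {p q r b c : ZMod 3} (h3 : p * b * (s * p) = 0)
    (hn : U p q r b c (s * p) ∉ Subgroup.zpowers (vE s)) :
    Good2 φ (vE s) (U p q r b c (s * p)) := by
  by_cases hp : p = 0
  · subst hp
    rw [mul_zero] at hn ⊢
    by_cases hb : b = 0
    · subst hb
      obtain ⟨n, hn'⟩ := lift_v hs hn
      exact good2_of_good (good_of_isZ hz hn')
    · exact good2_A hinj hz 1 s q r b c fun g hv hx =>
        hU_v hs (fun e => hb e.2) hv (by rwa [mul_zero])
  have hb : b = 0 := by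
    have : ∀ p b s : ZMod 3, p ≠ 0 → s ≠ 0 → p * b * (s * p) = 0 → b = 0 := by decide
    exact this p b s hp hs h3
  subst hb
  obtain ⟨k, hk⟩ := ent_lift p q r c s hp hs
  refine good2_of_good (n := k.val) ?_
  have he : U p q r 0 c (s * p) * vE s ^ k.val =
      U p (q + k) (r + p * (k * s)) 0 (c + k * s) (s * p) := by
    rw [vE, A_pow_val, U_mul]
    congr 1 <;> ring
  rw [he]
  have hne : U p (q + k) (r + p * (k * s)) 0 (c + k * s) (s * p) ≠ 1 :=
    fun e => hp (U_ext (e.trans U_one.symm)).1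
  obtain ⟨g, hg⟩ := conj_class (by ring) hne hk
  exact good_of_conj hg (good_u hinj hz)

end CfsgLib.LFourThree.Par
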