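import Cfsg.Agent.Lib.LFourThree.ParaModel

/-!
The six classes of elements of order three of the parabolic `3^3 : SL(3,3)`, with a table of
conjugating elements for the elements of the unipotent triangular group.
-/

set_option autoImplicit false

namespace CfsgLib.LFourThree.Par

open Matrix

/-- Class and conjugating element, encoded, of the unipotent triangular elements. -/
def tbl : List (List ℕ) := [
  [0, 1072279, 1068391, 1076167, 1084915, 1080541, 1090423, 1099009, 1094473, 446311, 1076171, 1089455, 1430461, 1077143, 1090427, 1799011, 1154903, 1169159, 761239, 2152175, 2142131, 1784755, 2232851, 2143103, 2926369, 2230907, 2181497],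
  [1076166, 1072327, 1068421, 1076179, 1084927, 1080553, 1090447, 1099039, 1094491, 748119, 1076207, 1089473, 2926377, 1077179, 1090445, 1784763, 1154993, 1169231, 761252, 2152211, 2142149, 1784768, 2232887, 2143175, 2926382, 2230943, 2181569],
  [2142126, 1072309, 1068427, 1076173, 1084921, 1080577, 2230915, 1099021, 2235289, 433190, 1076189, 1089491, 1496072, 1077161, 1090463, 2558954, 1155029, 1169195, 446325, 2152193, 2142167, 2558955, 2232923, 2143139, 1430475, 2230979, 2181641],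
  [446310, 1076170, 2142130, 1076168, 1077142, 2143102, 1076169, 1076656, 2142616, 446323, 1076183, 1089467, 1430462, 1077173, 1090475, 1784757, 1155005, 1169243, 761245, 2152181, 2142191, 1784756, 2233001, 2143181, 1430463, 2230985, 2142713],
  [1430460, 1076206, 2181496, 1076180, 1077178, 2181010, 1076175, 1076692, 2181982, 761241, 1076219, 1089485, 1430473, 1077155, 1090439, 2532710, 1076687, 1169207, 761240, 2231921, 2142209, 2532711, 2232929, 2221013, 2926375, 2230913, 2181557],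
  [2497392, 1154902, 2142166, 1154900, 1157332, 2143138, 1076181, 1076668, 2142652, 446312, 1076201, 1132865, 2926371, 1077191, 1090457, 2558965, 1154915, 1169171, 446313, 2231903, 2142227, 1784761, 2232857, 2220923, 2926370, 2230949, 2142695],
  [761238, 2152174, 1089454, 1090425, 2153146, 1090426, 1090424, 2152660, 1089940, 446317, 1076177, 1089461, 2926383, 1077185, 1090451, 1799012, 1076681, 1169255, 761251, 2152187, 2142143, 1799013, 2232989, 2143259, 2860760, 2230955, 2142647],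
  [1784754, 2230978, 1089472, 1090437, 2231950, 1090444, 1090448, 2232922, 1089958, 761253, 1076213, 1132787, 1430474, 1077167, 1090469, 1799035, 1154909, 1130393, 774362, 2231981, 2142161, 1784767, 2232863, 2143115, 1430469, 2230991, 2181653],
  [2926368, 2230906, 1089496, 2230905, 2231878, 1090462, 2230904, 2232850, 1089964, 446324, 1076195, 1089497, 1430467, 1077149, 1090433, 1784769, 1154999, 1169183, 459435, 2231909, 2142179, 1876610, 2233007, 2143241, 2926381, 2230919, 2181509],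
  [134298, 1068393, 1068392, 1068232, 1068394, 1068556, 2132086, 2132248, 2173354, 361102, 0, 0, 1422526, 0, 0, 2488324, 0, 0, 730024, 0, 0, 1776820, 0, 0, 2841160, 0, 0],
  [1194264, 1110675, 1068422, 1068244, 1068406, 1068568, 2169994, 2171614, 2173234, 399982, 0, 0, 1448800, 0, 0, 2527690, 0, 0, 755734, 0, 0, 1789990, 0, 0, 2933116, 0, 0],
  [2259900, 1068423, 1068428, 1068256, 1150042, 1150204, 2210818, 2209522, 2212600, 438862, 0, 0, 1501258, 0, 0, 2564626, 0, 0, 807838, 0, 0, 1855552, 0, 0, 2919892, 0, 0],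
  [536382, 1080544, 2186026, 1081354, 2185378, 1080542, 2146666, 1080543, 1081192, 374224, 0, 0, 1435648, 0, 0, 2501446, 0, 0, 729976, 0, 0, 1789942, 0, 0, 2854768, 0, 0],
  [1558440, 1080592, 2185870, 1081402, 2185222, 1080554, 2183116, 1122825, 1081240, 413590, 0, 0, 1422538, 0, 0, 2540812, 0, 0, 769342, 0, 0, 1803094, 0, 0, 2893648, 0, 0],
  [2624238, 1162192, 2225236, 1081396, 2223130, 1080578, 2223940, 1080555, 1081204, 452956, 0, 0, 1514380, 0, 0, 2580178, 0, 0, 807736, 0, 0, 1868674, 0, 0, 2933014, 0, 0],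
  [891000, 2156548, 1093828, 1094476, 1094475, 2200102, 2156872, 1094152, 1094474, 387346, 0, 0, 1448770, 0, 0, 2514568, 0, 0, 742612, 0, 0, 1803064, 0, 0, 2933110, 0, 0],
  [1911600, 2235364, 1093858, 1094506, 1094487, 2199964, 2237146, 1094182, 1094492, 413746, 0, 0, 1435696, 0, 0, 2553934, 0, 0, 755854, 0, 0, 1776832, 0, 0, 2906770, 0, 0],
  [3053214, 2235280, 1093876, 1094518, 2235279, 2236414, 2237062, 1094164, 2235278, 453058, 0, 0, 1527502, 0, 0, 2501494, 0, 0, 821344, 0, 0, 1789984, 0, 0, 2944192, 0, 0],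
  [250938, 1072280, 1072281, 2138404, 2138566, 2138728, 1072120, 1072282, 1072444, 732448, 0, 0, 2846506, 0, 0, 1780708, 0, 0, 366934, 0, 0, 2491726, 0, 0, 1426414, 0, 0],
  [1312362, 1072328, 1072311, 2177770, 2214442, 2216062, 1072126, 1072288, 1072450, 772408, 0, 0, 2938456, 0, 0, 1793872, 0, 0, 405814, 0, 0, 2530120, 0, 0, 1465780, 0, 0],
  [2378160, 1072310, 1072329, 2217136, 2214382, 2216002, 1072132, 1072294, 1072480, 811234, 0, 0, 2859670, 0, 0, 1833346, 0, 0, 458314, 0, 0, 2517994, 0, 0, 1439548, 0, 0],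
  [684936, 1084918, 2150878, 2151526, 1084916, 1086052, 1085242, 2151202, 1084917, 732406, 0, 0, 2859628, 0, 0, 1793830, 0, 0, 379570, 0, 0, 2504848, 0, 0, 1439536, 0, 0],
  [1667628, 1084960, 2190244, 2189434, 1084928, 1086094, 1085284, 2189110, 1127199, 772258, 0, 0, 2898994, 0, 0, 1833196, 0, 0, 405928, 0, 0, 2543242, 0, 0, 1478902, 0, 0],
  [2733426, 1163650, 2150920, 2151568, 1163648, 1086088, 1085254, 2151244, 1084929, 811138, 0, 0, 2938360, 0, 0, 1872562, 0, 0, 458302, 0, 0, 2582608, 0, 0, 1518268, 0, 0],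
  [1038744, 2160922, 1098202, 2164648, 1099012, 1099011, 1098364, 1099010, 2164486, 746014, 0, 0, 2938372, 0, 0, 1806952, 0, 0, 379612, 0, 0, 2517970, 0, 0, 1452658, 0, 0],
  [2020950, 2239732, 1098226, 2204014, 1099036, 1099023, 1098388, 1099040, 2241838, 785380, 0, 0, 2912116, 0, 0, 1780714, 0, 0, 432544, 0, 0, 2582704, 0, 0, 1439578, 0, 0],
  [3086748, 2239654, 1098238, 2243380, 1177744, 1099041, 1098394, 1099022, 2241760, 824260, 0, 0, 2951482, 0, 0, 1793842, 0, 0, 458398, 0, 0, 2504890, 0, 0, 1531390, 0, 0]]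

/-- The matrix of a code. -/
def mOf : List ℕ → Mat
  | [a1, a2, a3, b1, b2, b3, c1, c2, c3, d1, d2, d3] =>
    !![1, (a1 : ZMod 3), (a2 : ZMod 3), (a3 : ZMod 3); 0, (b1 : ZMod 3), (b2 : ZMod 3), (b3 : ZMod 3);
      0, (c1 : ZMod 3), (c2 : ZMod 3), (c3 : ZMod 3); 0, (d1 : ZMod 3), (d2 : ZMod 3), (d3 : ZMod 3)]
  | _ => 0

/-- The product of codes. -/
def mulc : List ℕ → List ℕ → List ℕ
  | [a1, a2, a3, b1, b2, b3, c1, c2, c3, d1, d2, d3],
      [x1, x2, x3, p1, p2, p3, q1, q2, q3, r1, r2, r3] =>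
    [(x1 + a1 * p1 + a2 * q1 + a3 * r1) % 3, (x2 + a1 * p2 + a2 * q2 + a3 * r2) % 3,
      (x3 + a1 * p3 + a2 * q3 + a3 * r3) % 3,
      (b1 * p1 + b2 * q1 + b3 * r1) % 3, (b1 * p2 + b2 * q2 + b3 * r2) % 3,
      (b1 * p3 + b2 * q3 + b3 * r3) % 3,
      (c1 * p1 + c2 * q1 + c3 * r1) % 3, (c1 * p2 + c2 * q2 + c3 * r2) % 3,
      (c1 * p3 + c2 * q3 + c3 * r3) % 3,
      (d1 * p1 + d2 * q1 + d3 * r1) % 3, (d1 * p2 + d2 * q2 + d3 * r2) % 3,
      (d1 * p3 + d2 * q3 + d3 * r3) % 3]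
  | _, _ => []

theorem mOf_mulc {a1 a2 a3 b1 b2 b3 c1 c2 c3 d1 d2 d3 x1 x2 x3 p1 p2 p3 q1 q2 q3 r1 r2 r3 : ℕ} :
    mOf (mulc [a1, a2, a3, b1, b2, b3, c1, c2, c3, d1, d2, d3]
        [x1, x2, x3, p1, p2, p3, q1, q2, q3, r1, r2, r3]) =
      mOf [a1, a2, a3, b1, b2, b3, c1, c2, c3, d1, d2, d3] *
        mOf [x1, x2, x3, p1, p2, p3, q1, q2, q3, r1, r2, r3] := by
  ext i j
  fin_cases i <;> fin_cases j <;>
    simp [mOf, mulc, Matrix.mul_apply, Fin.sum_univ_four]

/-- The code of a table entry. -/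
def gCode (n : ℕ) : List ℕ :=
  [n / 6 % 3, n / 18 % 3, n / 54 % 3, n / 162 % 3, n / 486 % 3, n / 1458 % 3, n / 4374 % 3,
    n / 13122 % 3, n / 39366 % 3, n / 118098 % 3, n / 354294 % 3, n / 1062882 % 3]

/-- Three times the determinant, reduced. -/
def detc : List ℕ → ℕ
  | [_, _, _, b1, b2, b3, c1, c2, c3, d1, d2, d3] =>
    (b1 * (c2 * d3 + 2 * (c3 * d2)) + 2 * (b2 * (c1 * d3 + 2 * (c3 * d1))) +
      b3 * (c1 * d2 + 2 * (c2 * d1))) % 3
  | _ => 0

/-- The representatives. -/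
def rep : ℕ → para
  | 0 => zE
  | 1 => wE
  | 2 => vE 1
  | 3 => vE 2
  | 4 => uE
  | _ => xE

/-- Their codes. -/
def repCode : ℕ → List ℕ
  | 0 => [0, 0, 1, 1, 0, 0, 0, 1, 0, 0, 0, 1]
  | 1 => [0, 0, 0, 1, 0, 1, 0, 1, 0, 0, 0, 1]
  | 2 => [0, 1, 0, 1, 0, 1, 0, 1, 0, 0, 0, 1]
  | 3 => [0, 1, 0, 1, 0, 2, 0, 1, 0, 0, 0, 1]
  | 4 => [0, 1, 0, 1, 0, 0, 0, 1, 1, 0, 0, 1]
  | _ => [0, 0, 0, 1, 1, 0, 0, 1, 1, 0, 0, 1]

theorem m_rep (i : ℕ) : m (rep i) = mOf (repCode i) := by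
  rcases i with _ | _ | _ | _ | _ | i <;>
  · ext a b
    fin_cases a <;> fin_cases b <;> rfl

/-- The table entry of an element. -/
def ent (p q r b c t : ℕ) : ℕ := (tbl.getD (p * 9 + q * 3 + r) []).getD (b * 9 + c * 3 + t) 0

/-- The table is correct. -/
def okAt (p q r b c t : ℕ) : Bool :=
  if p * b * t % 3 = 0 ∧ ¬(p = 0 ∧ q = 0 ∧ r = 0 ∧ b = 0 ∧ c = 0 ∧ t = 0) then
    let n := ent p q r b c t
    decide (detc (gCode (n)) = 1) &&
      (mulc (gCode n) [p, q, r, 1, b, c, 0, 1, t, 0, 0, 1] == mulc (repCode (n % 6)) (gCode n))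
  else true

theorem ok_zero : ∀ q < 3, ∀ r < 3, ∀ b < 3, ∀ c < 3, ∀ t < 3, okAt 0 q r b c t = true := by
  decide +kernel

theorem ok_one : ∀ q < 3, ∀ r < 3, ∀ b < 3, ∀ c < 3, ∀ t < 3, okAt 1 q r b c t = true := by
  decide +kernel

theorem ok_two : ∀ q < 3, ∀ r < 3, ∀ b < 3, ∀ c < 3, ∀ t < 3, okAt 2 q r b c t = true := by
  decide +kernel

theorem det_mOf {a1 a2 a3 b1 b2 b3 c1 c2 c3 d1 d2 d3 : ℕ}
    (h : detc [a1, a2, a3, b1, b2, b3, c1, c2, c3, d1, d2, d3] = 1) :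
    (mOf [a1, a2, a3, b1, b2, b3, c1, c2, c3, d1, d2, d3]).det = 1 := by
  have h' := congrArg (fun x : ℕ => (x : ZMod 3)) h
  simp [detc] at h'
  rw [Matrix.det_succ_column_zero]
  simp [mOf, Fin.sum_univ_succ, Matrix.det_fin_three, Fin.succAbove]
  have key : (2 : ZMod 3) = -1 := by decide
  rw [key] at h'
  linear_combination h'

theorem val_eq (p : ZMod 3) : ((p.val : ℕ) : ZMod 3) = p := ZMod.natCast_zmod_val p

theorem class_U {p q r b c t : ZMod 3} (hp : p * b * t = 0) (hne : U p q r b c t ≠ 1) :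
    ∃ g : para,
      g * U p q r b c t = rep (ent p.val q.val r.val b.val c.val t.val % 6) * g := by
  have hc1 : p.val * b.val * t.val % 3 = 0 := by
    rw [← ZMod.val_natCast 3, Nat.cast_mul, Nat.cast_mul, val_eq, val_eq, val_eq, hp, ZMod.val_zero]
  have hc2 : ¬(p.val = 0 ∧ q.val = 0 ∧ r.val = 0 ∧ b.val = 0 ∧ c.val = 0 ∧ t.val = 0) := by
    rintro ⟨h1, h2, h3, h4, h5, h6⟩
    simp only [ZMod.val_eq_zero] at h1 h2 h3 h4 h5 h6
    exact hne (by rw [h1, h2, h3, h4, h5, h6, U_one])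
  have hall : okAt p.val q.val r.val b.val c.val t.val = true := by
    have hp3 := ZMod.val_lt p
    rcases (by omega : p.val = 0 ∨ p.val = 1 ∨ p.val = 2) with h | h | h <;> rw [h]
    exacts [ok_zero _ (ZMod.val_lt q) _ (ZMod.val_lt r) _ (ZMod.val_lt b) _ (ZMod.val_lt c) _
      (ZMod.val_lt t), ok_one _ (ZMod.val_lt q) _ (ZMod.val_lt r) _ (ZMod.val_lt b) _
      (ZMod.val_lt c) _ (ZMod.val_lt t), ok_two _ (ZMod.val_lt q) _ (ZMod.val_lt r) _
      (ZMod.val_lt b) _ (ZMod.val_lt c) _ (ZMod.val_lt t)]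
  rw [okAt, if_pos ⟨hc1, hc2⟩] at hall
  simp only [Bool.and_eq_true, decide_eq_true_eq, beq_iff_eq] at hall
  obtain ⟨hd, he⟩ := hall
  set n := ent p.val q.val r.val b.val c.val t.val
  let g : para := ⟨⟨mOf (gCode n), det_mOf hd⟩, fun i => by fin_cases i <;> rfl⟩
  refine ⟨g, m_inj ?_⟩
  have h := congrArg mOf he
  rw [m_mul, m_mul, m_U, m_rep]
  have hU : WM p q r 1 b c t =
      mOf [p.val, q.val, r.val, 1, b.val, c.val, 0, 1, t.val, 0, 0, 1] := by
    ext i j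
    fin_cases i <;> fin_cases j <;> simp [WM, mOf, val_eq]
  rw [hU]
  have hrep : ∀ i, ∃ x1 x2 x3 p1 p2 p3 q1 q2 q3 r1 r2 r3, repCode i =
      [x1, x2, x3, p1, p2, p3, q1, q2, q3, r1, r2, r3] := by
    intro i
    rcases i with _ | _ | _ | _ | _ | i <;>
      exact ⟨_, _, _, _, _, _, _, _, _, _, _, _, rfl⟩
  obtain ⟨x1, x2, x3, p1, p2, p3, q1, q2, q3, r1, r2, r3, hr⟩ := hrep (n % 6)
  show mOf (gCode n) * _ = _ * mOf (gCode n)
  rw [hr] at h ⊢
  simp only [gCode] at h ⊢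
  rwa [mOf_mulc, mOf_mulc] at h

end CfsgLib.LFourThree.Par
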