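import Cfsg.Agent.Lib.LFourThree.Basic
import Cfsg.Agent.Lib.Classical.Card

/-!
The parabolic `3^3 : SL(3,3)` as a group of matrices: the triangular elements, the six classes of
elements of order three, and the centralisers of their representatives.
-/

set_option autoImplicit false

namespace CfsgLib.LFourThree.Par

open Matrix

abbrev Mat : Type := Matrix (Fin 4) (Fin 4) (ZMod 3)

/-- The matrix of an element of the parabolic. -/
def m (g : para) : Mat := g.1.1

theorem m_inj {g h : para} (hh : m g = m h) : g = h :=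
  Subtype.ext (Subtype.ext hh)

theorem m_mul (g h : para) : m (g * h) = m g * m h := rfl

theorem m_one : m 1 = 1 := rfl

theorem comm_iff (g h : para) : g * h = h * g ↔ m g * m h = m h * m g :=
  ⟨fun e => by rw [← m_mul, e, m_mul], fun e => m_inj (by rw [m_mul, m_mul, e])⟩

/-- A triangular element. -/
def WM (p q r a b c t : ZMod 3) : Mat := !![1, p, q, r; 0, a, b, c; 0, 0, 1, t; 0, 0, 0, a]

theorem WM_mul (p q r a b c t p' q' r' a' b' c' t' : ZMod 3) :
    WM p q r a b c t * WM p' q' r' a' b' c' t' =
      WM (p' + p * a') (q' + p * b' + q) (r' + p * c' + q * t' + r * a') (a * a')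
        (a * b' + b) (a * c' + b * t' + c * a') (t' + t * a') := by
  ext i j
  fin_cases i <;> fin_cases j <;>
    simp [WM, Matrix.mul_apply, Fin.sum_univ_four] <;> ring

theorem WM_ext {p q r a b c t p' q' r' a' b' c' t' : ZMod 3}
    (h : WM p q r a b c t = WM p' q' r' a' b' c' t') :
    p = p' ∧ q = q' ∧ r = r' ∧ a = a' ∧ b = b' ∧ c = c' ∧ t = t' :=
  ⟨congrFun (congrFun h 0) 1, congrFun (congrFun h 0) 2, congrFun (congrFun h 0) 3,
    congrFun (congrFun h 1) 1, congrFun (congrFun h 1) 2, congrFun (congrFun h 1) 3,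
    congrFun (congrFun h 2) 3⟩

theorem WM_one : WM 0 0 0 1 0 0 0 = 1 := by
  ext i j
  fin_cases i <;> fin_cases j <;> rfl

theorem WM_det (p q r a b c t : ZMod 3) : (WM p q r a b c t).det = a * a := by
  simp [WM, Matrix.det_succ_row_zero, Fin.sum_univ_succ, Fin.succAbove]

theorem WM_col (p q r a b c t : ZMod 3) (i : Fin 4) :
    WM p q r a b c t i 0 = (1 : Mat) i 0 := by
  fin_cases i <;> rfl

/-- The unipotent triangular elements. -/
def U (p q r b c t : ZMod 3) : para :=
  ⟨⟨WM p q r 1 b c t, by rw [WM_det, mul_one]⟩, WM_col p q r 1 b c t⟩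

theorem m_U (p q r b c t : ZMod 3) : m (U p q r b c t) = WM p q r 1 b c t := rfl

theorem U_mul (p q r b c t p' q' r' b' c' t' : ZMod 3) :
    U p q r b c t * U p' q' r' b' c' t' =
      U (p' + p) (q' + p * b' + q) (r' + p * c' + q * t' + r) (b' + b) (c' + b * t' + c) (t' + t) := by
  apply m_inj
  simp [m_mul, m_U, WM_mul]

theorem U_one : U 0 0 0 0 0 0 = 1 := m_inj WM_one

theorem U_ext {p q r b c t p' q' r' b' c' t' : ZMod 3}
    (h : U p q r b c t = U p' q' r' b' c' t') :
    p = p' ∧ q = q' ∧ r = r' ∧ b = b' ∧ c = c' ∧ t = t' := by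
  have := WM_ext (congrArg m h)
  tauto

/-- `diag (1,-1,1,-1)`. -/
def jE : para :=
  ⟨⟨WM 0 0 0 2 0 0 0, by rw [WM_det]; rfl⟩, WM_col 0 0 0 2 0 0 0⟩

theorem m_jE : m jE = WM 0 0 0 2 0 0 0 := rfl

/-! ### The representatives -/

def zE : para := U 0 0 1 0 0 0
def wE : para := U 0 0 0 0 1 0
def vE (s : ZMod 3) : para := U 0 1 0 0 s 0
def uE : para := U 0 1 0 0 0 1
def xE : para := U 0 0 0 1 0 1

theorem zE_val : (zE : SL4) = root 0 3 1 := by
  apply Subtype.ext
  rw [root, CfsgLib.Schur.SLFam.coe_tv (by decide : (0 : Fin 4) ≠ 3)]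
  show WM 0 0 1 1 0 0 0 = _
  ext i j
  fin_cases i <;> fin_cases j <;> rfl

/-! ### Centralisers of the representatives -/

theorem entries {g h : para} (e : g * h = h * g) (i j : Fin 4) :
    ∑ k, m g i k * m h k j = ∑ k, m h i k * m g k j :=
  congrFun (congrFun ((comm_iff g h).1 e) i) j

theorem col0 (g : para) (i : Fin 4) : m g i 0 = (1 : Mat) i 0 := g.2 i

theorem shape {g : para} {p q r a b c t : ZMod 3} (h : m g = WM p q r a b c t) : a * a = 1 := by
  have := g.1.2
  change (m g).det = 1 at this
  rwa [h, WM_det] at this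

theorem shape_U {g : para} {p q r b c t : ZMod 3} (h : m g = WM p q r 1 b c t) :
    g = U p q r b c t :=
  m_inj h

/-- A triangular element of the parabolic with equal second and fourth diagonal entries. -/
theorem shape_tri {g : para} (h21 : m g 2 1 = 0) (h31 : m g 3 1 = 0) (h32 : m g 3 2 = 0)
    (h33 : m g 3 3 = m g 1 1) :
    m g = WM (m g 0 1) (m g 0 2) (m g 0 3) (m g 1 1) (m g 1 2) (m g 1 3) (m g 2 3) := by
  have hd := g.1.2
  change (m g).det = 1 at hd
  rw [Matrix.det_of_upperTriangular (M := m g) (fun i j hij => by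
    fin_cases i <;> fin_cases j <;> first
      | exact absurd hij (by decide)
      | exact h21 | exact h31 | exact h32 | exact col0 g _)] at hd
  simp [Fin.prod_univ_four, col0 g 0, h33] at hd
  have key : ∀ a d : ZMod 3, a * d * a = 1 → d = 1 := by decide
  have h22 := key _ _ hd
  ext i j
  fin_cases i <;> fin_cases j <;> first
    | rfl | exact col0 g _ | exact h21 | exact h31 | exact h32 | exact h33 | exact h22

theorem cent_w {g : para} (e : g * wE = wE * g) :
    ∃ q r a b c t, m g = WM 0 q r a b c t := by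
  have h01 := entries e 0 3
  have h13 := entries e 1 3
  have h21 := entries e 2 3
  have h31 := entries e 1 1
  have h32 := entries e 1 2
  simp [wE, m_U, WM, Fin.sum_univ_four, col0 g] at h01 h13 h21 h31 h32
  refine ⟨m g 0 2, m g 0 3, m g 1 1, m g 1 2, m g 1 3, m g 2 3,
    (shape_tri h21 h31 h32 ?_).trans ?_⟩
  · linear_combination -h13
  · rw [h01]

theorem cent_v {s : ZMod 3} (hs : s ≠ 0) {g : para} (e : g * vE s = vE s * g) :
    ∃ p q r a b c, m g = WM p q r a b c (s * p) := by
  have hs' : ∀ s x y : ZMod 3, s ≠ 0 → (s * x = s * y → x = y) ∧ (s * x = 0 → x = 0) := by decide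
  have h01 := entries e 0 3
  have h13 := entries e 1 3
  have h21 := entries e 0 1
  have h31 := entries e 1 1
  have h32 := entries e 1 2
  simp [vE, m_U, WM, Fin.sum_univ_four, col0 g, hs] at h01 h13 h21 h31 h32
  refine ⟨m g 0 1, m g 0 2, m g 0 3, m g 1 1, m g 1 2, m g 1 3,
    (shape_tri h21 h31 h32 ?_).trans ?_⟩
  · refine (hs' s _ _ hs).1 ?_
    linear_combination -h13
  · rw [show s * m g 0 1 = m g 2 3 by linear_combination h01]

theorem cent_u {g : para} (e : g * uE = uE * g) :
    ∃ p q r c, g = U p q r 0 c q := by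
  have h03 := entries e 0 3
  have h12 := entries e 1 3
  have h21 := entries e 0 1
  have h22 := entries e 0 2
  have h31 := entries e 2 1
  have h32 := entries e 2 2
  have h33 := entries e 2 3
  simp [uE, m_U, WM, Fin.sum_univ_four, col0 g] at h03 h12 h21 h22 h31 h32 h33
  have hd := g.1.2
  change (m g).det = 1 at hd
  rw [Matrix.det_of_upperTriangular (M := m g) (fun i j hij => by
    fin_cases i <;> fin_cases j <;> first
      | exact absurd hij (by decide)
      | exact h21 | exact h31 | exact h32 | exact col0 g _)] at hd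
  have h22' : m g 2 2 = 1 := by linear_combination -h22
  have h33' : m g 3 3 = 1 := by linear_combination h22' - h33
  simp [Fin.prod_univ_four, col0 g 0, h22', h33'] at hd
  refine ⟨m g 0 1, m g 0 2, m g 0 3, m g 1 3, shape_U ((shape_tri h21 h31 h32 ?_).trans ?_)⟩
  · rw [h33', hd]
  · rw [hd, h12, show m g 2 3 = m g 0 2 by linear_combination -h03]

theorem cent_x {g : para} (e : g * xE = xE * g) :
    ∃ r b c, g = U 0 0 r b c b := by
  have h01 := entries e 0 2
  have h02 := entries e 0 3
  have h11 := entries e 1 2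
  have h12 := entries e 1 3
  have h21 := entries e 1 1
  have h31 := entries e 2 1
  have h32 := entries e 2 2
  have h22 := entries e 2 3
  simp [xE, m_U, WM, Fin.sum_univ_four, col0 g] at h01 h02 h11 h12 h21 h31 h32 h22
  replace h32 : m g 3 2 = 0 := by linear_combination h21 - h32
  have hd := g.1.2
  change (m g).det = 1 at hd
  rw [Matrix.det_of_upperTriangular (M := m g) (fun i j hij => by
    fin_cases i <;> fin_cases j <;> first
      | exact absurd hij (by decide)
      | exact h21 | exact h31 | exact h32 | exact col0 g _)] at hd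
  have h22' : m g 2 2 = m g 1 1 := by linear_combination -h11
  have h33' : m g 3 3 = m g 1 1 := by linear_combination h22' - h22
  simp [Fin.prod_univ_four, col0 g 0, h22', h33'] at hd
  have key : ∀ a : ZMod 3, a * a * a = 1 → a = 1 := by decide
  have ha := key _ hd
  refine ⟨m g 0 3, m g 1 2, m g 1 3, shape_U ((shape_tri h21 h31 h32 h33').trans ?_)⟩
  rw [ha, h01, h02, show m g 2 3 = m g 1 2 by linear_combination -h12]

theorem cent_z {g : para} {p q r a b c t : ZMod 3} (h : m g = WM p q r a b c t)
    (e : g * zE = zE * g) : a = 1 := by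
  have h' := (comm_iff g zE).1 e
  rw [h, zE, m_U, WM_mul, WM_mul] at h'
  have := (WM_ext h').2.2.1
  linear_combination -this

end CfsgLib.LFourThree.Par
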