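import Cfsg.Agent.Lib.LFourThree.ParaClass

/-!
Elements of order three of the parabolic `3^3 : SL(3,3)`: each is conjugate to one of six
representatives.
-/

set_option autoImplicit false

namespace CfsgLib.LFourThree.Par

open Matrix

theorem three_zero : (3 : ZMod 3) = 0 := by decide

theorem U_cube (p q r b c t : ZMod 3) : U p q r b c t ^ 3 = U 0 0 (p * b * t) 0 0 0 := by
  rw [pow_succ, pow_two, U_mul, U_mul]
  congr 1
  · linear_combination p * three_zero
  · linear_combination (q + p * b) * three_zero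
  · linear_combination (r + p * c + q * t) * three_zero
  · linear_combination b * three_zero
  · linear_combination (c + b * t) * three_zero
  · linear_combination t * three_zero

theorem U_pow_nine (p q r b c t : ZMod 3) : U p q r b c t ^ 9 = 1 := by
  rw [show (9 : ℕ) = 3 * 3 from rfl, pow_mul, U_cube, U_cube]
  simp only [mul_zero]
  exact U_one

theorem cube_eq_one_iff {p q r b c t : ZMod 3} : U p q r b c t ^ 3 = 1 ↔ p * b * t = 0 := by
  rw [U_cube]
  exact ⟨fun h => (U_ext (h.trans U_one.symm)).2.2.1, fun h => by rw [h, U_one]⟩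

/-- The unipotent triangular subgroup. -/
def UGrp : Subgroup para where
  carrier := {g | ∃ p q r b c t, g = U p q r b c t}
  one_mem' := ⟨0, 0, 0, 0, 0, 0, U_one.symm⟩
  mul_mem' := by
    rintro _ _ ⟨p, q, r, b, c, t, rfl⟩ ⟨p', q', r', b', c', t', rfl⟩
    exact ⟨_, _, _, _, _, _, U_mul ..⟩
  inv_mem' := by
    rintro _ ⟨p, q, r, b, c, t, rfl⟩
    refine ⟨-p, p * b - q, p * c - p * b * t + q * t - r, -b, b * t - c, -t,
      inv_eq_of_mul_eq_one_right ?_⟩
    rw [U_mul, ← U_one]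
    congr 1 <;> ring

theorem mem_UGrp (p q r b c t : ZMod 3) : U p q r b c t ∈ UGrp := ⟨p, q, r, b, c, t, rfl⟩

theorem UGrp_card : Nat.card UGrp = 729 := by
  let f : ZMod 3 × ZMod 3 × ZMod 3 × ZMod 3 × ZMod 3 × ZMod 3 → UGrp :=
    fun x => ⟨U x.1 x.2.1 x.2.2.1 x.2.2.2.1 x.2.2.2.2.1 x.2.2.2.2.2, mem_UGrp ..⟩
  have hf : Function.Bijective f := by
    refine ⟨fun x y h => ?_, ?_⟩
    · obtain ⟨h1, h2, h3, h4, h5, h6⟩ := U_ext (congrArg Subtype.val h)
      exact Prod.ext h1 (Prod.ext h2 (Prod.ext h3 (Prod.ext h4 (Prod.ext h5 h6))))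
    · rintro ⟨_, p, q, r, b, c, t, rfl⟩
      exact ⟨(p, q, r, b, c, t), rfl⟩
  rw [← Nat.card_eq_of_bijective f hf]
  simp

theorem card_SL4 : Nat.card SL4 = 12130560 := by
  have h := CfsgLib.Classical.sub_one_mul_card_SL (F := ZMod 3) (n := 4) (by omega)
  rw [ZMod.card, Fin.prod_univ_four] at h
  norm_num at h
  show Nat.card (Matrix.SpecialLinearGroup (Fin 4) (ZMod 3)) = _
  rw [Nat.card_eq_fintype_card]
  omega

theorem UGrp_index : ¬ (3 ∣ UGrp.index) := by
  intro h
  have h1 := UGrp.card_mul_index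
  rw [UGrp_card] at h1
  have h2 := Subgroup.card_subgroup_dvd_card para
  rw [card_SL4, ← h1] at h2
  have h3 : 729 * 3 ∣ 12130560 := (mul_dvd_mul_left 729 h).trans h2
  norm_num at h3

theorem UGrp_pGroup : IsPGroup 3 UGrp := IsPGroup.of_card (n := 6) (by rw [UGrp_card]; norm_num)

/-- Every element of order three is conjugate to one of the representatives. -/
theorem exists_class {x : para} (hx : x ^ 3 = 1) (hne : x ≠ 1) :
    ∃ (g : para) (i : ℕ), i < 6 ∧ g * x * g⁻¹ = rep i := by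
  have : Fact (Nat.Prime 3) := ⟨Nat.prime_three⟩
  have hz : IsPGroup 3 (Subgroup.zpowers x) := IsPGroup.of_card (n := 1) (by
    rw [Nat.card_zpowers, orderOf_eq_prime hx hne, pow_one])
  obtain ⟨P, hP⟩ := hz.exists_le_sylow
  obtain ⟨k, hk⟩ := MulAction.exists_smul_eq para P (UGrp_pGroup.toSylow UGrp_index)
  have hmem : k * x * k⁻¹ ∈ UGrp := by
    have h : (k * x * k⁻¹) ∈ ((k • P : Sylow 3 para) : Subgroup para) := by
      rw [Sylow.coe_subgroup_smul]
      refine ⟨x, hP (Subgroup.mem_zpowers x), ?_⟩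
      rfl
    rwa [hk] at h
  obtain ⟨p, q, r, b, c, t, he⟩ := hmem
  have h3 : U p q r b c t ^ 3 = 1 := by
    rw [← he, ← MulAut.conj_apply, ← map_pow, hx, map_one]
  have hne' : U p q r b c t ≠ 1 := by
    rw [← he]
    exact fun h => hne (by simpa using h)
  obtain ⟨g, hg⟩ := class_U (cube_eq_one_iff.1 h3) hne'
  refine ⟨g * k, ent p.val q.val r.val b.val c.val t.val % 6, Nat.mod_lt _ (by norm_num), ?_⟩
  rw [← he] at hg
  rw [← mul_inv_eq_iff_eq_mul] at hg
  rw [← hg]
  group

end CfsgLib.LFourThree.Par
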