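import Cfsg.Agent.Lib.LFourThree.Basic

/-!
The two parabolics through the centralizer of the root group at position `(0,3)`, and their common part.
-/

set_option autoImplicit false

namespace CfsgLib.LFourThree

/-- The matrices with last row `e_3`. -/
def para3 : Subgroup SL4 where
  carrier := {g | ∀ j, g.1 3 j = (1 : Matrix (Fin 4) (Fin 4) (ZMod 3)) 3 j}
  one_mem' := fun _ => rfl
  mul_mem' := by
    intro a b ha hb j
    simp only [Set.mem_ofPred_eq] at ha hb
    show (a.1 * b.1) 3 j = _
    rw [Matrix.mul_apply]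
    simp only [ha, Matrix.one_apply, ite_mul, one_mul, zero_mul, Finset.sum_ite_eq, Finset.mem_univ, if_true]
    simpa [Matrix.one_apply] using hb j
  inv_mem' := by
    intro a ha j
    simp only [Set.mem_ofPred_eq] at ha
    have h : (a.1 * (a⁻¹).1) 3 j = (1 : Matrix (Fin 4) (Fin 4) (ZMod 3)) 3 j :=
      congrFun (congrFun (congrArg Subtype.val (mul_inv_cancel a)) 3) j
    rw [Matrix.mul_apply] at h
    simpa [ha, Matrix.one_apply] using h

/-- The centralizer model of the root group at `(0,3)`. -/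
def cm : Subgroup SL4 := para ⊓ para3

/-- `root 0 3 1`. -/
def zmat : SL4 := root 0 3 1

/-- The three roots of the first row. -/
def rowGrp : Subgroup SL4 := Subgroup.closure {root 0 1 1, root 0 2 1, root 0 3 1}

/-- The three roots of the last column. -/
def colGrp : Subgroup SL4 := Subgroup.closure {root 0 3 1, root 1 3 1, root 2 3 1}

/-- The radical of the centralizer model. -/
def qGrp : Subgroup SL4 := rowGrp ⊔ colGrp

/-- The abelian group of order 81. -/
def aGrp : Subgroup SL4 := Subgroup.closure {root 0 2 1, root 0 3 1, root 1 2 1, root 1 3 1}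

/-- `diag (1,1,-1,-1)`, in `para`. -/
def hpara : SL4 := ⟨Matrix.diagonal ![1, 1, -1, -1], by decide +kernel⟩

/-- `diag (-1,-1,1,1)`, in `para3`. -/
def hpara3 : SL4 := ⟨Matrix.diagonal ![-1, -1, 1, 1], by decide +kernel⟩

theorem zmat_mem_para : zmat ∈ para :=
  show ∀ i, zmat.1 i 0 = (1 : Matrix (Fin 4) (Fin 4) (ZMod 3)) i 0 by decide +kernel

theorem zmat_mem_para3 : zmat ∈ para3 :=
  show ∀ j, zmat.1 3 j = (1 : Matrix (Fin 4) (Fin 4) (ZMod 3)) 3 j by decide +kernel

theorem hpara_mem : hpara ∈ para :=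
  show ∀ i, hpara.1 i 0 = (1 : Matrix (Fin 4) (Fin 4) (ZMod 3)) i 0 by decide +kernel

theorem hpara3_mem : hpara3 ∈ para3 :=
  show ∀ j, hpara3.1 3 j = (1 : Matrix (Fin 4) (Fin 4) (ZMod 3)) 3 j by decide +kernel

end CfsgLib.LFourThree
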