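import Cfsg.Agent.Lib.LFourThree.Frame
import Cfsg.Agent.Lib.Gaschutz.Split

/-!
The normaliser of the meet of two radicals: order, transitivity, centraliser and a complement.
-/

set_option autoImplicit false
set_option linter.style.haveILetI false
set_option linter.unusedSectionVars false

namespace CfsgLib.LFourThree

variable {G : Type*} [Group G]

theorem heis_swap {a b c : G} (hab : Commute a b) (hac : Commute a c) (h : c * b = a ^ 2 * b * c) (k j : ℕ) :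
    c ^ k * b ^ j = a ^ (2 * (k * j)) * b ^ j * c ^ k := by
  have h1 : ∀ j : ℕ, c * b ^ j = a ^ (2 * j) * b ^ j * c := by
    intro j
    induction j with
    | zero => simp
    | succ j ih =>
      calc c * b ^ (j + 1) = c * b ^ j * b := by rw [pow_succ, mul_assoc]
        _ = a ^ (2 * j) * b ^ j * (c * b) := by rw [ih, mul_assoc]
        _ = a ^ (2 * j) * (b ^ j * a ^ 2) * b * c := by rw [h]; group
        _ = a ^ (2 * j) * a ^ 2 * (b ^ j * b) * c := by rw [((hab.symm.pow_left j).pow_right 2).eq]; group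
        _ = _ := by rw [← pow_add, ← pow_succ, mul_add]
  induction k with
  | zero => simp
  | succ k ih =>
    calc c ^ (k + 1) * b ^ j = c ^ k * (c * b ^ j) := by rw [pow_succ, mul_assoc]
      _ = c ^ k * a ^ (2 * j) * b ^ j * c := by rw [h1]; group
      _ = a ^ (2 * j) * (c ^ k * b ^ j) * c := by rw [((hac.symm.pow_left k).pow_right (2 * j)).eq]; group
      _ = a ^ (2 * j) * a ^ (2 * (k * j)) * b ^ j * (c ^ k * c) := by rw [ih]; group
      _ = _ := by rw [← pow_add, ← pow_succ]; congr 3; ring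

theorem heis_subgroup [Finite G] {a b c : G} (hab : Commute a b) (hac : Commute a c)
    (h : c * b = a ^ 2 * b * c) :
    ∃ H : Subgroup G, ∀ x, x ∈ H ↔ ∃ i j k : ℕ, x = a ^ i * b ^ j * c ^ k := by
  let M : Submonoid G :=
    { carrier := {x | ∃ i j k : ℕ, x = a ^ i * b ^ j * c ^ k}
      one_mem' := ⟨0, 0, 0, by simp⟩
      mul_mem' := by
        rintro _ _ ⟨i, j, k, rfl⟩ ⟨i', j', k', rfl⟩
        refine ⟨i + i' + 2 * (k * j'), j + j', k + k', ?_⟩
        calc a ^ i * b ^ j * c ^ k * (a ^ i' * b ^ j' * c ^ k')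
            = a ^ i * b ^ j * (c ^ k * a ^ i') * b ^ j' * c ^ k' := by group
          _ = a ^ i * (b ^ j * a ^ i') * (c ^ k * b ^ j') * c ^ k' := by
              rw [((hac.symm.pow_left k).pow_right i').eq]; group
          _ = a ^ i * a ^ i' * (b ^ j * a ^ (2 * (k * j'))) * b ^ j' * c ^ k * c ^ k' := by
              rw [((hab.symm.pow_left j).pow_right i').eq, heis_swap hab hac h]; group
          _ = a ^ i * a ^ i' * a ^ (2 * (k * j')) * (b ^ j * b ^ j') * (c ^ k * c ^ k') := by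
              rw [((hab.symm.pow_left j).pow_right _).eq]; group
          _ = _ := by rw [← pow_add, ← pow_add, ← pow_add, ← pow_add] }
  refine ⟨{ M with inv_mem' := fun {x} hx => ?_ }, fun x => Iff.rfl⟩
  show x⁻¹ ∈ M
  rw [show x⁻¹ = x ^ (orderOf x - 1) from inv_eq_of_mul_eq_one_right (by
    rw [← pow_succ', Nat.sub_add_cancel (orderOf_pos x), pow_orderOf_eq_one])]
  exact M.pow_mem hx _

namespace Symp

variable {V : Type*} [AddCommGroup V] [Finite V] {ρ : S2 → V →+ V} {B : V →+ V →+ ZMod 3} (S : Symp ρ B)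
include S

theorem dvd_of_nsmul {v : V} (hv : v ≠ 0) {n : ℕ} (h : n • v = 0) : 3 ∣ n := by
  rw [S.nsmul_mod] at h
  rcases (show n % 3 = 0 ∨ n % 3 = 1 ∨ n % 3 = 2 by omega) with e | e | e
  · exact Nat.dvd_of_mod_eq_zero e
  · rw [e, one_nsmul] at h; exact absurd h hv
  · rw [e, two_nsmul] at h
    exact absurd (S.eq_zero_of_neg (eq_neg_of_add_eq_zero_left h)) hv

theorem indep {v : V} (hv : ρ pE v = v) (h0 : v ≠ 0) {b c : ℕ} (h : b • v + c • ρ sE v = 0) : 3 ∣ b ∧ 3 ∣ c := by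
  have h1 := congrArg (ρ pE) h
  rw [map_add, map_nsmul, map_nsmul, hv, S.shift hv, map_zero, nsmul_sub] at h1
  have h2 : c • v = 0 := by
    calc c • v = (b • v + c • ρ sE v) - (b • v + (c • ρ sE v - c • v)) := by abel
      _ = 0 := by rw [h, h1, sub_zero]
  have hc := S.dvd_of_nsmul h0 h2
  rw [S.nsmul_mod c, Nat.mod_eq_zero_of_dvd hc, zero_nsmul, add_zero] at h
  exact ⟨S.dvd_of_nsmul h0 h, hc⟩

theorem fix_one {v : V} (hv : ρ pE v = v) (h0 : v ≠ 0) {g : S2} (h1 : ρ g v = v) (h2 : ρ g (ρ sE v) = ρ sE v) :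
    g = 1 := by
  have hno : ρ pE (ρ sE v) ≠ ρ sE v := fun e => h0 (S.fix_inter hv e)
  rcases s2_cases g with e | e | e | e | e | e | ⟨i, e⟩
  · exact e
  · exfalso
    exact h0 (S.eq_zero_of_neg (by rw [← S.neg, ← e, pow_two, S.mul, h1, h1]))
  · exfalso
    exact h0 (S.eq_zero_of_neg (by rw [← S.neg, ← e, pow_succ, pow_two, S.mul, S.mul, h1, h1, h1]))
  · exfalso
    subst e
    rw [S.neg] at h1
    exact h0 (S.eq_zero_of_neg h1.symm)
  · subst e; exact absurd h2 hno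
  · subst e
    exfalso
    apply hno
    calc ρ pE (ρ sE v) = ρ pE (ρ (pE * pE) (ρ (pE * pE) (ρ sE v))) := by rw [h2, h2]
      _ = ρ sE v := by rw [← S.mul, ← S.mul, show pE * (pE * pE) * (pE * pE) = pE * pE by decide +kernel, h2]
  · exfalso
    obtain ⟨c, hc, e'⟩ : ∃ c, (c = qE ∨ c = qE * qE) ∧ g = pE ^ i.val * c * (pE ^ i.val)⁻¹ := by
      rcases e with e | e
      exacts [⟨_, Or.inl rfl, e⟩, ⟨_, Or.inr rfl, e⟩]
    subst e'
    have hpi : ρ (pE ^ i.val) v = v := by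
      fin_cases i
      · simp [S.one]
      · simp [hv]
      · simp only [pow_two, S.mul, hv]
    have hpi' : ρ (pE ^ i.val)⁻¹ v = v := by
      conv_lhs => rw [← hpi]
      exact S.inv_apply _ _
    rw [S.mul, S.mul, hpi'] at h1
    have hfix : ρ c v = v := S.inj (pE ^ i.val) (h1.trans hpi.symm)
    obtain ⟨u, hu, hvu⟩ := S.fix_q hc hfix
    have hu0 := S.fix_inter hu (by rw [← hvu]; exact hv)
    exact h0 (by rw [hvu, hu0, map_zero])

theorem orbit {v : V} (hv : ρ pE v = v) {b c : ℕ} (h : ¬(3 ∣ b ∧ 3 ∣ c)) :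
    ∃ g, ρ g v = b • v + c • ρ sE v := by
  have m1 : ∀ g, ρ (-1 * g) v = -ρ g v := fun g => by rw [S.mul, S.neg]
  have h1 : ρ (pE * sE) v = ρ sE v - v := by rw [S.mul, S.shift hv]
  have h2 : ρ (pE * pE * sE) v = ρ sE v + v := by
    rw [S.mul, S.mul, S.shift hv, map_sub, S.shift hv, hv]
    calc ρ sE v - v - v = ρ sE v + v - (v + v + v) := by abel
      _ = _ := by rw [S.three, sub_zero]
  have two : ∀ u : V, u + u = -u := fun u => eq_neg_of_add_eq_zero_left (S.three u)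
  rw [S.nsmul_mod b, S.nsmul_mod c]
  rw [Nat.dvd_iff_mod_eq_zero, Nat.dvd_iff_mod_eq_zero] at h
  rcases (show b % 3 = 0 ∨ b % 3 = 1 ∨ b % 3 = 2 by omega) with e | e | e <;>
    rcases (show c % 3 = 0 ∨ c % 3 = 1 ∨ c % 3 = 2 by omega) with e' | e' | e' <;>
    rw [e, e'] <;> simp only [zero_nsmul, one_nsmul, two_nsmul, two, zero_add, add_zero]
  · exact absurd ⟨e, e'⟩ h
  · exact ⟨sE, rfl⟩
  · exact ⟨-1 * sE, m1 _⟩
  · exact ⟨1, S.one _⟩
  · exact ⟨pE * pE * sE, by rw [h2, add_comm]⟩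
  · exact ⟨-1 * (pE * sE), by rw [m1, h1]; abel⟩
  · exact ⟨-1, S.neg _⟩
  · exact ⟨pE * sE, by rw [h1]; abel⟩
  · exact ⟨-1 * (pE * pE * sE), by rw [m1, h2]; abel⟩

end Symp

namespace Pair

variable [Finite G] {z w s : G} {Q Q' : Subgroup G} {π : Subgroup.centralizer ({z} : Set G) →* S2}
  {π' : Subgroup.centralizer ({w} : Set G) →* S2} (P : Pair z w s Q Q' π π')
include P

theorem wbar_fix : haveI := P.L.zq_normal;
    P.L.rho pE (cls ⟨w, P.hw⟩) = cls (z := z) (⟨w, P.hw⟩ : Q) ∧ cls (z := z) (⟨w, P.hw⟩ : Q) ≠ 0 := by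
  haveI := P.L.zq_normal
  refine ⟨?_, fun e => P.hwz (cls_eq_zero_iff.1 e)⟩
  rw [← P.pis, P.L.rho_cls]
  congr 1
  exact Subtype.ext (by show s * w * s⁻¹ = w; rw [P.s_w, mul_inv_cancel_right])

theorem of_cls {q e : Q} (he : (e : G) ∈ Q ⊓ Q') : haveI := P.L.zq_normal;
    cls (z := z) e = cls q → (q : G) ∈ Q ⊓ Q' := by
  haveI := P.L.zq_normal
  intro h
  have h1 := (Q ⊓ Q').mul_mem he ((Subgroup.zpowers_le.2 P.z_mem) (cls_eq_iff.1 h))
  rwa [mul_inv_cancel_left] at h1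

/-- The image of the second vector. -/
theorem exists_w1 : haveI := P.L.zq_normal; letI := P.L.addCommGroup
    ∃ w1 : Q, (w1 : G) ∈ Q ⊓ Q' ∧ cls (z := z) w1 = P.L.rho sE (cls ⟨w, P.hw⟩) := by
  haveI := P.L.zq_normal
  letI := P.L.addCommGroup
  obtain ⟨y, hy, -, -, i, j, hj, hij⟩ := P.frame
  refine ⟨(y * (⟨w, P.hw⟩ ^ i.val)⁻¹) ^ j.val, pow_mem (mul_mem hy (inv_mem (pow_mem P.w_mem _))) _, ?_⟩
  rw [cls_pow, cls_mul, cls_inv, cls_pow, hij, add_comm (i.val • _), add_neg_cancel_right, ← mul_nsmul,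
    P.L.symp.nsmul_mod, show j.val * j.val % 3 = 1 by fin_cases j <;> simp_all, one_nsmul]

/-- The coordinates on the meet. -/
theorem mem_span {w1 : Q} (hw1 : (w1 : G) ∈ Q ⊓ Q') : haveI := P.L.zq_normal; letI := P.L.addCommGroup
    cls (z := z) w1 = P.L.rho sE (cls ⟨w, P.hw⟩) → ∀ e ∈ Q ⊓ Q', ∃ a b c : Fin 3,
      e = z ^ a.val * w ^ b.val * (w1 : G) ^ c.val := by
  haveI := P.L.zq_normal
  letI := P.L.addCommGroup
  intro h
  let Φ : Fin 3 × Fin 3 × Fin 3 → (Q ⊓ Q' : Subgroup G) := fun x =>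
    ⟨z ^ x.1.val * w ^ x.2.1.val * (w1 : G) ^ x.2.2.val,
      mul_mem (mul_mem (pow_mem P.z_mem _) (pow_mem P.w_mem _)) (pow_mem hw1 _)⟩
  let zQ : Q := ⟨z, P.L.zmem⟩
  have hz0 : cls (z := z) zQ = 0 := cls_eq_zero_iff.2 (Subgroup.mem_zpowers z)
  have hinj : Function.Injective Φ := by
    rintro ⟨a, b, c⟩ ⟨a', b', c'⟩ e
    have e0 : z ^ a.val * w ^ b.val * (w1 : G) ^ c.val = z ^ a'.val * w ^ b'.val * (w1 : G) ^ c'.val :=
      congrArg Subtype.val e
    have eQ : zQ ^ a.val * ⟨w, P.hw⟩ ^ b.val * w1 ^ c.val = zQ ^ a'.val * ⟨w, P.hw⟩ ^ b'.val * w1 ^ c'.val :=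
      Subtype.ext e0
    have e1 := congrArg (cls (z := z)) eQ
    simp only [cls_mul, cls_pow, hz0, nsmul_zero, zero_add, h] at e1
    have e2 : (b.val + 2 * b'.val) • cls (z := z) (⟨w, P.hw⟩ : Q) +
        (c.val + 2 * c'.val) • P.L.rho sE (cls ⟨w, P.hw⟩) = 0 := by
      rw [add_nsmul, add_nsmul, add_add_add_comm, e1, add_add_add_comm, ← add_nsmul, ← add_nsmul,
        P.L.symp.nsmul_mod (b'.val + _), P.L.symp.nsmul_mod (c'.val + _),
        show (b'.val + 2 * b'.val) % 3 = 0 by omega, show (c'.val + 2 * c'.val) % 3 = 0 by omega,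
        zero_nsmul, zero_nsmul, add_zero]
    obtain ⟨hb, hc⟩ := P.L.symp.indep P.wbar_fix.1 P.wbar_fix.2 e2
    have hb' : b = b' := Fin.ext (by omega)
    have hc' : c = c' := Fin.ext (by omega)
    subst hb'; subst hc'
    have ha : a.val % 3 = a'.val % 3 := P.L.pow_eq_iff.1 (mul_right_cancel (mul_right_cancel e0))
    have : a = a' := Fin.ext (by omega)
    subst this; rfl
  have hb := hinj.bijective_of_nat_card_le (by rw [P.card]; simp)
  intro e he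
  obtain ⟨⟨a, b, c⟩, hx⟩ := hb.2 ⟨e, he⟩
  exact ⟨a, b, c, (congrArg Subtype.val hx).symm⟩

theorem cz_le : Subgroup.centralizer ({z} : Set G) ≤ Subgroup.normalizer ((Q ⊓ Q' : Subgroup G) : Set G) := by
  haveI := P.L.zq_normal
  letI := P.L.addCommGroup
  obtain ⟨w1, hw1, hcls⟩ := P.exists_w1
  set N := Subgroup.normalizer ((Q ⊓ Q' : Subgroup G) : Set G) with hN
  set T : Subgroup S2 := (N.subgroupOf (Subgroup.centralizer ({z} : Set G))).map π with hT
  have hp : pE ∈ T := ⟨⟨s, P.hs⟩, P.q'_norm P.hs', P.pis⟩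
  have hs : sE ∈ T := by
    obtain ⟨t, ht⟩ := P.L.surj sE
    refine ⟨t, mem_norm fun e he => ?_, ht⟩
    have hzc : (t : G) * z * (t : G)⁻¹ = z := by rw [mem_cz.1 t.2, mul_inv_cancel_right]
    have hwc : (t : G) * w * (t : G)⁻¹ ∈ Q ⊓ Q' :=
      P.of_cls (q := ⟨_, P.L.conj_mem t.2 P.hw⟩) hw1 (by rw [hcls, ← ht, P.L.rho_cls])
    have hw1c : (t : G) * w1 * (t : G)⁻¹ ∈ Q ⊓ Q' :=
      P.of_cls (q := ⟨_, P.L.conj_mem t.2 w1.2⟩) (e := ⟨w, P.hw⟩⁻¹) (inv_mem P.w_mem) (by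
        rw [← P.L.rho_cls t w1, ht, hcls, cls_inv, P.L.symp.s_sq])
    obtain ⟨a, b, c, rfl⟩ := P.mem_span hw1 hcls e he
    rw [← MulAut.conj_apply, map_mul, map_mul, map_pow, map_pow, map_pow, MulAut.conj_apply,
      MulAut.conj_apply, MulAut.conj_apply, show (Subgroup.centralizer ({z} : Set G)).subtype t = (t : G) from rfl,
      hzc]
    exact mul_mem (mul_mem (pow_mem P.z_mem _) (pow_mem hwc _)) (pow_mem hw1c _)
  have htop : T = ⊤ := top_le_iff.1 (closure_ps ▸ (Subgroup.closure_le _).2 (Set.insert_subset hp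
    (Set.singleton_subset_iff.2 hs)))
  intro c hc
  obtain ⟨d, hd, hdc⟩ : π ⟨c, hc⟩ ∈ T := htop ▸ Subgroup.mem_top _
  have hq : ((d⁻¹ * ⟨c, hc⟩ : Subgroup.centralizer ({z} : Set G)) : G) ∈ Q :=
    (P.L.ker _).1 (by rw [map_mul, map_inv, hdc, inv_mul_cancel])
  have := N.mul_mem (show (d : G) ∈ N from hd) (P.q_norm hq)
  rwa [Subgroup.coe_mul, Subgroup.coe_inv, mul_inv_cancel_left] at this

theorem cent_le : Subgroup.centralizer ((Q ⊓ Q' : Subgroup G) : Set G) ≤ Q ⊓ Q' := by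
  haveI := P.L.zq_normal
  letI := P.L.addCommGroup
  obtain ⟨w1, hw1, hcls⟩ := P.exists_w1
  intro x hx
  rw [Subgroup.mem_centralizer_iff] at hx
  have hxc : x ∈ Subgroup.centralizer ({z} : Set G) := mem_cz.2 (hx z P.z_mem).symm
  have hfix : ∀ q : Q, (q : G) ∈ Q ⊓ Q' → P.L.rho (π ⟨x, hxc⟩) (cls q) = cls q := fun q hq => by
    rw [P.L.rho_cls]
    congr 1
    exact Subtype.ext (by show x * q * x⁻¹ = q; rw [← hx q hq, mul_inv_cancel_right])
  have h1 := P.L.symp.fix_one P.wbar_fix.1 P.wbar_fix.2 (hfix ⟨w, P.hw⟩ P.w_mem)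
    (by rw [← hcls]; exact hfix w1 hw1)
  have hxQ : x ∈ Q := (P.L.ker _).1 h1
  set B := Subgroup.closure (insert x ((Q ⊓ Q' : Subgroup G) : Set G)) with hB
  have hle : B ≤ Q := (Subgroup.closure_le _).2 (Set.insert_subset hxQ fun e he => he.1)
  have hab := closure_comm (S := insert x ((Q ⊓ Q' : Subgroup G) : Set G)) (by
    rintro a (rfl | ha) b (rfl | hb)
    · rfl
    · exact (hx b hb).symm
    · exact hx a ha
    · exact P.abel a ha b hb)
  have heq : Q ⊓ Q' = B := Subgroup.eq_of_le_of_card_ge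
    (fun e he => Subgroup.subset_closure (Set.mem_insert_of_mem _ he))
    (by rw [P.card]; exact P.L.abelian_le hle hab)
  rw [heq]
  exact Subgroup.subset_closure (Set.mem_insert _ _)

/-- The normaliser is transitive on the nontrivial elements. -/
theorem trans {e : G} (he : e ∈ Q ⊓ Q') (h1 : e ≠ 1) :
    ∃ n ∈ Subgroup.normalizer ((Q ⊓ Q' : Subgroup G) : Set G), n * z * n⁻¹ = e := by
  haveI := P.L.zq_normal
  letI := P.L.addCommGroup
  obtain ⟨w1, hw1, hcls⟩ := P.exists_w1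
  set N := Subgroup.normalizer ((Q ⊓ Q' : Subgroup G) : Set G) with hN
  obtain ⟨q, hq, hqw⟩ := P.L.exists_move P.hw P.hwz
  have hqk : ∀ k : ℕ, q ^ k * w * (q ^ k)⁻¹ = z ^ k * w := by
    intro k
    induction k with
    | zero => simp
    | succ k ih =>
      rw [pow_succ', show q * q ^ k * w * (q * q ^ k)⁻¹ = q * (q ^ k * w * (q ^ k)⁻¹) * q⁻¹ by group, ih,
        show q * (z ^ k * w) * q⁻¹ = (q * z ^ k * q⁻¹) * (q * w * q⁻¹) by group, hqw,
        P.L.conj_sub hq (pow_mem (Subgroup.mem_zpowers z) k), ← mul_assoc, ← pow_succ]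
  have big : ∀ e ∈ Q ⊓ Q', e ∉ Subgroup.zpowers z → ∃ n ∈ N, n * w * n⁻¹ = e := by
    intro e he hez
    obtain ⟨a, b, c, rfl⟩ := P.mem_span hw1 hcls e he
    have hb : ¬(3 ∣ b.val ∧ 3 ∣ c.val) := fun hh => hez (by
      rw [show b.val = 0 by omega, show c.val = 0 by omega, pow_zero, pow_zero, mul_one, mul_one]
      exact pow_mem (Subgroup.mem_zpowers z) _)
    obtain ⟨g, hg⟩ := P.L.symp.orbit P.wbar_fix.1 hb
    obtain ⟨d, hd⟩ := P.L.surj g
    let eQ : Q := ⟨z, P.L.zmem⟩ ^ a.val * ⟨w, P.hw⟩ ^ b.val * w1 ^ c.val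
    have hcl : cls (z := z) (⟨(d : G) * w * (d : G)⁻¹, P.L.conj_mem d.2 P.hw⟩ : Q) = cls eQ := by
      rw [← P.L.rho_cls d ⟨w, P.hw⟩, hd, hg]
      simp only [eQ, cls_mul, cls_pow, show cls (z := z) (⟨z, P.L.zmem⟩ : Q) = 0 from
        cls_eq_zero_iff.2 (Subgroup.mem_zpowers z), nsmul_zero, zero_add, hcls]
    obtain ⟨k, hk⟩ := P.L.exists_pow (cls_eq_iff.1 hcl)
    refine ⟨(d : G) * q ^ k, mul_mem (P.cz_le d.2) (pow_mem (P.q_norm hq) _), ?_⟩
    rw [show (d : G) * q ^ k * w * ((d : G) * q ^ k)⁻¹ = (d : G) * (q ^ k * w * (q ^ k)⁻¹) * (d : G)⁻¹ by group,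
      hqk, show (d : G) * (z ^ k * w) * (d : G)⁻¹ = ((d : G) * z ^ k) * w * (d : G)⁻¹ by group,
      P.L.z_comm d.2 (pow_mem (Subgroup.mem_zpowers z) k)]
    have e1 : (eQ : G) = (d : G) * w * (d : G)⁻¹ * z ^ k := by rw [hk]; group
    have e2 := P.L.z_comm (P.L.le (P.L.conj_mem d.2 P.hw)) (pow_mem (Subgroup.mem_zpowers z) k)
    rw [e2] at e1
    show _ = (eQ : G)
    rw [e1]; group
  obtain ⟨q', hq', hqz⟩ := P.L'.exists_move P.hz P.hzw
  obtain ⟨n0, hn0, hn0e⟩ := big (w * z) (mul_mem P.w_mem P.z_mem) (fun h => P.hwz (by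
    have := mul_mem h (inv_mem (Subgroup.mem_zpowers z))
    rwa [mul_inv_cancel_right] at this))
  have hzw : (q'⁻¹ * n0) * w * (q'⁻¹ * n0)⁻¹ = z := by
    rw [show q'⁻¹ * n0 * w * (q'⁻¹ * n0)⁻¹ = q'⁻¹ * (n0 * w * n0⁻¹) * q' by group, hn0e, ← hqz]
    group
  have hn : q'⁻¹ * n0 ∈ N := mul_mem (inv_mem (P.q'_norm hq')) hn0
  by_cases hez : e ∈ Subgroup.zpowers z
  · obtain ⟨i, rfl⟩ := P.L.exists_pow hez
    obtain ⟨h, hh, hhz, -⟩ := P.exists_h
    rcases (show i % 3 = 0 ∨ i % 3 = 1 ∨ i % 3 = 2 by omega) with hi | hi | hi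
    · exact absurd (by rw [(P.L.pow_eq_iff (j := 0)).2 hi, pow_zero]) h1
    · exact ⟨1, one_mem _, by rw [(P.L.pow_eq_iff (j := 1)).2 hi]; simp⟩
    · refine ⟨h, hh, hhz.trans ?_⟩
      rw [(P.L.pow_eq_iff (j := 2)).2 hi, pow_two]
      refine inv_eq_of_mul_eq_one_left ?_
      have := P.L.z_cube
      rwa [pow_succ, pow_two] at this
  · obtain ⟨n, hn', hne⟩ := big e he hez
    refine ⟨n * (q'⁻¹ * n0)⁻¹, mul_mem hn' (inv_mem hn), ?_⟩
    rw [show n * (q'⁻¹ * n0)⁻¹ * z * (n * (q'⁻¹ * n0)⁻¹)⁻¹ =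
      n * ((q'⁻¹ * n0)⁻¹ * z * (q'⁻¹ * n0)) * n⁻¹ by group,
      show (q'⁻¹ * n0)⁻¹ * z * (q'⁻¹ * n0) = w by
        conv_lhs => arg 1; arg 2; rw [← hzw]
        group, hne]

theorem card_cz : Nat.card (Subgroup.centralizer ({z} : Set G)) = 5832 := by
  have h := π.ker.card_mul_index
  have hk : π.ker.map (Subgroup.centralizer ({z} : Set G)).subtype = Q := by
    ext g
    constructor
    · rintro ⟨c, hc, rfl⟩; exact (P.L.ker c).1 hc
    · intro hg; exact ⟨⟨g, P.L.le hg⟩, (P.L.ker _).2 hg, rfl⟩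
  rw [Subgroup.index_ker, MonoidHom.range_eq_top.2 P.L.surj, Subgroup.card_top,
    ← Subgroup.card_map_of_injective (Subgroup.centralizer ({z} : Set G)).subtype_injective (K := π.ker), hk,
    P.L.card, Nat.card_eq_fintype_card, show Fintype.card S2 = 24 by decide +kernel] at h
  exact h.symm

theorem card_norm : Nat.card (Subgroup.normalizer ((Q ⊓ Q' : Subgroup G) : Set G)) = 151632 := by
  set N := Subgroup.normalizer ((Q ⊓ Q' : Subgroup G) : Set G) with hN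
  set Cs := (Subgroup.centralizer ({z} : Set G)).subgroupOf N with hCs
  have hconj : ∀ n : N, (n : G) * z * (n : G)⁻¹ ∈ ((Q ⊓ Q' : Subgroup G) : Set G) \ {1} := fun n =>
    ⟨(Subgroup.mem_normalizer_iff.1 n.2 z).1 P.z_mem, fun h => P.L.z_ne (conj_eq_one_iff.1 h)⟩
  let f : N ⧸ Cs → ↥(((Q ⊓ Q' : Subgroup G) : Set G) \ {1}) := fun x => ⟨_, hconj x.out⟩
  have hf : Function.Bijective f := by
    constructor
    · intro x y e
      rw [← QuotientGroup.out_eq' x, ← QuotientGroup.out_eq' y, QuotientGroup.eq]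
      show _ ∈ (Subgroup.centralizer ({z} : Set G)).subgroupOf N
      rw [Subgroup.mem_subgroupOf, mem_cz]
      have e' : (x.out : G) * z * (x.out : G)⁻¹ = (y.out : G) * z * (y.out : G)⁻¹ := congrArg Subtype.val e
      simp only [Subgroup.coe_mul, Subgroup.coe_inv]
      calc (x.out : G)⁻¹ * (y.out : G) * z = (x.out : G)⁻¹ * ((y.out : G) * z * (y.out : G)⁻¹) * (y.out : G) := by group
        _ = z * ((x.out : G)⁻¹ * (y.out : G)) := by rw [← e']; group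
    · rintro ⟨e, he, he1⟩
      obtain ⟨n, hn, hne⟩ := P.trans he he1
      obtain ⟨c, hc⟩ := QuotientGroup.mk_out_eq_mul Cs ⟨n, hn⟩
      refine ⟨QuotientGroup.mk ⟨n, hn⟩, Subtype.ext ?_⟩
      show ((QuotientGroup.mk ⟨n, hn⟩ : N ⧸ Cs).out : G) * z * ((QuotientGroup.mk ⟨n, hn⟩ : N ⧸ Cs).out : G)⁻¹ = e
      rw [hc, Subgroup.coe_mul, show n * ((c : N) : G) * z * (n * ((c : N) : G))⁻¹ =
        n * (((c : N) : G) * z * ((c : N) : G)⁻¹) * n⁻¹ by group,
        mem_cz.1 (Subgroup.mem_subgroupOf.1 c.2), mul_inv_cancel_right, hne]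
  have h := Subgroup.card_eq_card_quotient_mul_card_subgroup Cs
  rw [Nat.card_eq_of_bijective f hf, Nat.card_coe_set_eq, Set.ncard_sdiff_singleton_of_mem (one_mem _),
    ← Nat.card_coe_set_eq, Nat.card_congr (Subgroup.subgroupOfEquivOfLe P.cz_le).toEquiv, P.card_cz] at h
  rw [h]
  show (Nat.card (Q ⊓ Q' : Subgroup G) - 1) * 5832 = _
  rw [P.card]

/-- The three-group meeting the meet trivially. -/
theorem exists_three : ∃ H : Subgroup G, H ≤ Subgroup.normalizer ((Q ⊓ Q' : Subgroup G) : Set G) ∧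
    Nat.card H = 27 ∧ ∀ x ∈ H, x ∈ Q ⊓ Q' → x = 1 := by
  haveI := P.L.zq_normal
  letI := P.L.addCommGroup
  obtain ⟨w1, hw1, hcls⟩ := P.exists_w1
  obtain ⟨y, -, -, hBw, -⟩ := P.frame
  obtain ⟨hwp, hw0⟩ := P.wbar_fix
  obtain ⟨a, hap, haa, hpa, haw⟩ := P.L.symp.second hwp hw0 hBw
  obtain ⟨b, hb⟩ := cls_surj (P.L.rho sE a)
  have hsQ : ∀ u : Q, s * (u : G) * s⁻¹ ∈ Q := fun u => P.L.conj_mem P.hs u.2
  have hps : ∀ u : Q, cls (z := z) (⟨_, hsQ u⟩ : Q) = P.L.rho pE (cls u) := fun u => by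
    rw [← P.pis, P.L.rho_cls]
  set a0 : Q := b * ⟨_, hsQ b⁻¹⟩ with ha0
  have hca0 : cls (z := z) a0 = a := by
    rw [ha0, cls_mul, hps, cls_inv, map_neg, hb, hpa]; abel
  obtain ⟨k, hk⟩ := P.L.exists_pow (cls_eq_iff.1 (show cls (z := z) a0 = cls ⟨_, hsQ a0⟩ by rw [hps, hca0, hap]))
  obtain ⟨l, hl⟩ := P.L.exists_pow (P.L.comm (w1 : G) w1.2 a0 a0.2)
  have hl3 : l % 3 ≠ 0 := by
    intro h0
    have hB : P.L.formB (cls w1) (cls a0) = 0 := by
      rw [P.L.formB_cls, P.L.beta_eq_zero]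
      rw [show z ^ l = z ^ 0 from P.L.pow_eq_iff.2 h0, pow_zero, eq_comm, mul_inv_eq_one,
        mul_inv_eq_iff_eq_mul] at hl
      exact hl
    rw [hcls, hca0, P.L.symp.skew] at hB
    exact haw (neg_eq_zero.1 hB)
  set m := 2 * k * l
  set c : G := s * (w1 : G) ^ m with hc
  have hw1Q' : (w1 : G) ∈ Q' := hw1.2
  have hcQ' : c ∈ Q' := mul_mem P.hs' (pow_mem hw1Q' _)
  have hcC : c ∈ Subgroup.centralizer ({z} : Set G) := mul_mem P.hs (pow_mem (P.L.le w1.2) _)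
  have hπc : π ⟨c, hcC⟩ = pE := by
    rw [show (⟨c, hcC⟩ : Subgroup.centralizer ({z} : Set G)) = ⟨s, P.hs⟩ * ⟨w1, P.L.le w1.2⟩ ^ m from rfl,
      map_mul, map_pow, P.pis, (P.L.ker _).2 w1.2, one_pow, mul_one]
  have hwa : ∀ n : ℕ, (w1 : G) ^ n * a0 * ((w1 : G) ^ n)⁻¹ = z ^ (n * l) * a0 := by
    intro n
    induction n with
    | zero => simp
    | succ n ih =>
      rw [pow_succ', show (w1 : G) * (w1 : G) ^ n * a0 * ((w1 : G) * (w1 : G) ^ n)⁻¹ =
        (w1 : G) * ((w1 : G) ^ n * a0 * ((w1 : G) ^ n)⁻¹) * (w1 : G)⁻¹ by group, ih,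
        show (w1 : G) * (z ^ (n * l) * a0) * (w1 : G)⁻¹ =
          ((w1 : G) * z ^ (n * l) * (w1 : G)⁻¹) * ((w1 : G) * a0 * (w1 : G)⁻¹) by group,
        P.L.conj_sub w1.2 (pow_mem (Subgroup.mem_zpowers z) _),
        show (w1 : G) * a0 * (w1 : G)⁻¹ = z ^ l * a0 by rw [hl]; group, ← mul_assoc, ← pow_add]
      ring_nf
  have hca : c * a0 * c⁻¹ = a0 := by
    have hks : s * (a0 : G) * s⁻¹ = a0 * z ^ k := by
      rw [hk]; show _ = (a0 : G) * ((a0 : G)⁻¹ * (s * a0 * s⁻¹)); group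
    rw [hc, show s * (w1 : G) ^ m * a0 * (s * (w1 : G) ^ m)⁻¹ = s * ((w1 : G) ^ m * a0 * ((w1 : G) ^ m)⁻¹) * s⁻¹
      by group, hwa, show s * (z ^ (m * l) * a0) * s⁻¹ = (s * z ^ (m * l)) * a0 * s⁻¹ by group,
      P.L.z_comm P.hs (pow_mem (Subgroup.mem_zpowers z) _),
      show z ^ (m * l) * s * a0 * s⁻¹ = z ^ (m * l) * (s * a0 * s⁻¹) by group, hks,
      ← mul_assoc, ← P.L.q_comm a0.2 (pow_mem (Subgroup.mem_zpowers z) _), mul_assoc, ← pow_add,
      (P.L.pow_eq_iff (j := 0)).2 ?_, pow_zero, mul_one]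
    have : l * l % 3 = 1 := by
      rcases (show l % 3 = 1 ∨ l % 3 = 2 by omega) with h | h <;> simp [Nat.mul_mod, h]
    show (2 * k * l * l + k) % 3 = 0
    rw [show 2 * k * l * l + k = 2 * k * (l * l) + k by ring, Nat.add_mod, Nat.mul_mod, this]
    omega
  have hcb : c * (b : G)⁻¹ * c⁻¹ ∈ Q := P.L.conj_mem hcC (inv_mem b.2)
  set a1 : Q := b * ⟨_, hcb⟩ with ha1
  have hca1 : cls (z := z) a1 = a := by
    have e : cls (z := z) (⟨_, hcb⟩ : Q) = P.L.rho pE (cls b⁻¹) := by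
      rw [← hπc, P.L.rho_cls]; rfl
    rw [ha1, cls_mul, e, cls_inv, map_neg, hb, hpa]; abel
  obtain ⟨r, hr⟩ := P.L.exists_pow (cls_eq_iff.1 (hca0.trans hca1.symm))
  have hac : Commute (a1 : G) c := by
    have hz : Commute (z ^ r) c := (P.L.z_comm hcC (pow_mem (Subgroup.mem_zpowers z) r)).symm
    have h0 : Commute (a0 : G) c := (mul_inv_eq_iff_eq_mul.1 hca).symm
    have := h0.mul_left hz
    rwa [hr, mul_inv_cancel_left] at this
  have hab : Commute (a1 : G) b := P.L.beta_eq_zero.1 (by rw [← P.L.formB_cls, hca1, hb, haa])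
  have h3a : (a1 : G) ^ 2 = (a1 : G)⁻¹ := by
    refine (inv_eq_of_mul_eq_one_left ?_).symm
    rw [← pow_succ]; exact P.L.exp _ a1.2
  have hswap : c * b = (a1 : G) ^ 2 * b * c := by
    rw [h3a, show ((a1 : Q) : G) = (b : G) * (c * (b : G)⁻¹ * c⁻¹) from rfl]
    group
  obtain ⟨H, hH⟩ := heis_subgroup hab hac hswap
  have ind : ∀ i j n : ℕ, (a1 : G) ^ i * (b : G) ^ j * c ^ n ∈ Q ⊓ Q' → 3 ∣ i ∧ 3 ∣ j ∧ 3 ∣ n := by
    intro i j n hmem
    have hcn : c ^ n ∈ Q := by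
      have := Q.mul_mem (inv_mem (mul_mem (pow_mem a1.2 i) (pow_mem b.2 j))) hmem.1
      rwa [inv_mul_cancel_left] at this
    have hn : 3 ∣ n := by
      have h1 := (P.L.ker (⟨c, hcC⟩ ^ n)).2 hcn
      rw [map_pow, hπc] at h1
      rwa [← orderOf_dvd_iff_pow_eq_one, orderOf_eq_prime (p := 3) s2_rels.2.2.1 (by decide +kernel)] at h1
    have hc1 : c ^ n = 1 := by
      obtain ⟨n', rfl⟩ := hn
      rw [pow_mul, P.L'.exp c hcQ', one_pow]
    rw [hc1, mul_one] at hmem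
    have hzero : ∀ u : Q, (u : G) ∈ Q ⊓ Q' → P.L.formB (cls u) (i • a + j • P.L.rho sE a) = 0 := fun u hu => by
      rw [← hb, ← hca1, ← cls_pow, ← cls_pow, ← cls_mul, P.L.formB_cls, P.L.beta_eq_zero]
      exact P.abel u hu _ (by simpa using hmem)
    have hj := hzero ⟨w, P.hw⟩ P.w_mem
    rw [map_add, map_nsmul, map_nsmul, P.L.symp.iso_fix hwp hap, smul_zero, zero_add,
      P.L.symp.pair_symm] at hj
    have hj3 : 3 ∣ j := by
      rw [nsmul_eq_mul, mul_eq_zero, ZMod.natCast_eq_zero_iff] at hj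
      exact hj.resolve_right haw
    have hi := hzero w1 hw1
    rw [P.L.symp.nsmul_mod j, Nat.mod_eq_zero_of_dvd hj3, zero_nsmul, add_zero, map_nsmul, hcls,
      P.L.symp.skew, nsmul_eq_mul, mul_eq_zero, neg_eq_zero, ZMod.natCast_eq_zero_iff] at hi
    exact ⟨hi.resolve_right haw, hj3, hn⟩
  have cube : ∀ (x : G), x ^ 3 = 1 → ∀ i, x ^ i = x ^ (i % 3) := fun x hx i => by
    conv_lhs => rw [← Nat.mod_add_div i 3, pow_add, pow_mul, hx, one_pow, mul_one]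
  refine ⟨H, fun x hx => ?_, ?_, fun x hx hxE => ?_⟩
  · obtain ⟨i, j, n, rfl⟩ := (hH x).1 hx
    exact mul_mem (mul_mem (pow_mem (P.q_norm a1.2) _) (pow_mem (P.q_norm b.2) _)) (pow_mem (P.cz_le hcC) _)
  · let Φ : Fin 3 × Fin 3 × Fin 3 → H := fun x =>
      ⟨(a1 : G) ^ x.1.val * (b : G) ^ x.2.1.val * c ^ x.2.2.val, (hH _).2 ⟨_, _, _, rfl⟩⟩
    have hinj : Function.Injective Φ := by
      rintro ⟨i, j, n⟩ ⟨i', j', n'⟩ e
      have e0 : (a1 : G) ^ i.val * (b : G) ^ j.val * c ^ n.val = (a1 : G) ^ i'.val * (b : G) ^ j'.val * c ^ n'.val :=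
        congrArg Subtype.val e
      have hn : n.val % 3 = n'.val % 3 := by
        have hm : ∀ (i j n : ℕ) (hh : (a1 : G) ^ i * (b : G) ^ j * c ^ n ∈ Subgroup.centralizer ({z} : Set G)),
            π ⟨_, hh⟩ = pE ^ n := fun i j n hh => by
          rw [show (⟨_, hh⟩ : Subgroup.centralizer ({z} : Set G)) =
            ⟨a1, P.L.le a1.2⟩ ^ i * ⟨b, P.L.le b.2⟩ ^ j * ⟨c, hcC⟩ ^ n from rfl, map_mul, map_mul, map_pow,
            map_pow, map_pow, (P.L.ker ⟨a1, _⟩).2 a1.2, (P.L.ker ⟨b, _⟩).2 b.2, hπc, one_pow, one_pow,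
            one_mul, one_mul]
        have hh : ∀ i j n : ℕ, (a1 : G) ^ i * (b : G) ^ j * c ^ n ∈ Subgroup.centralizer ({z} : Set G) := fun i j n =>
          mul_mem (mul_mem (pow_mem (P.L.le a1.2) _) (pow_mem (P.L.le b.2) _)) (pow_mem hcC _)
        have := (hm _ _ _ (hh i n n)).symm
        have e1 : pE ^ n.val = pE ^ n'.val := by
          rw [← hm _ _ _ (hh i.val j.val n.val), ← hm _ _ _ (hh i'.val j'.val n'.val)]
          exact congrArg π (Subtype.ext e0)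
        have k : ∀ p q : Fin 3, pE ^ p.val = pE ^ q.val → p = q := by decide +kernel
        rw [k n n' e1]
      have hn' : n = n' := Fin.ext (by omega)
      subst hn'
      have e1 := mul_right_cancel e0
      have := ind (i.val + 2 * i'.val) (j.val + 2 * j'.val) 0 (by
        rw [pow_zero, mul_one, pow_add, pow_add, mul_assoc, ← mul_assoc ((a1 : G) ^ (2 * i'.val)),
          ((hab.pow_left _).pow_right _).eq, mul_assoc, ← mul_assoc ((a1 : G) ^ i.val), e1,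
          mul_assoc ((a1 : G) ^ i'.val), ← mul_assoc ((b : G) ^ j'.val), ((hab.symm.pow_left _).pow_right _).eq,
          mul_assoc, ← pow_add, ← mul_assoc, ← pow_add, cube _ (P.L.exp _ a1.2), cube _ (P.L.exp _ b.2),
          show (i'.val + 2 * i'.val) % 3 = 0 by omega, show (j'.val + 2 * j'.val) % 3 = 0 by omega,
          pow_zero, pow_zero, mul_one]
        exact one_mem _)
      have : i = i' := Fin.ext (by omega)
      subst this
      have : j = j' := Fin.ext (by omega)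
      subst this
      rfl
    have hsurj : Function.Surjective Φ := by
      rintro ⟨x, hx⟩
      obtain ⟨i, j, n, rfl⟩ := (hH x).1 hx
      refine ⟨(⟨i % 3, by omega⟩, ⟨j % 3, by omega⟩, ⟨n % 3, by omega⟩), Subtype.ext ?_⟩
      show (a1 : G) ^ (i % 3) * (b : G) ^ (j % 3) * c ^ (n % 3) = _
      rw [← cube _ (P.L.exp _ a1.2), ← cube _ (P.L.exp _ b.2), ← cube _ (P.L'.exp c hcQ')]
    rw [← Nat.card_eq_of_bijective Φ ⟨hinj, hsurj⟩]
    simp
  · obtain ⟨i, j, n, rfl⟩ := (hH x).1 hx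
    obtain ⟨hi, hj, hn⟩ := ind i j n hxE
    rw [cube _ (P.L.exp _ a1.2), cube _ (P.L.exp _ b.2), cube _ (P.L'.exp c hcQ'), Nat.mod_eq_zero_of_dvd hi,
      Nat.mod_eq_zero_of_dvd hj, Nat.mod_eq_zero_of_dvd hn]
    simp

/-- A complement in the normaliser. -/
theorem exists_compl : ∃ K : Subgroup G, K ≤ Subgroup.normalizer ((Q ⊓ Q' : Subgroup G) : Set G) ∧
    (∀ x ∈ K, x ∈ Q ⊓ Q' → x = 1) ∧
    ∀ n ∈ Subgroup.normalizer ((Q ⊓ Q' : Subgroup G) : Set G), ∃ e ∈ Q ⊓ Q', ∃ k ∈ K, n = e * k := by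
  obtain ⟨H, hHN, hH27, hHE⟩ := P.exists_three
  set N := Subgroup.normalizer ((Q ⊓ Q' : Subgroup G) : Set G) with hN
  have hEN : Q ⊓ Q' ≤ N := Subgroup.le_normalizer
  set K0 := (Q ⊓ Q').subgroupOf N with hK0
  set A := H.subgroupOf N with hA
  haveI : K0.Normal := Subgroup.normal_in_normalizer
  haveI : IsMulCommutative K0 := ⟨⟨fun a b => Subtype.ext (Subtype.ext (P.abel _ a.2 _ b.2))⟩⟩
  have hK27 : Nat.card K0 = 27 := by rw [Nat.card_congr (Subgroup.subgroupOfEquivOfLe hEN).toEquiv, P.card]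
  have hA27 : Nat.card A = 27 := by rw [Nat.card_congr (Subgroup.subgroupOfEquivOfLe hHN).toEquiv, hH27]
  have hAK : A ⊓ K0 = ⊥ := by
    rw [eq_bot_iff]
    rintro x ⟨h1, h2⟩
    exact Subgroup.mem_bot.2 (Subtype.ext (hHE _ h1 h2))
  have hU : Nat.card ↥(K0 ⊔ A) = 729 := by
    have h := Subgroup.relIndex_mul_relIndex ⊥ K0 (K0 ⊔ A) bot_le le_sup_left
    rw [Subgroup.relIndex_bot_left, Subgroup.relIndex_bot_left, sup_comm, Subgroup.relIndex_sup_right,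
      ← Subgroup.inf_relIndex_right, inf_comm, hAK, Subgroup.relIndex_bot_left, hK27, hA27] at h
    rw [sup_comm, ← h]
  have hcop : (Nat.card K0).Coprime (K0 ⊔ A).index := by
    have h := (K0 ⊔ A).card_mul_index
    rw [hU, P.card_norm] at h
    rw [hK27, show (K0 ⊔ A).index = 208 by omega]
    norm_num
  obtain ⟨K1, hK1⟩ := CfsgLib.Gaschutz.exists_complement (U := K0 ⊔ A) le_sup_left hcop hAK rfl
  refine ⟨K1.map N.subtype, Subgroup.map_subtype_le _, ?_, fun n hn => ?_⟩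
  · rintro _ ⟨k, hk, rfl⟩ hkE
    have : k ∈ K0 ⊓ K1 := ⟨Subgroup.mem_subgroupOf.2 hkE, hk⟩
    rw [hK1.disjoint.eq_bot, Subgroup.mem_bot] at this
    rw [this]; rfl
  · obtain ⟨⟨e, k⟩, hek⟩ := hK1.2 ⟨n, hn⟩
    exact ⟨((e : N) : G), Subgroup.mem_subgroupOf.1 e.2, ((k : N) : G), ⟨_, k.2, rfl⟩,
      (congrArg Subtype.val hek).symm⟩

end Pair

end CfsgLib.LFourThree
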