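import Cfsg.Agent.Lib.LFourThree.Local

/-!
`Q` modulo the centre as a symplectic module.
-/

set_option autoImplicit false
set_option linter.style.haveILetI false
set_option linter.unusedSectionVars false

namespace CfsgLib.LFourThree

variable {G : Type*} [Group G]

/-- The centre inside `Q`. -/
abbrev zq (z : G) (Q : Subgroup G) : Subgroup Q := (Subgroup.zpowers z).subgroupOf Q

open Classical in
/-- The logarithm to the base `z`. -/
noncomputable def zlog (z : G) (x : G) : ZMod 3 := if h : ∃ i : ZMod 3, z ^ i.val = x then h.choose else 0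

namespace Local

variable {z : G} {Q : Subgroup G} {π : Subgroup.centralizer ({z} : Set G) →* S2} (L : Local z Q π)
include L

theorem pow_eq_iff {i j : ℕ} : z ^ i = z ^ j ↔ i % 3 = j % 3 := by
  rw [pow_inj_mod, L.ord]

theorem zlog_pow (i : ℕ) : zlog z (z ^ i) = (i : ZMod 3) := by
  have hex : ∃ k : ZMod 3, z ^ k.val = z ^ i := ⟨i, by rw [L.pow_eq_iff, ZMod.val_natCast, Nat.mod_mod]⟩
  rw [zlog, dif_pos hex]
  apply ZMod.val_injective
  have h := L.pow_eq_iff.1 hex.choose_spec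
  rw [ZMod.val_natCast, ← h, Nat.mod_eq_of_lt (ZMod.val_lt _)]

theorem exists_pow [Finite G] {x : G} (hx : x ∈ Subgroup.zpowers z) : ∃ i : ℕ, z ^ i = x := by
  obtain ⟨i, hi⟩ := mem_powers_iff_mem_zpowers.2 hx
  exact ⟨i, hi⟩

theorem zlog_mul [Finite G] {x y : G} (hx : x ∈ Subgroup.zpowers z) (hy : y ∈ Subgroup.zpowers z) :
    zlog z (x * y) = zlog z x + zlog z y := by
  obtain ⟨i, rfl⟩ := L.exists_pow hx
  obtain ⟨j, rfl⟩ := L.exists_pow hy
  rw [← pow_add, L.zlog_pow, L.zlog_pow, L.zlog_pow, Nat.cast_add]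

theorem zlog_one : zlog z (1 : G) = 0 := by simpa using L.zlog_pow 0

theorem zlog_eq_zero [Finite G] {x : G} (hx : x ∈ Subgroup.zpowers z) (h : zlog z x = 0) : x = 1 := by
  obtain ⟨i, rfl⟩ := L.exists_pow hx
  rw [L.zlog_pow, ZMod.natCast_eq_zero_iff] at h
  rw [← orderOf_dvd_iff_pow_eq_one, L.ord]
  exact h

theorem zlog_inv [Finite G] {x : G} (hx : x ∈ Subgroup.zpowers z) : zlog z x⁻¹ = -zlog z x := by
  rw [eq_neg_iff_add_eq_zero, ← L.zlog_mul ((Subgroup.zpowers z).inv_mem hx) hx, inv_mul_cancel, L.zlog_one]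

theorem zq_normal : (zq z Q).Normal :=
  ⟨fun x hx q => by
    have h := L.conj_sub q.2 (Subgroup.mem_subgroupOf.1 hx)
    rw [Subgroup.mem_subgroupOf]
    simp only [Subgroup.coe_mul, Subgroup.coe_inv]
    rw [h]
    exact Subgroup.mem_subgroupOf.1 hx⟩

theorem rel_comm (a b : Q) : (b * a)⁻¹ * (a * b) ∈ zq z Q := by
  rw [Subgroup.mem_subgroupOf]
  simp only [Subgroup.coe_mul, Subgroup.coe_inv, mul_inv_rev]
  simpa [mul_assoc] using L.comm _ (Q.inv_mem a.2) _ (Q.inv_mem b.2)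

end Local

variable {z : G} {Q : Subgroup G} [hZ : (zq z Q).Normal]

/-- The module. -/
abbrev Mod (z : G) (Q : Subgroup G) [(zq z Q).Normal] : Type _ := Additive (Q ⧸ zq z Q)

/-- The class of an element. -/
def cls (q : Q) : Mod z Q := Additive.ofMul (q : Q ⧸ zq z Q)

theorem cls_mul (a b : Q) : cls (z := z) (a * b) = cls a + cls b := rfl

theorem cls_one : cls (z := z) (1 : Q) = 0 := rfl

theorem cls_inv (a : Q) : cls (z := z) a⁻¹ = -cls a := rfl

theorem cls_pow (a : Q) (n : ℕ) : cls (z := z) (a ^ n) = n • cls a := rfl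

theorem cls_surj (v : Mod z Q) : ∃ q, cls q = v := QuotientGroup.mk_surjective v.toMul

theorem cls_eq_iff {a b : Q} : cls (z := z) a = cls b ↔ (a : G)⁻¹ * b ∈ Subgroup.zpowers z := by
  show Additive.ofMul (a : Q ⧸ zq z Q) = Additive.ofMul (b : Q ⧸ zq z Q) ↔ _
  rw [Additive.ofMul.injective.eq_iff, QuotientGroup.eq, Subgroup.mem_subgroupOf]
  simp

theorem cls_eq_zero_iff {a : Q} : cls (z := z) a = 0 ↔ (a : G) ∈ Subgroup.zpowers z := by
  rw [← cls_one, cls_eq_iff]
  simp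

/-- An element which normalises `Q` and the centre. -/
def Nor (z : G) (Q : Subgroup G) (g : G) : Prop :=
  (∀ q ∈ Q, g * q * g⁻¹ ∈ Q) ∧ g * z * g⁻¹ ∈ Subgroup.zpowers z

/-- Conjugation on `Q`. -/
def conjQ {g : G} (hg : Nor z Q g) : Q →* Q where
  toFun q := ⟨g * q * g⁻¹, hg.1 q q.2⟩
  map_one' := Subtype.ext (by simp)
  map_mul' a b := Subtype.ext (by simp [mul_assoc])

/-- Conjugation on the module. -/
def conjM {g : G} (hg : Nor z Q g) : Mod z Q →+ Mod z Q :=
  MonoidHom.toAdditive (QuotientGroup.map (zq z Q) (zq z Q) (conjQ hg) (fun x hx => by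
    rw [Subgroup.mem_comap, Subgroup.mem_subgroupOf]
    rw [Subgroup.mem_subgroupOf] at hx
    obtain ⟨n, hn⟩ := Subgroup.mem_zpowers_iff.1 hx
    show g * (x : G) * g⁻¹ ∈ _
    rw [← hn, ← conj_zpow]
    exact Subgroup.zpow_mem _ hg.2 n))

theorem conjM_cls {g : G} (hg : Nor z Q g) (q : Q) : conjM hg (cls q) = cls ⟨g * q * g⁻¹, hg.1 q q.2⟩ := rfl

namespace Local

variable {π : Subgroup.centralizer ({z} : Set G) →* S2} (L : Local z Q π)
include L

theorem nor (c : Subgroup.centralizer ({z} : Set G)) : Nor z Q c :=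
  ⟨fun _ hq => L.conj_mem c.2 hq, by
    rw [mem_cz.1 c.2, mul_inv_cancel_right]; exact Subgroup.mem_zpowers z⟩

theorem cls_comm (a b : Q) : cls (z := z) (a * b) = cls (b * a) :=
  (cls_eq_iff).2 (by
    have := Subgroup.mem_subgroupOf.1 (L.rel_comm b a)
    simpa using this)

theorem add_comm' (u v : Mod z Q) : u + v = v + u := by
  obtain ⟨a, rfl⟩ := cls_surj u
  obtain ⟨b, rfl⟩ := cls_surj v
  exact L.cls_comm a b

/-- The commutator form on elements. -/
noncomputable def beta (_L : Local z Q π) (a b : Q) : ZMod 3 := zlog z ((a : G) * b * (a : G)⁻¹ * (b : G)⁻¹)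

variable [Finite G]

theorem beta_mul (a b c : Q) : L.beta (a * b) c = L.beta a c + L.beta b c := by
  show zlog z _ = zlog z _ + zlog z _
  rw [Subgroup.coe_mul, L.comm_left a.2 b.2 c.2, L.zlog_mul (L.comm _ b.2 _ c.2) (L.comm _ a.2 _ c.2), add_comm]

theorem beta_skew (a b : Q) : L.beta a b = -L.beta b a := by
  show zlog z _ = -zlog z _
  rw [← L.zlog_inv (L.comm _ b.2 _ a.2)]
  congr 1
  group

theorem beta_mul_right (a b c : Q) : L.beta a (b * c) = L.beta a b + L.beta a c := by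
  rw [L.beta_skew, L.beta_mul, L.beta_skew b a, L.beta_skew c a]
  abel

theorem beta_eq_zero {a b : Q} : L.beta a b = 0 ↔ (a : G) * b = b * a := by
  constructor
  · intro h
    have h1 := L.zlog_eq_zero (L.comm _ a.2 _ b.2) h
    rwa [mul_inv_eq_one, mul_inv_eq_iff_eq_mul] at h1
  · intro h
    show zlog z _ = 0
    rw [h, mul_inv_cancel_right, mul_inv_cancel, L.zlog_one]

theorem beta_congr {a a' : Q} (h : cls (z := z) a = cls a') (b : Q) : L.beta a b = L.beta a' b := by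
  obtain ⟨c, hc, rfl⟩ : ∃ c : Q, (c : G) ∈ Subgroup.zpowers z ∧ a' = a * c :=
    ⟨a⁻¹ * a', (cls_eq_iff).1 h, (mul_inv_cancel_left a a').symm⟩
  rw [L.beta_mul, (L.beta_eq_zero).2 (L.q_comm b.2 hc).symm, add_zero]

theorem beta_congr_right {b b' : Q} (h : cls (z := z) b = cls b') (a : Q) : L.beta a b = L.beta a b' := by
  rw [L.beta_skew, L.beta_congr h, ← L.beta_skew]

/-- The module is an abelian group. -/
@[reducible] def addCommGroup (L : Local z Q π) : AddCommGroup (Mod z Q) :=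
  { (inferInstance : AddGroup (Mod z Q)) with add_comm := L.add_comm' }

/-- A representative. -/
noncomputable def rep (_L : Local z Q π) (v : Mod z Q) : Q := (cls_surj v).choose

theorem cls_rep (v : Mod z Q) : cls (L.rep v) = v := (cls_surj v).choose_spec

/-- The form. -/
noncomputable def formB (L : Local z Q π) : letI := L.addCommGroup; Mod z Q →+ Mod z Q →+ ZMod 3 :=
  letI := L.addCommGroup
  AddMonoidHom.mk' (fun u => AddMonoidHom.mk' (fun v => L.beta (L.rep u) (L.rep v)) fun v v' => by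
      rw [← L.beta_mul_right]
      exact L.beta_congr_right (by rw [L.cls_rep, cls_mul, L.cls_rep, L.cls_rep]) _)
    fun u u' => by
      ext v
      show L.beta _ _ = L.beta _ _ + L.beta _ _
      rw [← L.beta_mul]
      exact L.beta_congr (by rw [L.cls_rep, cls_mul, L.cls_rep, L.cls_rep]) _

theorem formB_cls (a b : Q) : (letI := L.addCommGroup; L.formB (cls a) (cls b)) = L.beta a b := by
  show L.beta _ _ = _
  rw [L.beta_congr (L.cls_rep (cls a)) _, L.beta_congr_right (L.cls_rep (cls b))]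

/-- A preimage in the centraliser. -/
noncomputable def lift (L : Local z Q π) (g : S2) : Subgroup.centralizer ({z} : Set G) := (L.surj g).choose

theorem pi_lift (g : S2) : π (L.lift g) = g := (L.surj g).choose_spec

/-- The action. -/
noncomputable def rho (L : Local z Q π) (g : S2) : Mod z Q →+ Mod z Q := conjM (L.nor (L.lift g))

theorem rho_cls (c : Subgroup.centralizer ({z} : Set G)) (q : Q) :
    L.rho (π c) (cls q) = cls (⟨(c : G) * q * (c : G)⁻¹, L.conj_mem c.2 q.2⟩ : Q) := by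
  rw [rho, conjM_cls, cls_eq_iff]
  set d : G := (L.lift (π c) : G) with hd
  have hr : (c : G)⁻¹ * d ∈ Q := (L.ker (c⁻¹ * L.lift (π c))).1 (by rw [map_mul, map_inv, L.pi_lift, inv_mul_cancel])
  show (d * q * d⁻¹)⁻¹ * ((c : G) * q * (c : G)⁻¹) ∈ _
  set r : G := (c : G)⁻¹ * d with hrd
  have e : d = (c : G) * r := by rw [hrd, mul_inv_cancel_left]
  rw [e, show ((c : G) * r * q * ((c : G) * r)⁻¹)⁻¹ * ((c : G) * q * (c : G)⁻¹) =
    (c : G) * (r * (q : G)⁻¹ * r⁻¹ * q) * (c : G)⁻¹ by group]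
  have hm : r * (q : G)⁻¹ * r⁻¹ * q ∈ Subgroup.zpowers z := by
    simpa using L.comm r hr _ (Q.inv_mem q.2)
  rwa [L.z_comm c.2 hm, mul_inv_cancel_right]

theorem symp : letI := L.addCommGroup; Symp L.rho L.formB := by
  letI := L.addCommGroup
  refine ⟨?_, fun v => ?_, fun v => ?_, fun g h v => ?_, fun v => ?_, fun g u v => ?_, fun u v => ?_, fun u h => ?_⟩
  · have e := Subgroup.card_eq_card_quotient_mul_card_subgroup (zq z Q)
    have h3 : Nat.card (zq z Q) = 3 := by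
      rw [Nat.card_congr (Subgroup.subgroupOfEquivOfLe L.zpowers_le).toEquiv, L.card_zpowers]
    rw [L.card, h3] at e
    show Nat.card (Q ⧸ zq z Q) = 81
    omega
  · obtain ⟨q, rfl⟩ := cls_surj v
    rw [← cls_mul, ← cls_mul, show q * q * q = 1 from Subtype.ext (by
      simpa [pow_succ] using L.exp q q.2), cls_one]
  · obtain ⟨q, rfl⟩ := cls_surj v
    rw [← map_one π, L.rho_cls]
    congr 1
    exact Subtype.ext (by simp)
  · obtain ⟨q, rfl⟩ := cls_surj v
    obtain ⟨c, rfl⟩ := L.surj g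
    obtain ⟨d, rfl⟩ := L.surj h
    rw [← map_mul, L.rho_cls, L.rho_cls, L.rho_cls]
    congr 1
    exact Subtype.ext (by simp [mul_assoc])
  · obtain ⟨q, rfl⟩ := cls_surj v
    obtain ⟨c, hc⟩ := L.surj (-1)
    rw [← hc, L.rho_cls, eq_neg_iff_add_eq_zero, ← cls_mul, cls_eq_zero_iff]
    exact L.neg c hc q q.2
  · obtain ⟨a, rfl⟩ := cls_surj u
    obtain ⟨b, rfl⟩ := cls_surj v
    obtain ⟨c, rfl⟩ := L.surj g
    rw [L.rho_cls, L.rho_cls, L.formB_cls, L.formB_cls]
    show zlog z _ = zlog z _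
    congr 1
    show (c : G) * a * (c : G)⁻¹ * ((c : G) * b * (c : G)⁻¹) * ((c : G) * a * (c : G)⁻¹)⁻¹ *
      ((c : G) * b * (c : G)⁻¹)⁻¹ = _
    rw [show (c : G) * a * (c : G)⁻¹ * ((c : G) * b * (c : G)⁻¹) * ((c : G) * a * (c : G)⁻¹)⁻¹ *
      ((c : G) * b * (c : G)⁻¹)⁻¹ = (c : G) * ((a : G) * b * (a : G)⁻¹ * (b : G)⁻¹) * (c : G)⁻¹ by group,
      L.z_comm c.2 (L.comm _ a.2 _ b.2), mul_inv_cancel_right]
  · obtain ⟨a, rfl⟩ := cls_surj u
    obtain ⟨b, rfl⟩ := cls_surj v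
    rw [L.formB_cls, L.formB_cls, L.beta_skew]
  · obtain ⟨a, rfl⟩ := cls_surj u
    rw [cls_eq_zero_iff]
    refine L.center _ a.2 fun b hb => ?_
    exact (L.beta_eq_zero (b := ⟨b, hb⟩)).1 (by rw [← L.formB_cls]; exact h _)

theorem conjM_neg {g : G} (hg : Nor z Q g) (hgz : g * z * g⁻¹ = z⁻¹) (a b : Q) :
    L.beta ⟨g * a * g⁻¹, hg.1 a a.2⟩ ⟨g * b * g⁻¹, hg.1 b b.2⟩ = -L.beta a b := by
  show zlog z _ = -zlog z _
  obtain ⟨i, hi⟩ := L.exists_pow (L.comm _ a.2 _ b.2)
  simp only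
  rw [show g * a * g⁻¹ * (g * b * g⁻¹) * (g * a * g⁻¹)⁻¹ * (g * b * g⁻¹)⁻¹ =
    g * ((a : G) * b * (a : G)⁻¹ * (b : G)⁻¹) * g⁻¹ by group, ← hi, ← conj_pow, hgz, inv_pow,
    L.zlog_inv (Subgroup.pow_mem _ (Subgroup.mem_zpowers z) i)]

end Local

end CfsgLib.LFourThree
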