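import Cfsg.Agent.Lib.LFourThree.PairI

/-!
The quotient of the centraliser of `v` by `⟨v⟩`: the part seen in the parabolic is strongly
3-embedded.
-/

set_option autoImplicit false

namespace CfsgLib.LFourThree.Par

open Matrix

variable {G : Type*} [Group G] [Finite G] {φ : para →* G} {v : para}

/-- The centraliser of the image. -/
abbrev Cen (φ : para →* G) (v : para) : Subgroup G := Subgroup.centralizer ({φ v} : Set G)

/-- The centraliser in the parabolic. -/
abbrev CenP (v : para) : Subgroup para := Subgroup.centralizer ({v} : Set para)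

/-- The image of `v` as a subgroup of its centraliser. -/
def Vz (φ : para →* G) (v : para) : Subgroup (Cen φ v) :=
  Subgroup.zpowers ⟨φ v, Subgroup.mem_centralizer_singleton_iff.2 rfl⟩

instance Vz_normal : (Vz φ v).Normal where
  conj_mem n hn g := by
    obtain ⟨k, rfl⟩ := Subgroup.mem_zpowers_iff.1 hn
    have h : Commute g ⟨φ v, Subgroup.mem_centralizer_singleton_iff.2 rfl⟩ :=
      Subtype.ext (Subgroup.mem_centralizer_singleton_iff.1 g.2)
    rw [(h.zpow_right k).eq, mul_inv_cancel_right]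
    exact hn

omit [Finite G] in
theorem phi_mem {g : para} (hg : g ∈ CenP v) : φ g ∈ Cen φ v :=
  Subgroup.mem_centralizer_singleton_iff.2 (by
    rw [← map_mul, Subgroup.mem_centralizer_singleton_iff.1 hg, map_mul])

/-- The map to the quotient. -/
def psi (φ : para →* G) (v : para) : CenP v →* Cen φ v ⧸ Vz φ v :=
  (QuotientGroup.mk' (Vz φ v)).comp ((φ.comp (CenP v).subtype).codRestrict (Cen φ v)
    fun g => phi_mem g.2)

omit [Finite G] in
theorem psi_eq_one (hinj : Function.Injective φ) (g : CenP v) :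
    psi φ v g = 1 ↔ (g : para) ∈ Subgroup.zpowers v := by
  refine (QuotientGroup.eq_one_iff _).trans ?_
  rw [Vz, Subgroup.mem_zpowers_iff, Subgroup.mem_zpowers_iff]
  constructor
  · rintro ⟨k, hk⟩
    refine ⟨k, hinj ?_⟩
    rw [map_zpow]
    simpa using congrArg Subtype.val hk
  · rintro ⟨k, hk⟩
    refine ⟨k, Subtype.ext ?_⟩
    simp only [SubgroupClass.coe_zpow]
    rw [← map_zpow, hk]
    rfl

omit [Finite G] in
theorem good_of_top (h : (psi φ v).range = ⊤) : Good φ v := by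
  intro g hg
  obtain ⟨g0, hg0⟩ : (QuotientGroup.mk' (Vz φ v)
      ⟨g, Subgroup.mem_centralizer_singleton_iff.2 hg⟩) ∈ (psi φ v).range := h ▸ Subgroup.mem_top _
  obtain ⟨k, hk⟩ := Subgroup.mem_zpowers_iff.1 (QuotientGroup.eq.1 hg0)
  refine ⟨g0 * v ^ k, ?_⟩
  have h2 := congrArg Subtype.val hk
  simp at h2
  rw [map_mul, map_zpow, h2]
  group

theorem card_range (hinj : Function.Injective φ) (hv : orderOf v = 3)
    (hc : Nat.card (CenP v) = 486) : Nat.card (psi φ v).range = 162 := by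
  have h1 := (psi φ v).ker.card_mul_index
  rw [Subgroup.index_ker, hc] at h1
  have hker : (psi φ v).ker = (Subgroup.zpowers v).subgroupOf (CenP v) := by
    ext g
    exact psi_eq_one hinj g
  have hk : Nat.card (psi φ v).ker = 3 := by
    rw [hker, Nat.card_congr (Subgroup.subgroupOfEquivOfLe (Subgroup.zpowers_le.2
      (Subgroup.mem_centralizer_singleton_iff.2 rfl))).toEquiv, Nat.card_zpowers, hv]
  rw [hk] at h1
  omega

omit [Finite G] in
theorem closure_eq_range (hinj : Function.Injective φ) (S : Set (CenP v))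
    (hgen : ∀ g ∈ CenP v, g ∈ Subgroup.closure (insert v (Subtype.val '' S))) :
    Subgroup.closure (psi φ v '' S) = (psi φ v).range := by
  rw [← MonoidHom.map_closure]
  refine le_antisymm (Subgroup.map_le_range _ _) ?_
  rintro _ ⟨g, rfl⟩
  have hle : Subgroup.closure (insert v (Subtype.val '' S)) ≤
      (((Subgroup.closure S).map (psi φ v)).comap (psi φ v)).map (CenP v).subtype := by
    rw [Subgroup.closure_le]
    rintro _ (rfl | ⟨s, hs, rfl⟩)
    · refine ⟨⟨_, Subgroup.mem_centralizer_singleton_iff.2 rfl⟩, ⟨1, one_mem _, ?_⟩, rfl⟩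
      rw [map_one]
      exact ((psi_eq_one hinj _).2 (Subgroup.mem_zpowers _)).symm
    · exact ⟨s, ⟨s, Subgroup.subset_closure hs, rfl⟩, rfl⟩
  obtain ⟨g', hg', he⟩ := hle (hgen g g.2)
  rwa [Subtype.ext he] at hg'

theorem psi_strong (hinj : Function.Injective φ) (hz : ZHyp φ) {d e : ZMod 3}
    (hv : v = U 0 d 0 0 e 0)
    (htri : ∀ g, g * v = v * g → ∃ p q r a b c t, m g = WM p q r a b c t)
    (hcases : ∀ x, IsU x → x * v = v * x → x ^ 3 = 1 → x ∉ Subgroup.zpowers v →
      (∃ n : ℕ, IsZ (x * v ^ n)) ∨ ∀ g, g * v = v * g → g * x = x * g → IsU g)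
    (hgood : ∀ x, IsU x → x * v = v * x → x ^ 3 = 1 → x ∉ Subgroup.zpowers v → Good2 φ v x) :
    Strong (psi φ v).range := by
  have hcube : ∀ x : para, x * v = v * x → x ^ 3 ∈ Subgroup.zpowers v → x ^ 3 = 1 := by
    intro x hx hx3
    obtain ⟨n, hn⟩ := (isOfFinOrder_of_finite v).mem_powers_iff_mem_zpowers.2 hx3
    simp only [hv, A_pow] at hn
    obtain ⟨p, q, r, a, b, c, t, hm⟩ := htri x hx
    have h' := congrArg m hn.symm
    rw [pow_succ, pow_two, m_mul, m_mul, hm, WM_mul, WM_mul, m_U] at h'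
    have ha := (WM_ext h').2.2.2.1
    rcases tri_cases hm with ⟨_, rfl⟩ | ⟨rfl, -⟩
    · rw [U_cube] at hn ⊢
      have := (U_ext hn).2.2.1
      rw [mul_zero] at this
      rw [← this, U_one]
    · exact absurd ha (by decide)
  have hvz : zE * v = v * zE := by
    rw [hv]; simp only [zE, U_mul]; congr 1 <;> ring
  intro X hX hX3 gq hgq
  obtain ⟨⟨x, hxC⟩, rfl⟩ := hX
  obtain ⟨⟨y, hyC⟩, hy⟩ := hgq
  obtain ⟨g, rfl⟩ := QuotientGroup.mk'_surjective (Vz φ v) gq
  have hxv := Subgroup.mem_centralizer_singleton_iff.1 hxC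
  have hgv := Subgroup.mem_centralizer_singleton_iff.1 g.2
  have hx3 : x ^ 3 = 1 := by
    refine hcube x hxv ((psi_eq_one hinj (⟨x, hxC⟩ ^ 3)).1 ?_)
    have h := pow_orderOf_eq_one (psi φ v ⟨x, hxC⟩)
    rw [hX3] at h
    rwa [map_pow]
  have hxn : x ∉ Subgroup.zpowers v := fun h => by
    rw [(psi_eq_one hinj ⟨x, hxC⟩).2 h, orderOf_one] at hX3
    omega
  obtain ⟨p, q, r, a, b, c, t, hm⟩ := htri x hxv
  have hxU := tri_isU hm hx3
  -- the image of `x`
  obtain ⟨k, hk⟩ := Subgroup.mem_zpowers_iff.1 (QuotientGroup.eq.1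
    (show (QuotientGroup.mk' (Vz φ v)) ⟨φ y, phi_mem hyC⟩ =
      (QuotientGroup.mk' (Vz φ v)) (g * ⟨φ x, phi_mem hxC⟩ * g⁻¹) by
        rw [map_mul, map_mul, map_inv]; exact hy))
  have hk' : (g : G) * φ x * (g : G)⁻¹ = φ (y * v ^ k) := by
    have h := congrArg Subtype.val hk
    simp at h
    rw [map_mul, map_zpow, h]
    group
  generalize hy1 : y * v ^ k = y1 at hk'
  have hy1v : y1 * v = v * y1 := by
    rw [← hy1]
    exact (show Commute y v from Subgroup.mem_centralizer_singleton_iff.1 hyC).mul_left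
      ((Commute.refl v).zpow_left k)
  have hy13 : y1 ^ 3 = 1 := hinj (by
    rw [map_pow, ← hk', conj_pow, ← map_pow, hx3, map_one, mul_one, mul_inv_cancel])
  obtain ⟨p', q', r', a', b', c', t', hm'⟩ := htri y1 hy1v
  have hy1U := tri_isU hm' hy13
  suffices hg : (g : G) ∈ φ.range by
    obtain ⟨g0, hg0⟩ := hg
    refine ⟨⟨g0, Subgroup.mem_centralizer_singleton_iff.2 (hinj ?_)⟩, congrArg (QuotientGroup.mk' (Vz φ v)) (Subtype.ext hg0)⟩
    rw [map_mul, map_mul, hg0]
    exact hgv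
  rcases hcases x hxU hxv hx3 hxn with ⟨n, hn⟩ | hU
  · refine hz.conj hn ⟨y1 * v ^ n, ?_⟩
    rw [map_mul, map_mul, ← hk', map_pow]
    have h : (g : G) * φ v ^ n = φ v ^ n * (g : G) := ((show Commute (g : G) (φ v) from hgv).pow_right n).eq
    calc (g : G) * φ x * (g : G)⁻¹ * φ v ^ n = (g : G) * φ x * (g : G)⁻¹ * (φ v ^ n * g) * (g : G)⁻¹ := by
          group
      _ = _ := by rw [← h]; group
  · have hzy : φ zE * φ y1 = φ y1 * φ zE := by rw [← map_mul, ← map_mul, hy1U.comm_z]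
    have hzv' : φ zE * φ v = φ v * φ zE := by rw [← map_mul, ← map_mul, hvz]
    obtain ⟨d0, hd0⟩ : (g : G)⁻¹ * φ zE * g ∈ φ.range := by
      refine hgood x hxU hxv hx3 hxn _ ?_ ?_
      · calc (g : G)⁻¹ * φ zE * g * φ v = (g : G)⁻¹ * φ zE * (g * φ v) := by group
          _ = (g : G)⁻¹ * (φ zE * φ v) * g := by rw [hgv]; group
          _ = (g : G)⁻¹ * φ v * φ zE * g := by rw [hzv']; group
          _ = (g : G)⁻¹ * φ v * g * ((g : G)⁻¹ * φ zE * g) := by group
          _ = _ := by rw [mul_assoc (g : G)⁻¹ (φ v) g, ← hgv, inv_mul_cancel_left]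
      · have e : φ x = (g : G)⁻¹ * φ y1 * g := by rw [← hk']; group
        rw [e]
        calc (g : G)⁻¹ * φ zE * g * ((g : G)⁻¹ * φ y1 * g) = (g : G)⁻¹ * (φ zE * φ y1) * g := by
              group
          _ = _ := by rw [hzy]; group
    have hd0v : d0 * v = v * d0 := hinj (by
      rw [map_mul, map_mul, hd0]
      have hgv' : (g : G)⁻¹ * φ v = φ v * (g : G)⁻¹ :=
        (show Commute (g : G) (φ v) from hgv).inv_left.eq
      calc (g : G)⁻¹ * φ zE * g * φ v = (g : G)⁻¹ * φ zE * (g * φ v) := by group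
        _ = (g : G)⁻¹ * (φ zE * φ v) * g := by rw [hgv]; group
        _ = (g : G)⁻¹ * φ v * φ zE * g := by rw [hzv']; group
        _ = _ := by rw [hgv']; group)
    have hd0x : d0 * x = x * d0 := hinj (by
      rw [map_mul, map_mul, hd0, show φ x = (g : G)⁻¹ * φ y1 * g by rw [← hk']; group]
      calc (g : G)⁻¹ * φ zE * g * ((g : G)⁻¹ * φ y1 * g) = (g : G)⁻¹ * (φ zE * φ y1) * g := by
            group
        _ = _ := by rw [hzy]; group)
    have hcz := congrArg φ (hU d0 hd0v hd0x).comm_z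
    rw [map_mul, map_mul, hd0] at hcz
    refine hz _ (good_of_isZ hz isZ_zE _ ?_)
    calc (g : G) * φ zE * (g : G)⁻¹ * φ zE =
          g * (φ zE * ((g : G)⁻¹ * φ zE * g)) * (g : G)⁻¹ := by group
      _ = _ := by rw [← hcz]; group

end CfsgLib.LFourThree.Par
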