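import Cfsg.Agent.Lib.LFourThree.ZFusionModel

/-!
The fusion of the root element at `(0,3)` in a finite group containing the parabolic of `SL(4,3)`, with the full
centraliser of this element inside it.
-/

set_option autoImplicit false
set_option linter.unusedSectionVars false
set_option linter.style.haveILetI false

namespace CfsgLib.LFourThree.ZF

variable {G : Type*} [Group G]

/-- The extension of `t` by `1`. -/
noncomputable def tExt (t : para →* G) (g : SL4) : G :=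
  letI := Classical.propDecidable (g ∈ para)
  if h : g ∈ para then t ⟨g, h⟩ else 1

/-- The image of a subgroup in the parabolic. -/
abbrev tImg (t : para →* G) (H : Subgroup SL4) : Subgroup G := (H.subgroupOf para).map t

theorem tExt_eq (t : para →* G) {g : SL4} (h : g ∈ para) : tExt t g = t ⟨g, h⟩ := dif_pos h

theorem mem_tImg {t : para →* G} {H : Subgroup SL4} {x : G} :
    x ∈ tImg t H ↔ ∃ a, a ∈ H ∧ a ∈ para ∧ x = tExt t a := by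
  constructor
  · rintro ⟨a, ha, rfl⟩
    exact ⟨a.1, ha, a.2, (tExt_eq t a.2).symm⟩
  · rintro ⟨a, ha, hp, rfl⟩
    exact ⟨⟨a, hp⟩, ha, (tExt_eq t hp).symm⟩

theorem tExt_mem (t : para →* G) {H : Subgroup SL4} {a : SL4} (ha : a ∈ H) (hp : a ∈ para) :
    tExt t a ∈ tImg t H :=
  mem_tImg.2 ⟨a, ha, hp, rfl⟩

theorem tExt_mul (t : para →* G) {a b : SL4} (ha : a ∈ para) (hb : b ∈ para) :
    tExt t (a * b) = tExt t a * tExt t b := by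
  rw [tExt_eq t (mul_mem ha hb), tExt_eq t ha, tExt_eq t hb, ← map_mul]; rfl

theorem tExt_one (t : para →* G) : tExt t 1 = 1 := by
  rw [tExt_eq t (one_mem _)]; exact map_one t

theorem tExt_inv (t : para →* G) {a : SL4} (ha : a ∈ para) : tExt t a⁻¹ = (tExt t a)⁻¹ := by
  rw [tExt_eq t (inv_mem ha), tExt_eq t ha, ← map_inv]; rfl

theorem tExt_conj (t : para →* G) {a b : SL4} (ha : a ∈ para) (hb : b ∈ para) :
    tExt t (a * b * a⁻¹) = tExt t a * tExt t b * (tExt t a)⁻¹ := by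
  rw [tExt_mul t (mul_mem ha hb) (inv_mem ha), tExt_mul t ha hb, tExt_inv t ha]

theorem tExt_pow (t : para →* G) {a : SL4} (ha : a ∈ para) (n : ℕ) : tExt t (a ^ n) = tExt t a ^ n := by
  rw [tExt_eq t (pow_mem ha n), tExt_eq t ha, ← map_pow]; rfl

theorem tExt_mem_range (t : para →* G) {a : SL4} (ha : a ∈ para) : tExt t a ∈ t.range :=
  ⟨⟨a, ha⟩, (tExt_eq t ha).symm⟩

/-- The image of an upper unitriangular matrix. -/
noncomputable def tU (t : para →* G) (a₁ a₂ b e c₁ c₂ : ZMod 3) : G := tExt t (uEl a₁ a₂ b e c₁ c₂)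

/-- The image of `root 0 3 1`. -/
noncomputable def tZ (t : para →* G) : G := tExt t zmat

theorem tZ_eq (t : para →* G) : tZ t = tU t 0 0 1 0 0 0 := by rw [tZ, zmat_eq]; rfl

theorem tU_mul (t : para →* G) (p₁ p₂ pb s r₁ r₂ a₁ a₂ b e c₁ c₂ : ZMod 3) :
    tU t p₁ p₂ pb s r₁ r₂ * tU t a₁ a₂ b e c₁ c₂ =
      tU t (a₁ + p₁) (a₂ + p₁ * e + p₂) (b + p₁ * c₁ + p₂ * c₂ + pb) (e + s) (c₁ + s * c₂ + r₁) (c₂ + r₂) := by
  rw [tU, tU, tU, ← tExt_mul t (uEl_mem_para _ _ _ _ _ _) (uEl_mem_para _ _ _ _ _ _), uEl_mul]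

/-- The standing hypotheses. -/
structure Hyp (t : para →* G) : Prop where
  inj : Function.Injective t
  cent : Subgroup.centralizer ({tZ t} : Set G) = tImg t cm
  syl : ¬ 3 ^ 7 ∣ Nat.card G
  sym : ∀ g : G, g * tZ t * g⁻¹ ∈ tImg t qGrp → g⁻¹ * tZ t * g ∈ tImg t qGrp

theorem sq_three : ∀ a : ZMod 3, a ≠ 0 → a * a = 1 := by decide

theorem scale_three : ∀ a b : ZMod 3, a ≠ 0 → b ≠ 0 → ∃ d : ZMod 3, b + d * a = 0 ∧ (d = 1 ∨ d = 2) := by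
  decide

theorem two_three : (1 : ZMod 3) + 1 ≠ 0 := by decide

theorem conj_eq_conj_iff {g k z : G} : g * z * g⁻¹ = k * z * k⁻¹ ↔ k⁻¹ * g * z = z * (k⁻¹ * g) := by
  constructor
  · intro h
    calc k⁻¹ * g * z = k⁻¹ * (g * z * g⁻¹) * g := by group
      _ = z * (k⁻¹ * g) := by rw [h]; group
  · intro h
    calc g * z * g⁻¹ = k * (k⁻¹ * g * z) * g⁻¹ := by group
      _ = k * z * k⁻¹ := by rw [h]; group

namespace Hyp

variable {t : para →* G} (D : Hyp t)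
include D

theorem tExt_inj {a b : SL4} (ha : a ∈ para) (hb : b ∈ para) (h : tExt t a = tExt t b) : a = b := by
  rw [tExt_eq t ha, tExt_eq t hb] at h
  exact congrArg Subtype.val (D.inj h)

theorem tU_inj {p₁ p₂ pb s r₁ r₂ a₁ a₂ b e c₁ c₂ : ZMod 3}
    (h : tU t p₁ p₂ pb s r₁ r₂ = tU t a₁ a₂ b e c₁ c₂) :
    p₁ = a₁ ∧ p₂ = a₂ ∧ pb = b ∧ s = e ∧ r₁ = c₁ ∧ r₂ = c₂ :=
  uEl_inj (D.tExt_inj (uEl_mem_para _ _ _ _ _ _) (uEl_mem_para _ _ _ _ _ _) h)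

theorem tU_comm_iff (p₁ p₂ pb s r₁ r₂ a₁ a₂ b e c₁ c₂ : ZMod 3) :
    tU t p₁ p₂ pb s r₁ r₂ * tU t a₁ a₂ b e c₁ c₂ = tU t a₁ a₂ b e c₁ c₂ * tU t p₁ p₂ pb s r₁ r₂ ↔
      p₁ * e = a₁ * s ∧ p₁ * c₁ + p₂ * c₂ = a₁ * r₁ + a₂ * r₂ ∧ s * c₂ = e * r₂ := by
  have hp := uEl_mem_para
  rw [← uEl_comm_iff p₁ p₂ pb s r₁ r₂ a₁ a₂ b e c₁ c₂, tU, tU,
    ← tExt_mul t (hp _ _ _ _ _ _) (hp _ _ _ _ _ _), ← tExt_mul t (hp _ _ _ _ _ _) (hp _ _ _ _ _ _)]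
  exact ⟨D.tExt_inj (mul_mem (hp _ _ _ _ _ _) (hp _ _ _ _ _ _)) (mul_mem (hp _ _ _ _ _ _) (hp _ _ _ _ _ _)),
    fun h => by rw [h]⟩

theorem comm_z (a₁ a₂ b e c₁ c₂ : ZMod 3) : tU t a₁ a₂ b e c₁ c₂ * tZ t = tZ t * tU t a₁ a₂ b e c₁ c₂ := by
  rw [tZ_eq]; exact (D.tU_comm_iff ..).2 (by simp)

theorem mem_C {g : G} : g * tZ t = tZ t * g ↔ ∃ a, a ∈ cm ∧ g = tExt t a := by
  rw [← Subgroup.mem_centralizer_singleton_iff, D.cent, mem_tImg]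
  exact ⟨fun ⟨a, ha, _, h⟩ => ⟨a, ha, h⟩, fun ⟨a, ha, h⟩ => ⟨a, ha, ha.1, h⟩⟩

theorem mem_q {x : G} : x ∈ tImg t qGrp ↔ ∃ a₁ a₂ b c₁ c₂, x = tU t a₁ a₂ b 0 c₁ c₂ := by
  rw [mem_tImg]
  constructor
  · rintro ⟨a, ha, -, rfl⟩
    obtain ⟨a₁, a₂, b, c₁, c₂, rfl⟩ := mem_qGrp.1 ha
    exact ⟨_, _, _, _, _, rfl⟩
  · rintro ⟨a₁, a₂, b, c₁, c₂, rfl⟩
    exact ⟨_, mem_qGrp.2 ⟨_, _, _, _, _, rfl⟩, uEl_mem_para _ _ _ _ _ _, rfl⟩

theorem mem_row {x : G} : x ∈ tImg t rowGrp ↔ ∃ a₁ a₂ b, x = tU t a₁ a₂ b 0 0 0 := by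
  rw [mem_tImg]
  constructor
  · rintro ⟨a, ha, -, rfl⟩
    obtain ⟨a₁, a₂, b, rfl⟩ := mem_rowGrp.1 ha
    exact ⟨_, _, _, rfl⟩
  · rintro ⟨a₁, a₂, b, rfl⟩
    exact ⟨_, mem_rowGrp.2 ⟨_, _, _, rfl⟩, uEl_mem_para _ _ _ _ _ _, rfl⟩

theorem mem_col {x : G} : x ∈ tImg t colGrp ↔ ∃ b c₁ c₂, x = tU t 0 0 b 0 c₁ c₂ := by
  rw [mem_tImg]
  constructor
  · rintro ⟨a, ha, -, rfl⟩
    obtain ⟨b, c₁, c₂, rfl⟩ := mem_colGrp.1 ha
    exact ⟨_, _, _, rfl⟩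
  · rintro ⟨b, c₁, c₂, rfl⟩
    exact ⟨_, mem_colGrp.2 ⟨_, _, _, rfl⟩, uEl_mem_para _ _ _ _ _ _, rfl⟩

theorem mem_u {x : G} : x ∈ tImg t uGrp ↔ ∃ a₁ a₂ b e c₁ c₂, x = tU t a₁ a₂ b e c₁ c₂ := by
  rw [mem_tImg]
  constructor
  · rintro ⟨a, ⟨a₁, a₂, b, e, c₁, c₂, rfl⟩, -, rfl⟩
    exact ⟨_, _, _, _, _, _, rfl⟩
  · rintro ⟨a₁, a₂, b, e, c₁, c₂, rfl⟩
    exact ⟨_, ⟨_, _, _, _, _, _, rfl⟩, uEl_mem_para _ _ _ _ _ _, rfl⟩

theorem u_le_C : tImg t uGrp ≤ Subgroup.centralizer ({tZ t} : Set G) :=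
  D.cent ▸ Subgroup.map_mono (fun _ h => uGrp_le_cm h)

theorem z_cube : tZ t ^ 3 = 1 := by
  rw [tZ_eq, tU, ← tExt_pow t (uEl_mem_para _ _ _ _ _ _), uEl_cube]
  simp [uEl_one, tExt_one]

theorem conj_cube (g : G) : (g * tZ t * g⁻¹) ^ 3 = 1 := by rw [conj_pow, D.z_cube]; group

theorem cube_coord {a₁ a₂ b e c₁ c₂ : ZMod 3} (h : tU t a₁ a₂ b e c₁ c₂ ^ 3 = 1) : a₁ * e * c₂ = 0 := by
  rw [tU, ← tExt_pow t (uEl_mem_para _ _ _ _ _ _), uEl_cube, ← tExt_one t] at h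
  have h' := D.tExt_inj (uEl_mem_para _ _ _ _ _ _) (one_mem _) h
  rw [← uEl_one] at h'
  exact (uEl_inj h').2.2.1

theorem row_conj {r : SL4} (hr : r ∈ rowGrp) (h1 : r ≠ 1) :
    ∃ k ∈ para, tExt t k * tZ t * (tExt t k)⁻¹ = tExt t r := by
  obtain ⟨k, hk, e⟩ := row_transitive hr h1
  exact ⟨k, hk, by rw [tZ, ← tExt_conj t hk zmat_mem_para, e]⟩

/-- The symmetry, translated. -/
theorem sym' {g k q : G} (hq : q ∈ tImg t qGrp) (h : k * tZ t * k⁻¹ = g * q * g⁻¹) :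
    k⁻¹ * (g * tZ t * g⁻¹) * k ∈ tImg t qGrp := by
  have h1 := D.sym (g⁻¹ * k) (by
    have e : g⁻¹ * k * tZ t * (g⁻¹ * k)⁻¹ = g⁻¹ * (k * tZ t * k⁻¹) * g := by group
    rw [e, h]
    have e' : g⁻¹ * (g * q * g⁻¹) * g = q := by group
    rwa [e'])
  have e : k⁻¹ * (g * tZ t * g⁻¹) * k = (g⁻¹ * k)⁻¹ * tZ t * (g⁻¹ * k) := by group
  rw [e]; exact h1

theorem card_u : Nat.card (tImg t uGrp) = 729 := by
  let f : ZMod 3 × ZMod 3 × ZMod 3 × ZMod 3 × ZMod 3 × ZMod 3 → tImg t uGrp := fun p =>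
    ⟨tU t p.1 p.2.1 p.2.2.1 p.2.2.2.1 p.2.2.2.2.1 p.2.2.2.2.2, D.mem_u.2 ⟨_, _, _, _, _, _, rfl⟩⟩
  have hf : Function.Bijective f := by
    constructor
    · rintro ⟨a, b, c, d, e, k⟩ ⟨a', b', c', d', e', k'⟩ h
      obtain ⟨h1, h2, h3, h4, h5, h6⟩ := D.tU_inj (congrArg Subtype.val h)
      dsimp only at h1 h2 h3 h4 h5 h6
      rw [h1, h2, h3, h4, h5, h6]
    · rintro ⟨x, hx⟩
      obtain ⟨a, b, c, d, e, k, rfl⟩ := D.mem_u.1 hx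
      exact ⟨⟨a, b, c, d, e, k⟩, rfl⟩
  rw [← Nat.card_eq_of_bijective f hf, Nat.card_prod, Nat.card_prod, Nat.card_prod, Nat.card_prod,
    Nat.card_prod, Nat.card_zmod]

theorem three_le [Finite G] {S : Subgroup G} (hS : IsPGroup 3 S) : Nat.card S ≤ 729 := by
  haveI : Fact (Nat.Prime 3) := ⟨Nat.prime_three⟩
  obtain ⟨n, hn⟩ := IsPGroup.iff_card.1 hS
  by_contra hc
  refine D.syl ((?_ : 3 ^ 7 ∣ Nat.card S).trans (Subgroup.card_subgroup_dvd_card S))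
  rw [hn]
  refine pow_dvd_pow 3 ?_
  by_contra h7
  have := Nat.pow_le_pow_right (show 1 ≤ 3 by norm_num) (show n ≤ 6 by omega)
  omega

theorem u_pgroup : IsPGroup 3 (tImg t uGrp) := IsPGroup.of_card (n := 6) (by rw [D.card_u]; norm_num)

/-- The upper unitriangular group is a Sylow subgroup of every subgroup containing it. -/
theorem conj_into [Finite G] {R : Subgroup G} (hR : tImg t uGrp ≤ R) {S : Subgroup G} (hS : S ≤ R)
    (h3 : IsPGroup 3 S) : ∃ h ∈ R, ∀ x ∈ S, h * x * h⁻¹ ∈ tImg t uGrp := by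
  haveI : Fact (Nat.Prime 3) := ⟨Nat.prime_three⟩
  obtain ⟨A, hA⟩ := (D.u_pgroup.comap_of_injective R.subtype R.subtype_injective).exists_le_sylow
  obtain ⟨B, hB⟩ := (h3.comap_of_injective R.subtype R.subtype_injective).exists_le_sylow
  have hAe : (A : Subgroup R).map R.subtype = tImg t uGrp := by
    refine (Subgroup.eq_of_le_of_card_ge ?_ ?_).symm
    · intro x hx
      exact ⟨⟨x, hR hx⟩, hA hx, rfl⟩
    · rw [D.card_u]
      exact D.three_le (A.2.map _)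
  obtain ⟨c, hc⟩ := MulAction.exists_smul_eq R B A
  refine ⟨c, c.2, fun x hx => ?_⟩
  rw [← hAe]
  refine ⟨c * ⟨x, hS hx⟩ * c⁻¹, ?_, rfl⟩
  rw [← hc, Sylow.coe_subgroup_smul, ← MulAut.conj_apply]
  exact Subgroup.smul_mem_pointwise_smul _ _ _ (hB hx)

theorem conj_into_elt [Finite G] {R : Subgroup G} (hR : tImg t uGrp ≤ R) {x : G} (hx : x ∈ R) (h3 : x ^ 3 = 1) :
    ∃ h ∈ R, h * x * h⁻¹ ∈ tImg t uGrp := by
  haveI : Fact (Nat.Prime 3) := ⟨Nat.prime_three⟩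
  obtain ⟨i, -, hi⟩ := (Nat.dvd_prime_pow Nat.prime_three).1
    (orderOf_dvd_of_pow_eq_one (show x ^ 3 ^ 1 = 1 by rw [pow_one, h3]))
  obtain ⟨h, hh, e⟩ := D.conj_into hR (Subgroup.zpowers_le.2 hx)
    (IsPGroup.of_card (n := i) (by rw [Nat.card_zpowers, hi]))
  exact ⟨h, hh, e x (Subgroup.mem_zpowers x)⟩

/-- An element of order three of the centraliser commuting with an element outside the radical. -/
theorem mem_u_of_comm {q : G} (hq : q * tZ t = tZ t * q) (h3 : q ^ 3 = 1) {a₁ a₂ b e c₁ c₂ : ZMod 3}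
    (he : e ≠ 0) (h : q * tU t a₁ a₂ b e c₁ c₂ = tU t a₁ a₂ b e c₁ c₂ * q) :
    ∃ p₁ p₂ pb s r₁ r₂, q = tU t p₁ p₂ pb s r₁ r₂ := by
  obtain ⟨a, ha, rfl⟩ := D.mem_C.1 hq
  have hu := uEl_mem_para a₁ a₂ b e c₁ c₂
  rw [tU, ← tExt_mul t ha.1 hu, ← tExt_mul t hu ha.1] at h
  rw [← tExt_pow t ha.1, ← tExt_one t] at h3
  obtain ⟨p₁, p₂, pb, s, r₁, r₂, rfl⟩ := mem_uGrp_of_comm ha (D.tExt_inj (pow_mem ha.1 3) (one_mem _) h3) he
    (D.tExt_inj (mul_mem ha.1 hu) (mul_mem hu ha.1) h)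
  exact ⟨_, _, _, _, _, _, rfl⟩

/-- The partner of a conjugate of the root element outside the radical, moved into the unitriangular group. -/
theorem normal_form [Finite G] {g : G} {a₁ a₂ b e c₁ c₂ : ZMod 3} (he : e ≠ 0)
    (hx : g * tZ t * g⁻¹ = tU t a₁ a₂ b e c₁ c₂) :
    ∃ h, h * tZ t = tZ t * h ∧ (g * h) * tZ t * (g * h)⁻¹ = g * tZ t * g⁻¹ ∧
      ∃ p₁ p₂ pb s r₁ r₂, (g * h)⁻¹ * tZ t * (g * h) = tU t p₁ p₂ pb s r₁ r₂ ∧ s ≠ 0 ∧ p₁ * r₂ = 0 := by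
  set z := tZ t with hz
  have hcC : g⁻¹ * z * g ∈ Subgroup.centralizer ({z} : Set G) := Subgroup.mem_centralizer_singleton_iff.2 (by
    have h1 := D.comm_z a₁ a₂ b e c₁ c₂
    rw [← hx, ← hz] at h1
    calc g⁻¹ * z * g * z = g⁻¹ * (z * (g * z * g⁻¹)) * g := by group
      _ = z * (g⁻¹ * z * g) := by rw [← h1]; group)
  have hc3 : (g⁻¹ * z * g) ^ 3 = 1 := by simpa using D.conj_cube g⁻¹
  obtain ⟨h, hh, hu⟩ := D.conj_into_elt D.u_le_C hcC hc3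
  rw [Subgroup.mem_centralizer_singleton_iff] at hh
  obtain ⟨p₁, p₂, pb, s, r₁, r₂, hu⟩ := D.mem_u.1 hu
  have hh' : h⁻¹ * z = z * h⁻¹ := (Commute.inv_left hh : Commute h⁻¹ z)
  have e1 : g * h⁻¹ * z * (g * h⁻¹)⁻¹ = g * z * g⁻¹ := by
    calc g * h⁻¹ * z * (g * h⁻¹)⁻¹ = g * (h⁻¹ * z) * h * g⁻¹ := by group
      _ = _ := by rw [hh']; group
  have e2 : (g * h⁻¹)⁻¹ * z * (g * h⁻¹) = tU t p₁ p₂ pb s r₁ r₂ := by rw [← hu]; group
  have hs : s ≠ 0 := by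
    rintro rfl
    have h1 := D.sym (g * h⁻¹)⁻¹ (by rw [inv_inv, ← hz, e2]; exact D.mem_q.2 ⟨_, _, _, _, _, rfl⟩)
    rw [inv_inv, ← hz, e1, hx] at h1
    obtain ⟨_, _, _, _, _, h1⟩ := D.mem_q.1 h1
    exact he (D.tU_inj h1).2.2.2.1
  refine ⟨h⁻¹, hh', e1, p₁, p₂, pb, s, r₁, r₂, e2, hs, ?_⟩
  have h3 : tU t p₁ p₂ pb s r₁ r₂ ^ 3 = 1 := by
    rw [← e2]
    simpa using D.conj_cube (g * h⁻¹)⁻¹
  have := D.cube_coord h3
  rcases mul_eq_zero.1 this with h4 | h4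
  · exact mul_eq_zero.2 (Or.inl ((mul_eq_zero.1 h4).resolve_right hs))
  · exact mul_eq_zero.2 (Or.inr h4)

theorem u_pow_coord {a₁ a₂ b e c₁ c₂ p₁ p₂ pb r₁ r₂ : ZMod 3} (he : e ≠ 0) (n : ZMod 3) {g : G}
    (hc : g⁻¹ * tZ t * g = tU t a₁ a₂ b e c₁ c₂)
    (h : g⁻¹ * tU t 0 0 n 0 0 0 * g = tU t p₁ p₂ pb 0 r₁ r₂) : n = 0 := by
  rw [tZ_eq] at hc
  fin_cases n
  · rfl
  · exact absurd (D.tU_inj (hc.symm.trans h)).2.2.2.1 he
  · exfalso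
    have e2 : tU t 0 0 1 0 0 0 * tU t 0 0 1 0 0 0 = tU t 0 0 2 0 0 0 := by
      rw [tU_mul]; congr 1
    have h' : g⁻¹ * tU t 0 0 1 0 0 0 * g * (g⁻¹ * tU t 0 0 1 0 0 0 * g) = tU t p₁ p₂ pb 0 r₁ r₂ := by
      refine Eq.trans ?_ h
      show _ = g⁻¹ * tU t 0 0 2 0 0 0 * g
      rw [← e2]; group
    rw [hc, tU_mul] at h'
    have h4 : e + e = 0 := (D.tU_inj h').2.2.2.1
    exact he ((by decide : ∀ x : ZMod 3, x + x = 0 → x = 0) e h4)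

/-- A point of the radical on the line of a given point of the partner's radical. -/
theorem find_y {g : G} {a₁ a₂ b e c₁ c₂ p₁ p₂ pb s r₁ r₂ : ZMod 3} (he : e ≠ 0) (hs : s ≠ 0)
    (hx : g * tZ t * g⁻¹ = tU t a₁ a₂ b e c₁ c₂)
    (hc : g⁻¹ * tZ t * g = tU t p₁ p₂ pb s r₁ r₂) {u v : ZMod 3} (huv : ¬ (u = 0 ∧ v = 0))
    (hq : u * r₂ = p₁ * v) :
    ∃ w w₂ wb w₁, g * tU t 0 u w 0 v 0 * g⁻¹ = tU t 0 w₂ wb 0 w₁ 0 ∧ w₂ * c₂ = a₁ * w₁ ∧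
      ¬ (w₂ = 0 ∧ w₁ = 0) := by
  set z := tZ t with hz
  set q := tU t 0 u 0 0 v 0 with hqdef
  have hqc : q * tU t p₁ p₂ pb s r₁ r₂ = tU t p₁ p₂ pb s r₁ r₂ * q :=
    (D.tU_comm_iff ..).2 ⟨by simp, by simpa using hq, by simp⟩
  have hqz : q * z = z * q := D.comm_z _ _ _ _ _ _
  have h1 : g * q * g⁻¹ * z = z * (g * q * g⁻¹) := by
    calc g * q * g⁻¹ * z = g * (q * (g⁻¹ * z * g)) * g⁻¹ := by group
      _ = g * ((g⁻¹ * z * g) * q) * g⁻¹ := by rw [hc, hqc]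
      _ = z * (g * q * g⁻¹) := by group
  have h2 : g * q * g⁻¹ * (g * z * g⁻¹) = g * z * g⁻¹ * (g * q * g⁻¹) := by
    rw [conj_mul, conj_mul, hqz]
  rw [hx] at h2
  have h3 : (g * q * g⁻¹) ^ 3 = 1 := by
    rw [conj_pow, hqdef, tU, ← tExt_pow t (uEl_mem_para _ _ _ _ _ _), uEl_cube]
    simp [uEl_one, tExt_one]
  obtain ⟨k₁, k₂, kb, k, l₁, l₂, hk⟩ := D.mem_u_of_comm h1 h3 he h2
  -- multiply by a power of `g z g⁻¹`
  obtain ⟨j, w₀, hj, hw0⟩ : ∃ j : ZMod 3, ∃ w : G, g * tU t 0 0 j 0 0 0 * g⁻¹ = w ∧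
      ∃ d₁ d₂ db d₄ d₅ : ZMod 3, w = tU t d₁ d₂ db (-k) d₄ d₅ := by
    have hone : tU t 0 0 0 0 0 0 = 1 := by rw [tU, uEl_one, tExt_one]
    rw [hz, tZ_eq] at hx
    have hk3 : ∀ k e : ZMod 3, e ≠ 0 → -k = 0 ∨ -k = e ∨ -k = e + e := by decide
    rcases hk3 k e he with h4 | h4 | h4
    · refine ⟨0, 1, by rw [hone]; group, 0, 0, 0, 0, 0, ?_⟩
      rw [h4, hone]
    · exact ⟨1, _, hx, a₁, a₂, b, c₁, c₂, by rw [h4]⟩
    · have e2 : tU t 0 0 1 0 0 0 * tU t 0 0 1 0 0 0 = tU t 0 0 (1 + 1) 0 0 0 := by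
        rw [tU_mul]; congr 1 <;> ring
      refine ⟨1 + 1, _, rfl, ?_⟩
      rw [← e2, ← conj_mul, hx, tU_mul, h4]
      exact ⟨_, _, _, _, _, rfl⟩
  obtain ⟨d₁, d₂, db, d₄, d₅, rfl⟩ := hw0
  have hy : g * tU t 0 u j 0 v 0 * g⁻¹ = tU t (d₁ + k₁) (d₂ + k₁ * -k + k₂)
      (db + k₁ * d₄ + k₂ * d₅ + kb) 0 (d₄ + k * d₅ + l₁) (d₅ + l₂) := by
    have eq2 : tU t 0 u j 0 v 0 = q * tU t 0 0 j 0 0 0 := by
      rw [hqdef, tU_mul]; congr 1 <;> ring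
    rw [eq2, ← conj_mul, hk, hj, tU_mul]
    congr 1 <;> ring
  have hyx : g * tU t 0 u j 0 v 0 * g⁻¹ * (g * z * g⁻¹) = g * z * g⁻¹ * (g * tU t 0 u j 0 v 0 * g⁻¹) := by
    rw [conj_mul, conj_mul, hz, D.comm_z]
  rw [hy, hx] at hyx
  obtain ⟨e1, e2, e3⟩ := (D.tU_comm_iff ..).1 hyx
  simp only [mul_zero, zero_mul, mul_eq_zero, he, or_false] at e1
  rw [zero_mul, eq_comm, mul_eq_zero] at e3
  have e3' := e3.resolve_left he
  rw [e1, e3'] at hy e2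
  refine ⟨j, _, _, _, hy, by simpa using e2, ?_⟩
  rintro ⟨hw2, hw1⟩
  rw [hw2, hw1] at hy
  have hb := D.u_pow_coord hs (db + k₁ * d₄ + k₂ * d₅ + kb) hc
    (p₁ := 0) (p₂ := u) (pb := j) (r₁ := v) (r₂ := 0) (by rw [← hy]; group)
  rw [hb, show tU t 0 0 0 0 0 0 = 1 by rw [tU, uEl_one, tExt_one], conj_eq_one_iff] at hy
  rw [tU, ← tExt_one t] at hy
  have h5 := D.tExt_inj (uEl_mem_para _ _ _ _ _ _) (one_mem _) hy
  rw [← uEl_one] at h5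
  exact huv ⟨(uEl_inj h5).2.1, (uEl_inj h5).2.2.2.2.1⟩

/-- A point of the first row on the line is impossible when all conjugates in the radical lie in the first row. -/
theorem row_false (hI : ∀ g : G, g * tZ t * g⁻¹ ∈ tImg t qGrp → g * tZ t * g⁻¹ ∈ tImg t rowGrp)
    {g q : G} (hq : q ∈ tImg t qGrp) {a₁ a₂ b e c₁ c₂ : ZMod 3} (he : e ≠ 0)
    (hx : g * tZ t * g⁻¹ = tU t a₁ a₂ b e c₁ c₂) {r : SL4} (hr : r ∈ rowGrp) (hr1 : r ≠ 1)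
    (hy : g * q * g⁻¹ = tExt t r) : False := by
  obtain ⟨k, hk, hky⟩ := D.row_conj hr hr1
  have h1 := D.sym' hq (hky.trans hy.symm)
  have e1 : (tExt t k)⁻¹ * (g * tZ t * g⁻¹) * tExt t k =
      ((tExt t k)⁻¹ * g) * tZ t * ((tExt t k)⁻¹ * g)⁻¹ := by group
  rw [e1] at h1
  have h2 := hI _ h1
  obtain ⟨a, ha, hap, h3⟩ := mem_tImg.1 h2
  rw [← e1] at h3
  have h4 : g * tZ t * g⁻¹ = tExt t (k * a * k⁻¹) := by
    rw [tExt_conj t hk hap, ← h3]; group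
  rw [hx] at h4
  obtain ⟨u₁, u₂, ub, h5⟩ := mem_rowGrp.1 (conj_rowGrp hk ha)
  rw [h5] at h4
  exact he (D.tU_inj h4).2.2.2.1

theorem rowgood_false (hI : ∀ g : G, g * tZ t * g⁻¹ ∈ tImg t qGrp → g * tZ t * g⁻¹ ∈ tImg t rowGrp)
    {g : G} {a₁ a₂ b e c₁ c₂ p₁ p₂ pb s r₁ : ZMod 3} (he : e ≠ 0) (hs : s ≠ 0)
    (hx : g * tZ t * g⁻¹ = tU t a₁ a₂ b e c₁ c₂)
    (hc : g⁻¹ * tZ t * g = tU t p₁ p₂ pb s r₁ 0) : False := by
  obtain ⟨w, w₂, wb, w₁, hy, -, hne⟩ := D.find_y he hs hx hc (u := 1) (v := 0) (by simp) (by simp)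
  obtain ⟨k, hk, hkq⟩ := D.row_conj (r := uEl 0 1 w 0 0 0) (mem_rowGrp.2 ⟨_, _, _, rfl⟩)
    (fun h => by rw [← uEl_one] at h; exact one_ne_zero (uEl_inj h).2.1)
  have hyz : (g * tExt t k) * tZ t * (g * tExt t k)⁻¹ = tU t 0 w₂ wb 0 w₁ 0 := by
    rw [← hy, show tU t 0 1 w 0 0 0 = _ from hkq.symm]; group
  have h1 := hI _ (hyz ▸ D.mem_q.2 ⟨_, _, _, _, _, rfl⟩)
  rw [hyz] at h1
  obtain ⟨_, _, _, h2⟩ := D.mem_row.1 h1
  obtain ⟨-, -, -, -, hw1, -⟩ := D.tU_inj h2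
  subst hw1
  refine D.row_false hI (D.mem_q.2 ⟨_, _, _, _, _, rfl⟩) he hx (r := uEl 0 w₂ wb 0 0 0)
    (mem_rowGrp.2 ⟨_, _, _, rfl⟩) (fun h => ?_) hy
  rw [← uEl_one] at h
  exact hne ⟨(uEl_inj h).2.1, rfl⟩

theorem z_ne : tZ t ≠ 1 := fun h => by
  rw [tZ_eq, show (1 : G) = tU t 0 0 0 0 0 0 by rw [tU, uEl_one, tExt_one]] at h
  exact one_ne_zero (D.tU_inj h).2.2.1

theorem col_conj {b c₁ c₂ b' c₁' c₂' : ZMod 3} (h : ¬ (c₁ = 0 ∧ c₂ = 0)) (h' : ¬ (c₁' = 0 ∧ c₂' = 0)) :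
    ∃ K : G, K * tZ t = tZ t * K ∧ K * tU t 0 0 b 0 c₁ c₂ * K⁻¹ = tU t 0 0 b' 0 c₁' c₂' := by
  obtain ⟨k, hk, e⟩ := col_class (b := b) h
  obtain ⟨k', hk', e'⟩ := col_class (b := b') h'
  have hkk : k' * k⁻¹ ∈ cm := mul_mem hk' (inv_mem hk)
  refine ⟨tExt t (k' * k⁻¹), D.mem_C.2 ⟨_, hkk, rfl⟩, ?_⟩
  unfold tU
  rw [← tExt_conj t hkk.1 (uEl_mem_para 0 0 b 0 c₁ c₂)]
  have e0 : k' * k⁻¹ * uEl 0 0 b 0 c₁ c₂ * (k' * k⁻¹)⁻¹ = uEl 0 0 b' 0 c₁' c₂' := by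
    rw [← e', ← e]; group
  rw [e0]

/-- An element of order three with first coordinate zero and last one nonzero is not a conjugate. -/
theorem no_rowbad [Finite G] (hI : ∀ g : G, g * tZ t * g⁻¹ ∈ tImg t qGrp → g * tZ t * g⁻¹ ∈ tImg t rowGrp)
    {g : G} {a₂ b e c₁ c₂ : ZMod 3} (he : e ≠ 0) (hc2 : c₂ ≠ 0)
    (hx : g * tZ t * g⁻¹ = tU t 0 a₂ b e c₁ c₂) : False := by
  haveI : Fact (Nat.Prime 3) := ⟨Nat.prime_three⟩
  obtain ⟨h, -, hgh, p₁, p₂, pb, s, r₁, r₂, hc, hs, hpr⟩ := D.normal_form he hx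
  rw [hx] at hgh
  generalize g * h = g' at hgh hc
  clear hx g h
  by_cases hr2 : r₂ = 0
  · exact D.rowgood_false hI he hs hgh (hr2 ▸ hc)
  obtain rfl : p₁ = 0 := (mul_eq_zero.1 hpr).resolve_right hr2
  obtain ⟨w, w₂, wb, w₁, hy, hw, hne⟩ := D.find_y he hs hgh hc (u := 0) (v := 1) (by simp) (by simp)
  obtain rfl : w₂ = 0 := (mul_eq_zero.1 (hw.trans (zero_mul _))).resolve_right hc2
  have hw1 : w₁ ≠ 0 := fun h => hne ⟨rfl, h⟩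
  obtain ⟨K, hKz, hK⟩ := D.col_conj (b := w) (c₁ := 1) (c₂ := 0) (b' := wb) (c₁' := w₁) (c₂' := 0)
    (by simp) (fun h => hw1 h.1)
  set z := tZ t with hz
  set y := tU t 0 0 wb 0 w₁ 0 with hydef
  set x := tU t 0 a₂ b e c₁ c₂ with hxdef
  have hKi : K⁻¹ * z = z * K⁻¹ := (Commute.inv_left hKz : Commute K⁻¹ z)
  obtain ⟨m, hm⟩ : ∃ m, m = g' * K⁻¹ := ⟨_, rfl⟩
  have hmy : m * y * m⁻¹ = y := by
    conv_lhs => rw [hm, ← hK]
    rw [← hy]; group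
  have hmz : m * z * m⁻¹ = x := by
    rw [hm, ← hgh]
    calc g' * K⁻¹ * z * (g' * K⁻¹)⁻¹ = g' * (K⁻¹ * z) * K * g'⁻¹ := by group
      _ = _ := by rw [hKi]; group
  set t' := tU t 0 (wb * c₂) 0 (w₁ * c₂) 0 0 with ht'
  have hc22 : c₂ * c₂ = 1 := sq_three c₂ hc2
  have ht'y : t' * y = y * t' := (D.tU_comm_iff ..).2 (by simp)
  have ht'x : t' * x = x * y * t' := by
    rw [ht', hxdef, hydef, tU_mul, tU_mul, tU_mul]
    congr 1 <;> first | ring1 | linear_combination wb * hc22 | linear_combination w₁ * hc22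
  have hn0 : (m⁻¹ * t' * m) * z * (m⁻¹ * t' * m)⁻¹ = z * y := by
    have e1 : m⁻¹ * t' * m * z * (m⁻¹ * t' * m)⁻¹ = m⁻¹ * (t' * (m * z * m⁻¹)) * t'⁻¹ * m := by group
    rw [e1, hmz, ht'x]
    calc m⁻¹ * (x * y * t') * t'⁻¹ * m = m⁻¹ * (m * z * m⁻¹ * (m * y * m⁻¹)) * m := by rw [hmz, hmy]; group
      _ = z * y := by group
  set M := Subgroup.centralizer ({y} : Set G) with hM
  have hmM : m ∈ M := Subgroup.mem_centralizer_singleton_iff.2 (mul_inv_eq_iff_eq_mul.1 hmy)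
  have htM : t' ∈ M := Subgroup.mem_centralizer_singleton_iff.2 ht'y
  have hzM : z ∈ M := Subgroup.mem_centralizer_singleton_iff.2 (D.comm_z _ _ _ _ _ _).symm
  -- the unitriangular elements commuting with `y` form a Sylow subgroup of `M`
  set P := (tImg t uGrp).subgroupOf M with hP
  have hPp : IsPGroup 3 P := D.u_pgroup.comap_of_injective M.subtype M.subtype_injective
  obtain ⟨S, hPS⟩ := hPp.exists_le_sylow
  let f : ZMod 3 × ZMod 3 × ZMod 3 × ZMod 3 × ZMod 3 → P := fun p =>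
    ⟨⟨tU t 0 p.1 p.2.1 p.2.2.1 p.2.2.2.1 p.2.2.2.2, Subgroup.mem_centralizer_singleton_iff.2
      ((D.tU_comm_iff ..).2 (by simp))⟩, D.mem_u.2 ⟨_, _, _, _, _, _, rfl⟩⟩
  have hP243 : 243 ≤ Nat.card P := by
    refine le_trans (by rw [Nat.card_prod, Nat.card_prod, Nat.card_prod, Nat.card_prod, Nat.card_zmod])
      (Nat.card_le_card_of_injective f ?_)
    rintro ⟨a, b, c, d, e⟩ ⟨a', b', c', d', e'⟩ h
    obtain ⟨-, h1, h2, h3, h4, h5⟩ := D.tU_inj (congrArg (fun v : P => ((v : M) : G)) h)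
    dsimp only at h1 h2 h3 h4 h5
    rw [h1, h2, h3, h4, h5]
  have hSeq : (S : Subgroup M) = P := by
    refine (Subgroup.eq_of_le_of_card_ge hPS ?_).symm
    by_contra hlt
    push Not at hlt
    obtain ⟨n, hn⟩ := IsPGroup.iff_card.1 S.2
    have hle : Nat.card ((S : Subgroup M).map M.subtype) ≤ 729 := D.three_le (S.2.map _)
    have hcard : Nat.card ((S : Subgroup M).map M.subtype) = Nat.card (S : Subgroup M) :=
      Subgroup.card_map_of_injective M.subtype_injective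
    have h729 : Nat.card ((S : Subgroup M).map M.subtype) = 729 := by
      rw [hcard, hn] at hle ⊢
      rw [hn] at hlt
      have : 5 < n := by
        by_contra hc
        have := Nat.pow_le_pow_right (show 1 ≤ 3 by norm_num) (show n ≤ 5 by omega)
        omega
      have := Nat.pow_le_pow_right (show 1 ≤ 3 by norm_num) (show 6 ≤ n by omega)
      omega
    obtain ⟨c, -, hc⟩ := D.conj_into (R := ⊤) le_top (S := (S : Subgroup M).map M.subtype) le_top (S.2.map _)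
    have hyS : y ∈ (S : Subgroup M).map M.subtype :=
      ⟨⟨y, Subgroup.mem_centralizer_singleton_iff.2 rfl⟩, hPS (D.mem_u.2 ⟨_, _, _, _, _, _, rfl⟩), rfl⟩
    obtain ⟨k₁, k₂, kb, k, l₁, l₂, hcy⟩ := D.mem_u.1 (hc y hyS)
    have hsurj : ((S : Subgroup M).map M.subtype).map (MulAut.conj c).toMonoidHom = tImg t uGrp := by
      refine Subgroup.eq_of_le_of_card_ge ?_ ?_
      · rintro _ ⟨v, hv, rfl⟩
        exact hc v hv
      · rw [D.card_u]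
        refine le_of_eq ?_
        rw [← h729]
        exact (Subgroup.card_map_of_injective (MulAut.conj c).injective).symm
    have hcen : ∀ v ∈ tImg t uGrp, tU t k₁ k₂ kb k l₁ l₂ * v = v * tU t k₁ k₂ kb k l₁ l₂ := by
      intro v hv
      rw [← hsurj] at hv
      obtain ⟨_, ⟨v, -, rfl⟩, rfl⟩ := hv
      have hv' : (v : G) * y = y * v := Subgroup.mem_centralizer_singleton_iff.1 v.2
      rw [← hcy]
      show _ * (c * (v : G) * c⁻¹) = c * (v : G) * c⁻¹ * _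
      rw [conj_mul, conj_mul, hv']
    have comm : ∀ q₁ q₂ qb q m₁ m₂ : ZMod 3, k₁ * q = q₁ * k ∧
        k₁ * m₁ + k₂ * m₂ = q₁ * l₁ + q₂ * l₂ ∧ k * m₂ = q * l₂ := fun q₁ q₂ qb q m₁ m₂ =>
      (D.tU_comm_iff ..).1 (hcen (tU t q₁ q₂ qb q m₁ m₂) (D.mem_u.2 ⟨_, _, _, _, _, _, rfl⟩))
    obtain ⟨h1, -, h2⟩ := comm 0 0 0 1 0 0
    obtain ⟨h3, h4, -⟩ := comm 1 0 0 0 0 0
    obtain ⟨-, h5, -⟩ := comm 0 0 0 0 0 1
    simp at h1 h2 h3 h4 h5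
    rw [h1, ← h2, ← h3, ← h4, h5] at hcy
    have hkb : uEl 0 0 kb 0 0 0 ≠ 1 := fun h => by
      rw [tU, h, tExt_one, conj_eq_one_iff, hydef, tU, ← tExt_one t] at hcy
      have h6 := D.tExt_inj (uEl_mem_para _ _ _ _ _ _) (one_mem _) hcy
      rw [← uEl_one] at h6
      exact hw1 (uEl_inj h6).2.2.2.2.1
    obtain ⟨a, -, ha⟩ := D.row_conj (mem_rowGrp.2 ⟨_, _, _, rfl⟩) hkb
    have hyz : (c⁻¹ * tExt t a) * z * (c⁻¹ * tExt t a)⁻¹ = y := by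
      calc c⁻¹ * tExt t a * z * (c⁻¹ * tExt t a)⁻¹ = c⁻¹ * (tExt t a * z * (tExt t a)⁻¹) * c := by group
        _ = c⁻¹ * (c * y * c⁻¹) * c := by rw [hcy, ha]; rfl
        _ = y := by group
    have h6 := hI (c⁻¹ * tExt t a) (by rw [hyz]; exact D.mem_q.2 ⟨_, _, _, _, _, rfl⟩)
    rw [hyz] at h6
    obtain ⟨_, _, _, h7⟩ := D.mem_row.1 h6
    exact hw1 (D.tU_inj h7).2.2.2.2.1
  have hzcen : (⟨z, hzM⟩ : M) ∈ Subgroup.centralizer (S : Set M) := Subgroup.mem_centralizer_iff.2 fun v hv => by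
    replace hv : v ∈ P := hSeq ▸ hv
    obtain ⟨q₁, q₂, qb, q, m₁, m₂, hvu⟩ := D.mem_u.1 hv
    refine Subtype.ext ?_
    show (v : G) * z = z * (v : G)
    rw [show (v : G) = _ from hvu]
    exact D.comm_z _ _ _ _ _ _
  have hzycen : (⟨m⁻¹ * t' * m, mul_mem (mul_mem (inv_mem hmM) htM) hmM⟩ : M)⁻¹⁻¹ * ⟨z, hzM⟩ *
      (⟨m⁻¹ * t' * m, mul_mem (mul_mem (inv_mem hmM) htM) hmM⟩ : M)⁻¹ ∈ Subgroup.centralizer (S : Set M) :=
    Subgroup.mem_centralizer_iff.2 fun v hv => by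
      replace hv : v ∈ P := hSeq ▸ hv
      obtain ⟨q₁, q₂, qb, q, m₁, m₂, hvu⟩ := D.mem_u.1 hv
      have h1 : (v : G) * z = z * (v : G) := by
        rw [show (v : G) = _ from hvu]; exact D.comm_z _ _ _ _ _ _
      refine Subtype.ext ?_
      simp only [Subgroup.coe_mul, inv_inv, Subgroup.coe_inv]
      rw [show m⁻¹ * t' * m * z * (m⁻¹ * t' * m)⁻¹ = z * y from hn0]
      have h2 : (v : G) * y = y * v := Subgroup.mem_centralizer_singleton_iff.1 v.2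
      exact ((show Commute (v : G) z from h1).mul_right h2).eq
  obtain ⟨n, hn, hne'⟩ := Sylow.conj_eq_normalizer_conj_of_mem_centralizer S (⟨z, hzM⟩ : M) _ hzcen hzycen
  have e2 : (n : G)⁻¹ * z * n = z * y := by
    have e3 := congrArg Subtype.val hne'
    simp only [Subgroup.coe_mul, inv_inv, Subgroup.coe_inv] at e3
    rw [← e3, hn0]
  have hny : (n : G)⁻¹ * y * n = y := by
    rw [mul_assoc, ← Subgroup.mem_centralizer_singleton_iff.1 n.2]; group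
  have hiter : ∀ i : ℕ, ((n : G) ^ i)⁻¹ * z * (n : G) ^ i = z * y ^ i := by
    intro i
    induction i with
    | zero => simp
    | succ i ih =>
      have hny' : (n : G)⁻¹ * y ^ i * n = y ^ i := by
        have := (conj_pow (i := i) (a := (n : G)⁻¹) (b := y)).symm
        rw [inv_inv, hny] at this
        exact this
      calc ((n : G) ^ (i + 1))⁻¹ * z * (n : G) ^ (i + 1)
          = (n : G)⁻¹ * (((n : G) ^ i)⁻¹ * z * (n : G) ^ i) * n := by rw [pow_succ]; group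
        _ = ((n : G)⁻¹ * z * n) * ((n : G)⁻¹ * y ^ i * n) := by rw [ih]; group
        _ = z * y ^ (i + 1) := by rw [e2, hny', pow_succ', mul_assoc]
  obtain ⟨k, d, hd3, hkd⟩ := Nat.exists_eq_pow_mul_and_not_dvd (orderOf_pos n).ne' 3 (by norm_num)
  have hnd : n ^ d ∈ (S : Subgroup M) := by
    have hpk : IsPGroup 3 (Subgroup.zpowers (n ^ d)) := by
      intro v
      refine ⟨k, Subtype.ext ?_⟩
      obtain ⟨i, hi⟩ := Subgroup.mem_zpowers_iff.1 v.2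
      rw [SubmonoidClass.coe_pow, ← hi, ← zpow_natCast, zpow_comm, zpow_natCast, ← pow_mul, mul_comm d,
        ← hkd, pow_orderOf_eq_one, one_zpow]
      rfl
    have h1 := (hpk.inf_normalizer_sylow S).le ⟨Subgroup.mem_zpowers _, pow_mem hn d⟩
    exact h1.2
  have hvz := (Subgroup.mem_centralizer_iff.1 hzcen) _ hnd
  have hvz' : (n : G) ^ d * z = z * (n : G) ^ d := by
    have := congrArg Subtype.val hvz
    simpa using this
  have hyd : y ^ d = 1 := by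
    have h1 := hiter d
    rw [mul_assoc, ← hvz', inv_mul_cancel_left] at h1
    exact left_eq_mul.1 h1
  have hy3 : y ^ 3 = 1 := by
    rw [hydef, tU, ← tExt_pow t (uEl_mem_para _ _ _ _ _ _), uEl_cube]
    simp [uEl_one, tExt_one]
  have hy1 : y = 1 := by
    rw [← pow_one y, ← ((Nat.prime_three.coprime_iff_not_dvd).2 hd3).gcd_eq_one, pow_gcd_eq_one.2 ⟨hy3, hyd⟩]
  rw [hydef, tU, ← tExt_one t] at hy1
  have h6 := D.tExt_inj (uEl_mem_para _ _ _ _ _ _) (one_mem _) hy1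
  rw [← uEl_one] at h6
  exact hw1 (uEl_inj h6).2.2.2.2.1

/-- The conjugates of the root element in the parabolic. -/
theorem para_fusion [Finite G] (hI : ∀ g : G, g * tZ t * g⁻¹ ∈ tImg t qGrp → g * tZ t * g⁻¹ ∈ tImg t rowGrp)
    (g : G) (hg : g * tZ t * g⁻¹ ∈ t.range) : g ∈ t.range := by
  set z := tZ t with hz
  obtain ⟨h, hh, hu⟩ := D.conj_into_elt (R := t.range) (Subgroup.map_le_range _ _) hg (D.conj_cube g)
  obtain ⟨a₁, a₂, b, e, c₁, c₂, hu⟩ := D.mem_u.1 hu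
  have hx : (h * g) * z * (h * g)⁻¹ = tU t a₁ a₂ b e c₁ c₂ := by rw [← hu]; group
  suffices h' : h * g ∈ t.range by
    simpa using mul_mem (inv_mem hh) h'
  generalize h * g = g' at hx
  by_cases he : e = 0
  · subst he
    have h1 := hI g' (hx ▸ D.mem_q.2 ⟨_, _, _, _, _, rfl⟩)
    obtain ⟨r, hr, hrp, hxr⟩ := mem_tImg.1 h1
    have hr1 : r ≠ 1 := fun h => D.z_ne (by
      rw [h, tExt_one, conj_eq_one_iff] at hxr; exact hxr)
    obtain ⟨k, hk, hkr⟩ := D.row_conj hr hr1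
    obtain ⟨a, ha, e1⟩ := D.mem_C.1 (conj_eq_conj_iff.1 (hxr.trans hkr.symm))
    rw [show g' = tExt t k * tExt t a by rw [← e1]; group]
    exact mul_mem (tExt_mem_range t hk) (tExt_mem_range t ha.1)
  · exfalso
    obtain ⟨h, -, hgh, p₁, p₂, pb, s, r₁, r₂, hc, hs, hpr⟩ := D.normal_form he hx
    rw [hx] at hgh
    by_cases hr2 : r₂ = 0
    · exact D.rowgood_false hI he hs hgh (hr2 ▸ hc)
    · obtain rfl : p₁ = 0 := (mul_eq_zero.1 hpr).resolve_right hr2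
      exact D.no_rowbad hI hs hr2 (g := (g' * h)⁻¹) (by rw [inv_inv]; exact hc)

theorem class_row (hII : ∀ g : G, g * tZ t * g⁻¹ ∈ tImg t qGrp →
      g * tZ t * g⁻¹ ∈ tImg t rowGrp ∨ g * tZ t * g⁻¹ ∈ tImg t colGrp)
    {g q : G} (hq : q ∈ tImg t qGrp) {m : ZMod 3} (hm : m ≠ 0) (hx : g * tZ t * g⁻¹ = tU t 0 0 m 1 0 0)
    {r : SL4} (hr : r ∈ rowGrp) (hr1 : r ≠ 1) (hy : g * q * g⁻¹ = tExt t r) : False := by
  obtain ⟨k, hk, hky⟩ := D.row_conj hr hr1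
  have h1 := D.sym' hq (hky.trans hy.symm)
  have e1 : (tExt t k)⁻¹ * (g * tZ t * g⁻¹) * tExt t k =
      ((tExt t k)⁻¹ * g) * tZ t * ((tExt t k)⁻¹ * g)⁻¹ := by group
  rw [e1] at h1
  obtain ⟨a, ha, hap, h3⟩ : ∃ a, (a ∈ rowGrp ∨ a ∈ colGrp) ∧ a ∈ para ∧
      (tExt t k)⁻¹ * g * tZ t * ((tExt t k)⁻¹ * g)⁻¹ = tExt t a := by
    rcases hII _ h1 with h2 | h2 <;> obtain ⟨a, ha, hap, h3⟩ := mem_tImg.1 h2
    exacts [⟨a, Or.inl ha, hap, h3⟩, ⟨a, Or.inr ha, hap, h3⟩]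
  rw [← e1] at h3
  have h4 : tU t 0 0 m 1 0 0 = tExt t (k * a * k⁻¹) := by
    rw [tExt_conj t hk hap, ← h3, ← hx]; group
  have h5 := D.tExt_inj (uEl_mem_para _ _ _ _ _ _) (mul_mem (mul_mem hk hap) (inv_mem hk)) h4
  have h6 := minor_zero ha k 1 2 0 3
  rw [← h5, coe_uEl] at h6
  simp [uMat, hm] at h6

/-- When the first and last coordinates of the partner are not both zero. -/
theorem both_good [Finite G] {g : G} {m p₁ p₂ pb s r₁ r₂ : ZMod 3} (hs : s ≠ 0) (hpr : p₁ * r₂ = 0)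
    (hx : g * tZ t * g⁻¹ = tU t 0 0 m 1 0 0) (hc : g⁻¹ * tZ t * g = tU t p₁ p₂ pb s r₁ r₂) :
    p₁ = 0 ∧ r₂ = 0 := by
  set z := tZ t with hz
  have key : ∀ p : ZMod 3 × ZMod 3 × ZMod 3 × ZMod 3, ∃ k₁ k₂ kb k l₁ l₂,
      g⁻¹ * tU t 0 p.1 p.2.1 p.2.2.1 p.2.2.2 0 * g = tU t k₁ k₂ kb k l₁ l₂ ∧
      k₁ * s = p₁ * k ∧ k₁ * r₁ + k₂ * r₂ = p₁ * l₁ + p₂ * l₂ ∧ k * r₂ = s * l₂ := by
    intro p
    set w := tU t 0 p.1 p.2.1 p.2.2.1 p.2.2.2 0 with hw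
    have hwx : w * (g * z * g⁻¹) = g * z * g⁻¹ * w := by
      rw [hx]; exact (D.tU_comm_iff ..).2 (by simp)
    have hwz : w * z = z * w := D.comm_z _ _ _ _ _ _
    have h1 : g⁻¹ * w * g * z = z * (g⁻¹ * w * g) := by
      calc g⁻¹ * w * g * z = g⁻¹ * (w * (g * z * g⁻¹)) * g := by group
        _ = z * (g⁻¹ * w * g) := by rw [hwx]; group
    have h2 : g⁻¹ * w * g * (g⁻¹ * z * g) = g⁻¹ * z * g * (g⁻¹ * w * g) := by
      calc g⁻¹ * w * g * (g⁻¹ * z * g) = g⁻¹ * (w * z) * g := by group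
        _ = _ := by rw [hwz]; group
    rw [hc] at h2
    have h3 : (g⁻¹ * w * g) ^ 3 = 1 := by
      have : w ^ 3 = 1 := by
        rw [hw, tU, ← tExt_pow t (uEl_mem_para _ _ _ _ _ _), uEl_cube]
        simp [uEl_one, tExt_one]
      have e := conj_pow (i := 3) (a := g⁻¹) (b := w)
      rw [inv_inv] at e
      rw [e, this]; group
    obtain ⟨k₁, k₂, kb, k, l₁, l₂, hk⟩ := D.mem_u_of_comm h1 h3 hs h2
    rw [hk] at h2
    exact ⟨k₁, k₂, kb, k, l₁, l₂, hk, (D.tU_comm_iff ..).1 h2⟩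
  choose K₁ K₂ KB K L₁ L₂ hK e1 e2 e3 using key
  have hinj : ∀ p q, K₁ p = K₁ q → K₂ p = K₂ q → KB p = KB q → K p = K q → L₁ p = L₁ q → L₂ p = L₂ q → p = q := by
    intro p q h1 h2 h3 h4 h5 h6
    have h := (hK p).trans (by rw [h1, h2, h3, h4, h5, h6] : _ = tU t (K₁ q) (K₂ q) (KB q) (K q) (L₁ q) (L₂ q))
    rw [← hK q] at h
    obtain ⟨-, u1, u2, u3, u4, -⟩ := D.tU_inj (mul_left_cancel (mul_right_cancel h))
    exact Prod.ext u1 (Prod.ext u2 (Prod.ext u3 u4))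
  refine ⟨by_contra fun hp => ?_, by_contra fun hr => ?_⟩
  · obtain rfl : r₂ = 0 := (mul_eq_zero.1 hpr).resolve_left hp
    have hl : ∀ p, L₂ p = 0 := fun p =>
      (mul_eq_zero.1 ((e3 p).symm.trans (mul_zero _))).resolve_left hs
    have hc3 := Nat.card_le_card_of_injective (fun p => (K₂ p, KB p, K p)) fun p q h => by
      obtain ⟨h2, h3, h4⟩ := by simpa [Prod.mk.injEq] using h
      have h1 : K₁ p = K₁ q := mul_right_cancel₀ hs (by rw [e1 p, e1 q, h4])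
      exact hinj p q h1 h2 h3 h4 (mul_left_cancel₀ hp (by
        have u := e2 p; have v := e2 q
        rw [hl p, mul_zero, mul_zero, add_zero, add_zero] at u
        rw [hl q, mul_zero, mul_zero, add_zero, add_zero] at v
        rw [← u, ← v, h1])) ((hl p).trans (hl q).symm)
    simp [Nat.card_prod] at hc3
  · obtain rfl : p₁ = 0 := (mul_eq_zero.1 hpr).resolve_right hr
    have hk1 : ∀ p, K₁ p = 0 := fun p =>
      (mul_eq_zero.1 ((e1 p).trans (zero_mul _))).resolve_right hs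
    have hc3 := Nat.card_le_card_of_injective (fun p => (KB p, K p, L₁ p)) fun p q h => by
      obtain ⟨h3, h4, h5⟩ := by simpa [Prod.mk.injEq] using h
      have h6 : L₂ p = L₂ q := mul_left_cancel₀ hs (by rw [← e3 p, ← e3 q, h4])
      exact hinj p q ((hk1 p).trans (hk1 q).symm) (mul_right_cancel₀ hr (by
        have u := e2 p; have v := e2 q
        rw [hk1 p, zero_mul, zero_mul, zero_add, zero_add] at u
        rw [hk1 q, zero_mul, zero_mul, zero_add, zero_add] at v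
        rw [u, v, h6])) h3 h4 h5 h6
    simp [Nat.card_prod] at hc3

/-- The class of the root element misses the products of two commuting roots. -/
theorem class_false [Finite G] (hII : ∀ g : G, g * tZ t * g⁻¹ ∈ tImg t qGrp →
      g * tZ t * g⁻¹ ∈ tImg t rowGrp ∨ g * tZ t * g⁻¹ ∈ tImg t colGrp)
    {g : G} {m : ZMod 3} (hm : m ≠ 0) (hx : g * tZ t * g⁻¹ = tU t 0 0 m 1 0 0) : False := by
  by_cases hcol : ∃ (g : G) (b c₁ c₂ : ZMod 3),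
      ¬ (c₁ = 0 ∧ c₂ = 0) ∧ g * tZ t * g⁻¹ = tU t 0 0 b 0 c₁ c₂
  swap
  · have hI : ∀ g : G, g * tZ t * g⁻¹ ∈ tImg t qGrp → g * tZ t * g⁻¹ ∈ tImg t rowGrp := by
      intro g hg
      rcases hII g hg with h | h
      · exact h
      · obtain ⟨b, c₁, c₂, hb⟩ := D.mem_col.1 h
        by_cases hc : c₁ = 0 ∧ c₂ = 0
        · rw [hb, hc.1, hc.2]; exact D.mem_row.2 ⟨_, _, _, rfl⟩
        · exact absurd ⟨g, b, c₁, c₂, hc, hb⟩ hcol
    obtain ⟨⟨k, hk⟩, rfl⟩ := D.para_fusion hI g (hx ▸ tExt_mem_range t (uEl_mem_para _ _ _ _ _ _))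
    rw [← tExt_eq t hk, tZ, ← tExt_conj t hk zmat_mem_para] at hx
    have h1 := D.tExt_inj (mul_mem (mul_mem hk zmat_mem_para) (inv_mem hk)) (uEl_mem_para _ _ _ _ _ _) hx
    have h2 : k * zmat * k⁻¹ ∈ rowGrp := conj_rowGrp hk (zmat_eq ▸ mem_rowGrp.2 ⟨_, _, _, rfl⟩)
    rw [h1] at h2
    obtain ⟨_, _, _, h3⟩ := mem_rowGrp.1 h2
    exact one_ne_zero (uEl_inj h3).2.2.2.1
  obtain ⟨g₀, b₀, d₁, d₂, hd, hg₀⟩ := hcol
  obtain ⟨h, -, hgh, p₁, p₂, pb, s, r₁, r₂, hc, hs, hpr⟩ := D.normal_form one_ne_zero hx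
  rw [hx] at hgh
  generalize g * h = g' at hgh hc
  obtain ⟨rfl, rfl⟩ := D.both_good hs hpr hgh hc
  obtain ⟨w, w₂, wb, w₁, hy, -, hne⟩ := D.find_y one_ne_zero hs hgh hc (u := 1) (v := 0) (by simp) (by simp)
  obtain ⟨w', w₂', wb', w₁', hy', -, hne'⟩ :=
    D.find_y one_ne_zero hs hgh hc (u := 0) (v := 1) (by simp) (by simp)
  -- both points are conjugates of the root element
  have hz1 : ∃ k, k * tZ t * k⁻¹ = tU t 0 w₂ wb 0 w₁ 0 := by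
    obtain ⟨k, -, hk⟩ := D.row_conj (r := uEl 0 1 w 0 0 0) (mem_rowGrp.2 ⟨_, _, _, rfl⟩)
      (fun h => by rw [← uEl_one] at h; exact one_ne_zero (uEl_inj h).2.1)
    exact ⟨g' * tExt t k, by rw [← hy, show tU t 0 1 w 0 0 0 = _ from hk.symm]; group⟩
  have hz2 : ∃ k, k * tZ t * k⁻¹ = tU t 0 w₂' wb' 0 w₁' 0 := by
    obtain ⟨K, -, hK⟩ := D.col_conj (b := b₀) (b' := w') (c₁' := 1) (c₂' := 0) hd (by simp)
    exact ⟨g' * K * g₀, by rw [← hy', ← hK, ← hg₀]; group⟩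
  have inrow : ∀ {q : G} {v₂ vb : ZMod 3}, q ∈ tImg t qGrp → v₂ ≠ 0 →
      g' * q * g'⁻¹ = tU t 0 v₂ vb 0 0 0 → False := fun {q v₂ vb} hq hv h =>
    D.class_row hII hq hm hgh (mem_rowGrp.2 ⟨0, v₂, vb, rfl⟩)
      (fun h1 => by rw [← uEl_one] at h1; exact hv (uEl_inj h1).2.1) h
  have split : ∀ {v₂ vb v₁ : ZMod 3}, (∃ k, k * tZ t * k⁻¹ = tU t 0 v₂ vb 0 v₁ 0) → v₁ = 0 ∨ v₂ = 0 := by
    rintro v₂ vb v₁ ⟨k, hk⟩
    rcases hII k (hk ▸ D.mem_q.2 ⟨_, _, _, _, _, rfl⟩) with h1 | h1 <;> rw [hk] at h1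
    · obtain ⟨_, _, _, h2⟩ := D.mem_row.1 h1
      exact Or.inl (D.tU_inj h2).2.2.2.2.1
    · obtain ⟨_, _, _, h2⟩ := D.mem_col.1 h1
      exact Or.inr (D.tU_inj h2).2.1
  rcases eq_or_ne w₁ 0 with rfl | hw
  · exact inrow (D.mem_q.2 ⟨_, _, _, _, _, rfl⟩) (fun h => hne ⟨h, rfl⟩) hy
  rcases eq_or_ne w₁' 0 with rfl | hw'
  · exact inrow (D.mem_q.2 ⟨_, _, _, _, _, rfl⟩) (fun h => hne' ⟨h, rfl⟩) hy'
  obtain rfl : w₂ = 0 := (split hz1).resolve_left hw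
  obtain rfl : w₂' = 0 := (split hz2).resolve_left hw'
  -- a product lies on the central line
  obtain ⟨d, hd'⟩ := scale_three w₁ w₁' hw hw'
  obtain ⟨q, B, hq1, hqB⟩ : ∃ q : ZMod 3 × ZMod 3, ∃ B : ZMod 3,
      q.1 ≠ 0 ∧ g' * tU t 0 q.1 q.2 0 1 0 * g'⁻¹ = tU t 0 0 B 0 0 0 := by
    rcases hd'.2 with rfl | rfl
    · refine ⟨(1, w' + w), wb' + wb, one_ne_zero, ?_⟩
      have e : tU t 0 1 (w' + w) 0 1 0 = tU t 0 1 w 0 0 0 * tU t 0 0 w' 0 1 0 := by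
        rw [tU_mul]; congr 1 <;> ring
      rw [e, ← conj_mul, hy, hy', tU_mul]
      congr 1 <;> first | ring1 | linear_combination hd'.1
    · refine ⟨(1 + 1, w' + (w + w)), wb' + (wb + wb), two_three, ?_⟩
      have e : tU t 0 (1 + 1) (w' + (w + w)) 0 1 0 =
          tU t 0 1 w 0 0 0 * tU t 0 1 w 0 0 0 * tU t 0 0 w' 0 1 0 := by
        rw [tU_mul, tU_mul]; congr 1 <;> ring
      rw [e, ← conj_mul, ← conj_mul, hy, hy', tU_mul, tU_mul]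
      congr 1 <;> first | ring1 | linear_combination hd'.1
  have hB := D.u_pow_coord hs B hc (p₁ := 0) (p₂ := q.1) (pb := q.2) (r₁ := 1) (r₂ := 0)
    (by rw [← hqB]; group)
  rw [hB, show tU t 0 0 0 0 0 0 = 1 by rw [tU, uEl_one, tExt_one], conj_eq_one_iff, tU, ← tExt_one t] at hqB
  have h5 := D.tExt_inj (uEl_mem_para _ _ _ _ _ _) (one_mem _) hqB
  rw [← uEl_one] at h5
  exact hq1 (uEl_inj h5).2.1

/-- The conjugates of the root element in a copy of `SL(4,3)` through the parabolic. -/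
theorem sl_fusion [Finite G] (φ : SL4 →* G) (hφ : ∀ a : para, φ a.1 = t a)
    (hII : ∀ g : G, g * tZ t * g⁻¹ ∈ tImg t qGrp →
      g * tZ t * g⁻¹ ∈ tImg t rowGrp ∨ g * tZ t * g⁻¹ ∈ tImg t colGrp)
    (g : G) (hg : g * tZ t * g⁻¹ ∈ φ.range) : g ∈ φ.range := by
  have hφ' : ∀ a, a ∈ para → φ a = tExt t a := fun a ha => by rw [tExt_eq t ha]; exact hφ ⟨a, ha⟩
  have hsub : ∀ H : Subgroup SL4, tImg t H ≤ φ.range := fun H x hx => by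
    obtain ⟨a, -, ha, rfl⟩ := mem_tImg.1 hx
    exact ⟨a, hφ' a ha⟩
  have hC : ∀ {g k : G}, k ∈ φ.range → g * tZ t * g⁻¹ = k * tZ t * k⁻¹ → g ∈ φ.range := by
    intro g k hk e
    have h1 : k⁻¹ * g ∈ φ.range :=
      hsub cm (D.cent ▸ Subgroup.mem_centralizer_singleton_iff.2 (conj_eq_conj_iff.1 e))
    simpa using mul_mem hk h1
  have hrc : ∀ {r : SL4}, r ∈ rowGrp ∨ r ∈ colGrp → r ≠ 1 →
      ∃ k ∈ φ.range, k * tZ t * k⁻¹ = tExt t r := by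
    intro r hr h1
    rcases hr with hr | hr
    · obtain ⟨k, hk, e⟩ := D.row_conj hr h1
      exact ⟨_, ⟨k, hφ' k hk⟩, e⟩
    · obtain ⟨k, -, e⟩ := col_transitive hr h1
      refine ⟨φ k, ⟨k, rfl⟩, ?_⟩
      rw [tZ, ← hφ' zmat zmat_mem_para, ← map_inv, ← map_mul, ← map_mul, e,
        hφ' r (qGrp_le_cm (colGrp_le hr)).1]
  have hq : ∀ {g : G}, g * tZ t * g⁻¹ ∈ tImg t qGrp → ∃ k ∈ φ.range, k * tZ t * k⁻¹ = g * tZ t * g⁻¹ := by
    intro g hg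
    obtain ⟨a, ha, hxa⟩ : ∃ a, (a ∈ rowGrp ∨ a ∈ colGrp) ∧ g * tZ t * g⁻¹ = tExt t a := by
      rcases hII g hg with h | h <;> obtain ⟨a, ha, -, h3⟩ := mem_tImg.1 h
      exacts [⟨a, Or.inl ha, h3⟩, ⟨a, Or.inr ha, h3⟩]
    obtain ⟨k, hk, e⟩ := hrc ha fun h1 => D.z_ne (by rw [h1, tExt_one, conj_eq_one_iff] at hxa; exact hxa)
    exact ⟨k, hk, e.trans hxa.symm⟩
  obtain ⟨h, hh, hu⟩ := D.conj_into_elt (R := φ.range) (hsub _) hg (D.conj_cube g)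
  obtain ⟨a₁, a₂, b, e, c₁, c₂, hu⟩ := D.mem_u.1 hu
  have hx : (h * g) * tZ t * (h * g)⁻¹ = tU t a₁ a₂ b e c₁ c₂ := by rw [← hu]; group
  suffices h' : h * g ∈ φ.range by
    simpa using mul_mem (inv_mem hh) h'
  generalize h * g = g' at hx
  by_cases he : e = 0
  · subst he
    obtain ⟨k, hk, e1⟩ := hq (hx ▸ D.mem_q.2 ⟨_, _, _, _, _, rfl⟩)
    exact hC hk e1.symm
  obtain ⟨h, -, hgh, p₁, p₂, pb, s, r₁, r₂, hc, hs, hpr⟩ := D.normal_form he hx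
  rw [← hgh] at hx
  obtain ⟨u, v, huv, huv', hcl⟩ : ∃ u v : ZMod 3, ¬ (u = 0 ∧ v = 0) ∧ u * r₂ = p₁ * v ∧
      ∀ w, uEl 0 u w 0 v 0 ∈ rowGrp ∨ uEl 0 u w 0 v 0 ∈ colGrp := by
    by_cases hr2 : r₂ = 0
    · exact ⟨1, 0, by simp, by simp [hr2], fun w => Or.inl (mem_rowGrp.2 ⟨_, _, _, rfl⟩)⟩
    · exact ⟨0, 1, by simp, by simp [(mul_eq_zero.1 hpr).resolve_right hr2],
        fun w => Or.inr (mem_colGrp.2 ⟨_, _, _, rfl⟩)⟩
  obtain ⟨w, w₂, wb, w₁, hy, -, -⟩ := D.find_y he hs hx hc huv huv'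
  obtain ⟨k, -, hk⟩ := hrc (hcl w) (fun h1 => by
    rw [← uEl_one] at h1; exact huv ⟨(uEl_inj h1).2.1, (uEl_inj h1).2.2.2.2.1⟩)
  have hyz : (g' * h * k) * tZ t * (g' * h * k)⁻¹ = tU t 0 w₂ wb 0 w₁ 0 := by
    rw [← hy, show tU t 0 u w 0 v 0 = _ from hk.symm]; group
  obtain ⟨l, hl, hly⟩ := hq (hyz ▸ D.mem_q.2 ⟨_, _, _, _, _, rfl⟩)
  have h1 := D.sym' (g := g' * h) (D.mem_q.2 ⟨0, u, w, v, 0, rfl⟩) (k := l) (by rw [hly, hyz, hy])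
  have e1 : l⁻¹ * (g' * h * tZ t * (g' * h)⁻¹) * l = (l⁻¹ * (g' * h)) * tZ t * (l⁻¹ * (g' * h))⁻¹ := by group
  rw [e1] at h1
  obtain ⟨l', hl', e2⟩ := hq h1
  refine hC (mul_mem hl hl') ?_
  rw [← hgh]
  calc g' * h * tZ t * (g' * h)⁻¹ = l * (l⁻¹ * (g' * h) * tZ t * (l⁻¹ * (g' * h))⁻¹) * l⁻¹ := by group
    _ = l * l' * tZ t * (l * l')⁻¹ := by rw [← e2]; group

end Hyp

variable [Finite G] (t : para →* G) (ht : Function.Injective t)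
  (hC : Subgroup.centralizer ({t ⟨zmat, zmat_mem_para⟩} : Set G) = (cm.subgroupOf para).map t)
  (hsyl : ¬ 3 ^ 7 ∣ Nat.card G)
  (hsym : ∀ g : G, g * t ⟨zmat, zmat_mem_para⟩ * g⁻¹ ∈ (qGrp.subgroupOf para).map t →
    g⁻¹ * t ⟨zmat, zmat_mem_para⟩ * g ∈ (qGrp.subgroupOf para).map t)
include ht hC hsyl hsym

theorem hyp : Hyp t :=
  ⟨ht, by rw [show tZ t = _ from tExt_eq t zmat_mem_para]; exact hC, hsyl,
    by rw [show tZ t = _ from tExt_eq t zmat_mem_para]; exact hsym⟩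

/-- The conjugates of the root element in the parabolic are conjugate there. -/
theorem hz_para
    (hI : ∀ g : G, g * t ⟨zmat, zmat_mem_para⟩ * g⁻¹ ∈ (qGrp.subgroupOf para).map t →
      g * t ⟨zmat, zmat_mem_para⟩ * g⁻¹ ∈ (rowGrp.subgroupOf para).map t)
    (g : G) (hg : g * t ⟨zmat, zmat_mem_para⟩ * g⁻¹ ∈ t.range) : g ∈ t.range := by
  have h := (hyp t ht hC hsyl hsym).para_fusion
  rw [show tZ t = _ from tExt_eq t zmat_mem_para] at h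
  exact h hI g hg

/-- The class of the root element misses `root 1 2 1 * root 0 3 m`. -/
theorem hclass
    (hII : ∀ g : G, g * t ⟨zmat, zmat_mem_para⟩ * g⁻¹ ∈ (qGrp.subgroupOf para).map t →
      g * t ⟨zmat, zmat_mem_para⟩ * g⁻¹ ∈ (rowGrp.subgroupOf para).map t ∨
        g * t ⟨zmat, zmat_mem_para⟩ * g⁻¹ ∈ (colGrp.subgroupOf para).map t)
    (m : ZMod 3) (hm : m ≠ 0) (hmem : root 1 2 1 * root 0 3 m ∈ para) :
    ¬ IsConj (t ⟨zmat, zmat_mem_para⟩) (t ⟨root 1 2 1 * root 0 3 m, hmem⟩) := by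
  intro hc
  obtain ⟨g, hg⟩ := isConj_iff.1 hc
  rw [← tExt_eq t hmem, root_prod_eq] at hg
  have h := fun hII' => (hyp t ht hC hsyl hsym).class_false hII' (g := g) hm
  rw [show tZ t = _ from tExt_eq t zmat_mem_para] at h
  exact h hII hg

/-- The conjugates of the root element in `SL(4,3)` are conjugate there. -/
theorem hz_psl (φ : SL4 →* G) (hφ : ∀ a : para, φ a.1 = t a)
    (hII : ∀ g : G, g * t ⟨zmat, zmat_mem_para⟩ * g⁻¹ ∈ (qGrp.subgroupOf para).map t →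
      g * t ⟨zmat, zmat_mem_para⟩ * g⁻¹ ∈ (rowGrp.subgroupOf para).map t ∨
        g * t ⟨zmat, zmat_mem_para⟩ * g⁻¹ ∈ (colGrp.subgroupOf para).map t)
    (g : G) (hg : g * t ⟨zmat, zmat_mem_para⟩ * g⁻¹ ∈ φ.range) : g ∈ φ.range := by
  have h := (hyp t ht hC hsyl hsym).sl_fusion φ hφ
  rw [show tZ t = _ from tExt_eq t zmat_mem_para] at h
  exact h hII g hg

end CfsgLib.LFourThree.ZF
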