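import Cfsg.Agent.Lib.LFourThree.Affine
import Cfsg.Agent.Lib.LFourThree.Model
import Cfsg.Agent.Lib.LFourThree.ZFusion

/-!
The parabolic inside the group: the centraliser of the root element, the radical, and its invariant abelian
subgroups.
-/

set_option autoImplicit false
set_option linter.style.haveILetI false
set_option linter.unusedSectionVars false

namespace CfsgLib.LFourThree.Setup

open CfsgLib.LFourThree.ZF

/-- `zmat` in the parabolic. -/
def zp : para := ⟨zmat, zmat_mem_para⟩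

theorem coe_zp : (zp : SL4) = zmat := rfl

/-- The restriction of `tau`. -/
def tauP : para3 →* para := (Model.tau.comp para3.subtype).codRestrict para fun g => Model.tau_mem g.2

theorem coe_tauP (g : para3) : (tauP g : SL4) = Model.tau g := rfl

variable {G : Type*} [Group G]

theorem mem_map_sub {H : Subgroup SL4} {t : para →* G} {x : G} :
    x ∈ tImg t H ↔ ∃ a : para, (a : SL4) ∈ H ∧ t a = x := Iff.rfl

theorem card_tImg {H : Subgroup SL4} (hH : H ≤ para) {t : para →* G} (ht : Function.Injective t) :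
    Nat.card (tImg t H) = Nat.card H := by
  rw [Subgroup.card_map_of_injective ht, Nat.card_congr (Subgroup.subgroupOfEquivOfLe hH).toEquiv]

theorem row_le_para : rowGrp ≤ para := fun _ h => (qGrp_le_cm (rowGrp_le h)).1

theorem col_le_para : colGrp ≤ para := fun _ h => (qGrp_le_cm (colGrp_le h)).1

variable [Finite G] {z : G} {Q : Subgroup G} {π : Subgroup.centralizer ({z} : Set G) →* S2}

theorem local_sym (L : Local z Q π) (g : G) (hg : g * z * g⁻¹ ∈ Q) : g⁻¹ * z * g ∈ Q := by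
  by_cases h : g * z * g⁻¹ ∈ Subgroup.zpowers z
  · have hgen : z ∈ Subgroup.zpowers (g * z * g⁻¹) := L.zpow_gen h fun e => L.z_ne (conj_eq_one_iff.1 e)
    obtain ⟨n, hn⟩ := Subgroup.mem_zpowers_iff.1 hgen
    rw [show g⁻¹ * z * g = z ^ n by
      conv_lhs => arg 1; arg 2; rw [← hn, conj_zpow]
      group]
    exact Subgroup.zpow_mem _ L.zmem n
  · obtain ⟨h', -, -⟩ := L.meet (L.transport g) hg h
    obtain ⟨q, hq, e⟩ := h'
    rw [← e]
    simpa [mul_assoc] using hq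

/-- A parabolic attached to a conjugate in the radical. -/
theorem exists_t (L : Local z Q π) {x : G} (hx : x * z * x⁻¹ ∈ Q) (hxz : x * z * x⁻¹ ∉ Subgroup.zpowers z) :
    ∃ t : para →* G, Function.Injective t ∧ t zp = z ∧ Subgroup.centralizer ({z} : Set G) ≤ t.range ∧
      tImg t rowGrp = Q ⊓ Q.map (MulAut.conj x).toMonoidHom := by
  obtain ⟨π₁, s, P⟩ := L.exists_pair hx hxz
  obtain ⟨t, hinj, hr, hz, hE, -⟩ := P.exists_theta
  refine ⟨t, hinj, hz, hr ▸ P.cz_le, ?_⟩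
  ext g
  constructor
  · rintro ⟨a, ha, rfl⟩
    exact (hE a).2 ha
  · intro hg
    obtain ⟨a, rfl⟩ : g ∈ t.range := hr ▸ Subgroup.le_normalizer hg
    exact ⟨a, (hE a).1 hg, rfl⟩

variable (L : Local z Q π) {t : para →* G} (ht : Function.Injective t) (htz : t zp = z)
  (hle : Subgroup.centralizer ({z} : Set G) ≤ t.range)
include L ht htz hle

theorem cent_eq : Subgroup.centralizer ({z} : Set G) = tImg t cm := by
  ext g
  constructor
  · intro hg
    obtain ⟨a, rfl⟩ := hle hg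
    refine ⟨a, ⟨a.2, (Model.comm_zmat a.2).1 ?_⟩, rfl⟩
    have h := mem_cz.1 hg
    rw [← htz, ← map_mul, ← map_mul] at h
    exact congrArg Subtype.val (ht h)
  · rintro ⟨a, ha, rfl⟩
    rw [mem_cz, ← htz, ← map_mul, ← map_mul]
    exact congrArg t (Subtype.ext ((Model.comm_zmat a.2).2 ha.2))

theorem q_eq : Q = tImg t qGrp := by
  have hcard : Nat.card (tImg t qGrp) = 243 := by
    rw [card_tImg (fun _ h => (qGrp_le_cm h).1) ht, Model.card_qGrp]
  refine (Subgroup.eq_of_le_of_card_ge ?_ ?_).symm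
  · refine L.normal_le ?_ (IsPGroup.of_card (n := 5) (hcard.trans (by norm_num))) ?_
    · rw [cent_eq L ht htz hle]
      rintro _ ⟨a, ha, rfl⟩
      exact ⟨a, qGrp_le_cm ha, rfl⟩
    · intro c hc x hx
      rw [cent_eq L ht htz hle] at hc
      obtain ⟨k, hk, rfl⟩ := hc
      obtain ⟨a, ha, rfl⟩ := hx
      exact ⟨k * a * k⁻¹, conj_qGrp hk ha, by simp⟩
  · rw [L.card, hcard]

theorem sub_cases {D : Subgroup G} (hD : D ≤ Q) (hab : ∀ x ∈ D, ∀ y ∈ D, x * y = y * x) (hcard : Nat.card D = 27)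
    (hinv : ∀ c ∈ Subgroup.centralizer ({z} : Set G), ∀ x ∈ D, c * x * c⁻¹ ∈ D) :
    D = tImg t rowGrp ∨ D = tImg t colGrp := by
  have hDt : ∀ x ∈ D, ∃ a : para, (a : SL4) ∈ qGrp ∧ t a = x := fun x hx => by
    have := hD hx
    rw [q_eq L ht htz hle] at this
    exact this
  set D0 : Subgroup SL4 := (D.comap t).map para.subtype with hD0
  have hle0 : D0 ≤ qGrp := by
    rintro _ ⟨a, ha, rfl⟩
    obtain ⟨b, hb, e⟩ := hDt _ ha
    exact ht e ▸ hb
  have hab0 : ∀ x ∈ D0, ∀ y ∈ D0, x * y = y * x := by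
    rintro _ ⟨a, ha, rfl⟩ _ ⟨b, hb, rfl⟩
    have e : a * b = b * a := ht (by rw [map_mul, map_mul]; exact hab _ ha _ hb)
    rw [← map_mul, ← map_mul, e]
  have hinv0 : ∀ g ∈ cm, ∀ x ∈ D0, g * x * g⁻¹ ∈ D0 := by
    rintro g hg _ ⟨a, ha, rfl⟩
    refine ⟨⟨g, hg.1⟩ * a * ⟨g, hg.1⟩⁻¹, ?_, by simp only [map_mul, map_inv, Subgroup.coe_subtype]⟩
    show t _ ∈ D
    rw [map_mul, map_mul, map_inv]
    exact hinv _ (by rw [cent_eq L ht htz hle]; exact ⟨⟨g, hg.1⟩, hg, rfl⟩) _ ha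
  have hsub : ∀ H : Subgroup SL4, D0 ≤ H → Nat.card (tImg t H) = 27 → D = tImg t H := fun H h hc =>
    Subgroup.eq_of_le_of_card_ge (fun x hx => by
      obtain ⟨a, -, rfl⟩ := hDt x hx
      exact ⟨a, h ⟨a, hx, rfl⟩, rfl⟩) (by rw [hcard, hc])
  rcases Model.inv_abelian hle0 hab0 hinv0 with h | h
  · exact Or.inl (hsub _ h (by rw [card_tImg row_le_para ht, Model.card_rowGrp]))
  · exact Or.inr (hsub _ h (by rw [card_tImg col_le_para ht, Model.card_colGrp]))

theorem pair_cases {g : G} (hg : g * z * g⁻¹ ∈ Q) (hgz : g * z * g⁻¹ ∉ Subgroup.zpowers z) :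
    Q ⊓ Q.map (MulAut.conj g).toMonoidHom = tImg t rowGrp ∨
      Q ⊓ Q.map (MulAut.conj g).toMonoidHom = tImg t colGrp := by
  obtain ⟨π₁, s, P⟩ := L.exists_pair hg hgz
  exact sub_cases L ht htz hle inf_le_left P.abel P.card fun c hc x hx =>
    (Subgroup.mem_normalizer_iff.1 (P.cz_le hc) x).1 hx

theorem dichotomy (g : G) (hg : g * z * g⁻¹ ∈ Q) :
    g * z * g⁻¹ ∈ tImg t rowGrp ∨ g * z * g⁻¹ ∈ tImg t colGrp := by
  by_cases hgz : g * z * g⁻¹ ∈ Subgroup.zpowers z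
  · refine Or.inl ((Subgroup.zpowers_le.2 ?_) hgz)
    exact ⟨zp, Model.zmat_mem_row, htz⟩
  · have hm : g * z * g⁻¹ ∈ Q ⊓ Q.map (MulAut.conj g).toMonoidHom := ⟨hg, ⟨z, L.zmem, rfl⟩⟩
    rcases pair_cases L ht htz hle hg hgz with e | e <;> rw [e] at hm
    exacts [Or.inl hm, Or.inr hm]

/-- The second parabolic, pulled back along `tau`. -/
theorem second {t' : para →* G} (ht' : Function.Injective t') (ht'z : t' zp = z)
    (hle' : Subgroup.centralizer ({z} : Set G) ≤ t'.range) (hrow : tImg t' rowGrp = tImg t colGrp) :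
    ∃ t2 : para3 →* G, Function.Injective t2 ∧ t2 ⟨zmat, zmat_mem_para3⟩ = z ∧
      Subgroup.centralizer ({z} : Set G) = (cm.subgroupOf para3).map t2 ∧
      (rowGrp.subgroupOf para3).map t2 = tImg t rowGrp ∧ (colGrp.subgroupOf para3).map t2 = tImg t colGrp := by
  have hinj : Function.Injective tauP := fun a b e =>
    Subtype.ext (Model.tau_injective (by rw [← coe_tauP, ← coe_tauP, e]))
  have hmap : ∀ H K : Subgroup SL4, K ≤ para → H.map Model.tau = K → H ≤ para3 →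
      (H.subgroupOf para3).map (t'.comp tauP) = tImg t' K := by
    intro H K _ hHK hH
    ext g
    constructor
    · rintro ⟨a, ha, rfl⟩
      exact ⟨tauP a, (hHK ▸ ⟨a.1, ha, rfl⟩ : (tauP a).1 ∈ K), rfl⟩
    · rintro ⟨b, hb, rfl⟩
      obtain ⟨a, ha, e⟩ : (b : SL4) ∈ H.map Model.tau := hHK ▸ hb
      exact ⟨⟨a, hH ha⟩, ha, congrArg t' (Subtype.ext e : tauP ⟨a, hH ha⟩ = b)⟩
  have hrow3 : rowGrp ≤ para3 := fun _ h => (qGrp_le_cm (rowGrp_le h)).2
  have hcol3 : colGrp ≤ para3 := fun _ h => (qGrp_le_cm (colGrp_le h)).2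
  have mrow : rowGrp.map Model.tau = colGrp := Subgroup.eq_of_le_of_card_ge
    (by rintro _ ⟨g, hg, rfl⟩; exact Model.tau_rowGrp hg)
    (by rw [Subgroup.card_map_of_injective Model.tau_injective, Model.card_colGrp, Model.card_rowGrp])
  have mcol : colGrp.map Model.tau = rowGrp := Subgroup.eq_of_le_of_card_ge
    (by rintro _ ⟨g, hg, rfl⟩; exact Model.tau_colGrp hg)
    (by rw [Subgroup.card_map_of_injective Model.tau_injective, Model.card_colGrp, Model.card_rowGrp])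
  refine ⟨t'.comp tauP, ht'.comp hinj, ?_, ?_, ?_, ?_⟩
  · exact (congrArg t' (Subtype.ext Model.tau_zmat : tauP ⟨zmat, zmat_mem_para3⟩ = zp)).trans ht'z
  · rw [hmap cm cm (fun _ h => h.1) Model.tau_map_cm (fun _ h => h.2)]
    exact cent_eq L ht' ht'z hle'
  · rw [hmap rowGrp colGrp col_le_para mrow hrow3]
    have hcI : ∀ c ∈ Subgroup.centralizer ({z} : Set G), ∀ x ∈ tImg t' colGrp, c * x * c⁻¹ ∈ tImg t' colGrp := by
      intro c hc x hx
      rw [cent_eq L ht' ht'z hle'] at hc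
      obtain ⟨k, hk, rfl⟩ := hc
      obtain ⟨a, ha, rfl⟩ := hx
      exact ⟨k * a * k⁻¹, conj_colGrp hk.2 ha, by simp⟩
    have hab : ∀ x ∈ tImg t' colGrp, ∀ y ∈ tImg t' colGrp, x * y = y * x := by
      rintro _ ⟨a, ha, rfl⟩ _ ⟨b, hb, rfl⟩
      rw [← map_mul, ← map_mul]
      exact congrArg t' (Subtype.ext (Model.col_comm ha hb))
    have hQ : tImg t' colGrp ≤ Q := by
      rintro _ ⟨a, ha, rfl⟩
      rw [q_eq L ht' ht'z hle']
      exact ⟨a, colGrp_le ha, rfl⟩
    refine (sub_cases L ht htz hle hQ hab (by rw [card_tImg col_le_para ht', Model.card_colGrp]) hcI).resolve_right ?_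
    intro e
    rw [← hrow] at e
    have hmem : (uEl 1 0 0 0 0 0 : SL4) ∈ rowGrp := mem_rowGrp.2 ⟨_, _, _, rfl⟩
    obtain ⟨b, hb, eb⟩ : t' ⟨_, row_le_para hmem⟩ ∈ tImg t' colGrp := e ▸ ⟨_, hmem, rfl⟩
    have hb' : (b : SL4) = uEl 1 0 0 0 0 0 := congrArg Subtype.val (ht' eb)
    obtain ⟨p, c₁, c₂, e'⟩ := mem_colGrp.1 hb
    exact one_ne_zero (uEl_inj (hb'.symm.trans e')).1
  · rw [hmap colGrp rowGrp row_le_para mcol hcol3, hrow]

end CfsgLib.LFourThree.Setup
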