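import Mathlib
import Cfsg.Agent.Lib.LFourThree.Basic
import Cfsg.Agent.Lib.Char.TI
import Cfsg.Agent.Lib.Char.Counting
import Cfsg.Agent.S0034
import Cfsg.Agent.S0035
import Cfsg.Agent.S0058

/-!
Norm three virtual characters on a strongly `3`-embedded subgroup, and the final step of the
small recognition lemmas of `PSL(4,3)`.
-/

set_option autoImplicit false
set_option linter.unusedSectionVars false

namespace CfsgLib.LFourThree.SmallC

open Cfsg CfsgLib.Char
open scoped ComplexConjugate CfsgLib.Char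

variable {Y : Type*} [Group Y]

/-- The elements of `N` with a power of order three. -/
def sing (N : Subgroup Y) : Set Y := {n | n ∈ N ∧ ∃ k : ℕ, orderOf (n ^ k) = 3}

theorem orderOf_eq_three {x : Y} (h : x ^ 3 = 1) (h1 : x ≠ 1) : orderOf x = 3 := by
  haveI : Fact (Nat.Prime 3) := ⟨Nat.prime_three⟩
  exact orderOf_eq_prime h h1

theorem strong_cube {N : Subgroup Y} (hS : Strong N) {x : Y} (hx : x ∈ N) (h : x ^ 3 = 1) (h1 : x ≠ 1)
    {g : Y} (hg : g * x * g⁻¹ ∈ N) : g ∈ N := hS x hx (orderOf_eq_three h h1) g hg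

theorem strong_sing {N : Subgroup Y} (hS : Strong N) {n : Y} (hn : n ∈ sing N) {g : Y}
    (hg : g * n * g⁻¹ ∈ N) : g ∈ N := by
  obtain ⟨hnN, k, hk⟩ := hn
  refine hS _ (pow_mem hnN k) hk g ?_
  rw [← conj_pow]
  exact pow_mem hg k

theorem ti_sing {N : Subgroup Y} (hS : Strong N) :
    ∀ g : Y, g ∉ N → ∀ t ∈ sing N, g * t * g⁻¹ ∈ sing N → t = 1 :=
  fun _ hg _ ht h => absurd (strong_sing hS ht h.1) hg

/-- An involution whose product with an involution is singular lies in `N`. -/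
theorem mem_of_pair {N : Subgroup Y} (hS : Strong N) {u v : Y} (hu : u * u = 1) (hv : v * v = 1)
    (h : u * v ∈ sing N) : u ∈ N := by
  refine strong_sing hS h ?_
  have e : u * (u * v) * u⁻¹ = (u * v)⁻¹ := by
    rw [← mul_assoc, hu, one_mul, mul_inv_rev, inv_eq_of_mul_eq_one_left hv]
  rw [e]
  exact inv_mem h.1

section Char

variable [Fintype Y]

/-- The trivial character. -/
def tchar : IrrCharacter Y := ⟨fun _ => 1, isIrrCharacter_one⟩

theorem tchar_apply (y : Y) : (tchar : IrrCharacter Y).1 y = 1 := rfl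

/-- The nontrivial part of the support of a coefficient vector. -/
noncomputable def supp (c : IrrCharacter Y → ℤ) : Finset (IrrCharacter Y) := by
  classical exact Finset.univ.filter fun χ => c χ ≠ 0 ∧ χ ≠ tchar

theorem mem_supp {c : IrrCharacter Y → ℤ} {χ : IrrCharacter Y} :
    χ ∈ supp c ↔ c χ ≠ 0 ∧ χ ≠ tchar := by simp [supp]

/-- The decomposition of an induced virtual character of norm three. -/
structure Three (N : Subgroup Y) (f : N → ℂ) where
  /-- the coefficients -/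
  c : IrrCharacter Y → ℤ
  eq : indFun N f = ∑ χ : IrrCharacter Y, (c χ : ℂ) • (χ : Y → ℂ)
  one : c tchar = 1
  card : (supp c).card = 2
  sq : ∀ χ ∈ supp c, c χ ^ 2 = 1

variable {N : Subgroup Y} {f g : N → ℂ}

theorem exists_three [Fintype N] (hS : Strong N) (hgen : IsGeneralizedCharacter N f)
    (hsupp : ∀ n : N, (n : Y) ∉ sing N → f n = 0) (h1 : f 1 = 0)
    (hnorm : classInner f f = 3) (hone : classInner f (fun _ => (1 : ℂ)) = 1) :
    Nonempty (Three N f) := by
  classical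
  have hcl : IsClassFunction N f := isClassFunction_of_isGeneralized hgen
  obtain ⟨c, hc⟩ := isGeneralized_iff.mp (isGeneralized_indFun N hgen)
  have hc1 : c tchar = 1 := by
    have e : classInner (indFun N f) (fun _ => (1 : ℂ)) = (c tchar : ℂ) := by
      rw [hc]; exact classInner_sum_smul_irr (fun χ => (c χ : ℂ)) tchar
    rw [frobenius_reciprocity N f (isClassFunction_of_isCharacter isCharacter_one), hone] at e
    exact_mod_cast e.symm
  have hsq : ∑ χ : IrrCharacter Y, c χ ^ 2 = 3 := by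
    have e := classInner_indFun_of_ti N (sing N) (ti_sing hS) f f hcl hsupp hsupp h1
    rw [hnorm, hc, sum_sq_coeff] at e
    exact_mod_cast e
  have e : ∑ χ ∈ supp c, c χ ^ 2 = 2 := by
    have e1 : ∑ χ ∈ supp c, c χ ^ 2 = ∑ χ ∈ Finset.univ.erase (tchar : IrrCharacter Y), c χ ^ 2 := by
      refine Finset.sum_subset (fun χ hχ => Finset.mem_erase.mpr ⟨(mem_supp.mp hχ).2, Finset.mem_univ χ⟩)
        fun χ hχ hn => ?_
      have : c χ = 0 := by
        by_contra hne
        exact hn (mem_supp.mpr ⟨hne, (Finset.mem_erase.mp hχ).1⟩)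
      rw [this]; norm_num
    have e2 := Finset.add_sum_erase Finset.univ (fun χ => c χ ^ 2) (Finset.mem_univ (tchar : IrrCharacter Y))
    rw [hsq, hc1] at e2
    rw [e1]
    linarith
  have hle : ∀ χ ∈ supp c, c χ ^ 2 = 1 := by
    intro χ hχ
    have h := (Finset.single_le_sum (f := fun x => c x ^ 2) (fun _ _ => sq_nonneg _) hχ).trans_eq e
    have hne := (mem_supp.mp hχ).1
    have : -1 ≤ c χ ∧ c χ ≤ 1 := ⟨by nlinarith, by nlinarith⟩
    rcases (by omega : c χ = 1 ∨ c χ = -1) with e | e <;> rw [e] <;> norm_num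
  refine ⟨⟨c, hc, hc1, ?_, hle⟩⟩
  rw [Finset.sum_congr rfl hle, Finset.sum_const, nsmul_eq_mul, mul_one] at e
  exact_mod_cast e

namespace Three

theorem sum (T : Three N f) (F : IrrCharacter Y → ℂ) :
    ∑ χ : IrrCharacter Y, (T.c χ : ℂ) * F χ = F tchar + ∑ χ ∈ supp T.c, (T.c χ : ℂ) * F χ := by
  classical
  rw [← Finset.add_sum_erase _ _ (Finset.mem_univ (tchar : IrrCharacter Y)), T.one, Int.cast_one, one_mul]
  congr 1
  refine (Finset.sum_subset (fun χ hχ => Finset.mem_erase.mpr ⟨(mem_supp.mp hχ).2, Finset.mem_univ χ⟩)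
    fun χ hχ hn => ?_).symm
  have : T.c χ = 0 := by
    by_contra hne
    exact hn (mem_supp.mpr ⟨hne, (Finset.mem_erase.mp hχ).1⟩)
  rw [this, Int.cast_zero, zero_mul]

theorem apply (T : Three N f) (y : Y) :
    indFun N f y = 1 + ∑ χ ∈ supp T.c, (T.c χ : ℂ) * (χ : Y → ℂ) y := by
  rw [congrFun T.eq y, Finset.sum_apply]
  exact T.sum fun χ => (χ : Y → ℂ) y

theorem at_one (T : Three N f) (h1 : f 1 = 0) :
    1 + ∑ χ ∈ supp T.c, (T.c χ : ℂ) * (χ : Y → ℂ) 1 = 0 := by
  rw [← T.apply, indFun_one, h1, mul_zero]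

theorem at_off (T : Three N f) (hsupp : ∀ n : N, (n : Y) ∉ sing N → f n = 0) (a : Y)
    (ha : ∀ x : Y, x * a * x⁻¹ ∉ sing N) :
    1 + ∑ χ ∈ supp T.c, (T.c χ : ℂ) * (χ : Y → ℂ) a = 0 := by
  rw [← T.apply]
  simp only [indFun]
  rw [Finset.sum_eq_zero fun x _ => ?_, mul_zero]
  by_cases hx : x⁻¹ * a * x ∈ N
  · rw [extendByZero_mem N f hx]
    exact hsupp _ (by simpa using ha x⁻¹)
  · exact extendByZero_notMem N f hx

theorem at_mem [Fintype N] (T : Three N f) (hS : Strong N) (hgen : IsGeneralizedCharacter N f)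
    (hsupp : ∀ n : N, (n : Y) ∉ sing N → f n = 0) (t : N) (ht : (t : Y) ∈ sing N) (ht1 : t ≠ 1) :
    1 + ∑ χ ∈ supp T.c, (T.c χ : ℂ) * (χ : Y → ℂ) t = f t := by
  rw [← T.apply]
  exact indFun_eq_of_ti N (sing N) (ti_sing hS) f (isClassFunction_of_isGeneralized hgen) hsupp t ht ht1

theorem inner [Fintype N] [DecidableEq (IrrCharacter Y)] (T : Three N f) (U : Three N g) (hS : Strong N)
    (hgen : IsGeneralizedCharacter N g) (hsupp : ∀ n : N, (n : Y) ∉ sing N → f n = 0)
    (hsupp' : ∀ n : N, (n : Y) ∉ sing N → g n = 0) (h1 : f 1 = 0) {r : ℤ} (hr : classInner f g = r) :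
    1 + ∑ χ ∈ supp T.c ∩ supp U.c, T.c χ * U.c χ = r := by
  classical
  have e := classInner_indFun_of_ti N (sing N) (ti_sing hS) f g
    (isClassFunction_of_isGeneralized hgen) hsupp hsupp' h1
  rw [hr, T.eq, U.eq, classInner_sum_smul_sum_smul, T.sum] at e
  simp only [map_intCast, U.one] at e
  have e' : ∑ χ ∈ supp T.c ∩ supp U.c, (T.c χ : ℂ) * (U.c χ : ℂ) =
      ∑ χ ∈ supp T.c, (T.c χ : ℂ) * (U.c χ : ℂ) := by
    refine Finset.sum_subset Finset.inter_subset_left fun χ hχ hn => ?_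
    have : U.c χ = 0 := by
      by_contra hne
      exact hn (Finset.mem_inter.mpr ⟨hχ, mem_supp.mpr ⟨hne, (mem_supp.mp hχ).2⟩⟩)
    rw [this, Int.cast_zero, mul_zero]
  rw [← e'] at e
  exact_mod_cast e

/-- Pairs of conjugates of `j` against the support of `f`. -/
theorem pair_count [Fintype N] (T : Three N f) (j : Y)
    (hin : ∀ n : N, f n ≠ 0 → ∀ u v : Y, IsConj j u → IsConj j v → u * v = n → u ∈ N)
    (I : Finset N) (hI : ∀ u : N, u ∈ I ↔ IsConj j (u : Y)) :
    ((Subgroup.centralizer ({j} : Set Y)).index : ℂ) ^ 2 / (Nat.card Y : ℂ) * (Nat.card N : ℂ) *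
      (1 + ∑ χ ∈ supp T.c, (T.c χ : ℂ) * ((χ : Y → ℂ) j ^ 2 / (χ : Y → ℂ) 1)) =
    ∑ u ∈ I, ∑ v ∈ I, f (u * v) := by
  classical
  have hone : (1 : ℂ) = (tchar : IrrCharacter Y).1 j ^ 2 / (tchar : IrrCharacter Y).1 1 := by
    simp [tchar_apply]
  rw [hone, ← T.sum fun χ : IrrCharacter Y => (χ : Y → ℂ) j ^ 2 / (χ : Y → ℂ) 1]
  have hm : ∀ n : N, f n * (Nat.card {p : Y × Y // IsConj j p.1 ∧ IsConj j p.2 ∧ p.1 * p.2 = (n : Y)} : ℂ)
      = ∑ u ∈ I, if u⁻¹ * n ∈ I then f n else 0 := by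
    intro n
    by_cases hn : f n = 0
    · simp [hn]
    have e : Nat.card {p : Y × Y // IsConj j p.1 ∧ IsConj j p.2 ∧ p.1 * p.2 = (n : Y)} =
        (I.filter fun u => u⁻¹ * n ∈ I).card := by
      rw [← Nat.card_eq_finsetCard]
      refine Nat.card_congr ⟨fun p => ⟨⟨p.1.1, hin n hn _ _ p.2.1 p.2.2.1 p.2.2.2⟩, ?_⟩,
        fun u => ⟨((u.1 : Y), (u.1 : Y)⁻¹ * n), ?_⟩, fun p => ?_, fun u => rfl⟩
      · rw [Finset.mem_filter, hI, hI]
        refine ⟨p.2.1, ?_⟩
        show IsConj j (p.1.1⁻¹ * (n : Y))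
        rw [inv_mul_eq_iff_eq_mul.mpr p.2.2.2.symm]
        exact p.2.2.1
      · obtain ⟨h1, h2⟩ := Finset.mem_filter.mp u.2
        exact ⟨(hI _).mp h1, (hI _).mp h2, mul_inv_cancel_left _ _⟩
      · refine Subtype.ext (Prod.ext rfl ?_)
        exact inv_mul_eq_iff_eq_mul.mpr p.2.2.2.symm
    rw [e, ← Finset.sum_filter, Finset.sum_const, nsmul_eq_mul, mul_comm]
  have hrec : ∀ χ : IrrCharacter Y, (T.c χ : ℂ) = classInner f (fun n : N => (χ : Y → ℂ) n) := fun χ => by
    rw [← frobenius_reciprocity N f (isClassFunction_irr χ), T.eq, classInner_sum_smul_irr]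
  have hN : (Nat.card N : ℂ) ≠ 0 := Nat.cast_ne_zero.mpr Nat.card_pos.ne'
  calc _ = ∑ n : N, f n * (((Subgroup.centralizer ({j} : Set Y)).index : ℂ) *
        ((Subgroup.centralizer ({j} : Set Y)).index : ℂ) / (Nat.card Y : ℂ) *
        ∑ χ : IrrCharacter Y, (χ : Y → ℂ) j * (χ : Y → ℂ) j * conj ((χ : Y → ℂ) n) / (χ : Y → ℂ) 1) := by
        simp only [hrec, classInner, Finset.mul_sum, Finset.sum_mul]
        rw [Finset.sum_comm]
        refine Finset.sum_congr rfl fun n _ => Finset.sum_congr rfl fun χ _ => ?_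
        field_simp
    _ = ∑ n : N, ∑ u ∈ I, if u⁻¹ * n ∈ I then f n else 0 := by
        refine Finset.sum_congr rfl fun n _ => ?_
        rw [← hm, class_mult]
    _ = _ := by
        rw [Finset.sum_comm]
        refine Finset.sum_congr rfl fun u _ => ?_
        rw [← Equiv.sum_comp (Equiv.mulLeft u)]
        simp only [Equiv.coe_mulLeft, inv_mul_cancel_left]
        rw [Finset.sum_ite_mem, Finset.univ_inter]

end Three

/-- Two norm three supports with odd common inner product share exactly one character. -/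
theorem card_inter_eq_one [DecidableEq (IrrCharacter Y)] {N : Subgroup Y} {f g : N → ℂ}
    (T : Three N f) (U : Three N g) {r : ℤ} (hr : r = 1 ∨ r = -1)
    (h : ∑ χ ∈ supp T.c ∩ supp U.c, T.c χ * U.c χ = r) :
    ∃ χ, supp T.c ∩ supp U.c = {χ} ∧ U.c χ = r * T.c χ := by
  classical
  have hle : (supp T.c ∩ supp U.c).card ≤ 2 := T.card ▸ Finset.card_le_card Finset.inter_subset_left
  have hpm : ∀ χ ∈ supp T.c ∩ supp U.c, T.c χ * U.c χ = 1 ∨ T.c χ * U.c χ = -1 := by
    intro χ hχ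
    rw [Finset.mem_inter] at hχ
    rcases sq_eq_one_iff.mp (T.sq χ hχ.1) with e | e <;> rcases sq_eq_one_iff.mp (U.sq χ hχ.2) with e' | e' <;>
      rw [e, e'] <;> norm_num
  rcases (by omega : (supp T.c ∩ supp U.c).card = 0 ∨ (supp T.c ∩ supp U.c).card = 1 ∨
      (supp T.c ∩ supp U.c).card = 2) with e | e | e
  · rw [Finset.card_eq_zero.mp e, Finset.sum_empty] at h
    omega
  · obtain ⟨χ, hχ⟩ := Finset.card_eq_one.mp e
    refine ⟨χ, hχ, ?_⟩
    rw [hχ, Finset.sum_singleton] at h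
    have h2 := T.sq χ (Finset.mem_inter.mp (hχ ▸ Finset.mem_singleton_self χ)).1
    rw [← h]
    linear_combination -(U.c χ) * h2
  · obtain ⟨χ, ξ, hne, hχ⟩ := Finset.card_eq_two.mp e
    rw [hχ, Finset.sum_pair hne] at h
    have h1 := hpm χ (hχ ▸ Finset.mem_insert_self _ _)
    have h2 := hpm ξ (hχ ▸ Finset.mem_insert_of_mem (Finset.mem_singleton_self _))
    omega

end Char

section Finish

variable [Finite Y]

/-- A strongly `3`-embedded subgroup meeting a normal subgroup in a `3`-group with two independent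
elements of order three is everything. -/
theorem close_up {N K : Subgroup Y} [hK : K.Normal] (hS : Strong N)
    (h3 : IsPGroup 3 (K ⊓ N : Subgroup Y)) {u v : Y} (hu : u ∈ K ⊓ N) (hv : v ∈ K ⊓ N)
    (hu3 : u ^ 3 = 1) (hv3 : v ^ 3 = 1) (huv : Commute u v) (hu1 : u ≠ 1)
    (hvu : v ∉ Subgroup.zpowers u) : N = ⊤ := by
  classical
  haveI : Fact (Nat.Prime 3) := ⟨Nat.prime_three⟩
  by_cases hKN : K ≤ N
  · rw [eq_top_iff]
    exact fun g _ => strong_cube hS hu.2 hu3 hu1 (hKN (hK.conj_mem _ hu.1 g))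
  exfalso
  set H : Subgroup K := N.subgroupOf K with hH
  have hmem : ∀ k : K, k ∈ H ↔ (k : Y) ∈ N := fun k => Subgroup.mem_subgroupOf
  have hHp : IsPGroup 3 H := by
    intro k
    obtain ⟨n, hn⟩ := h3 ⟨((k : K) : Y), ⟨(k : K).2, (hmem _).mp k.2⟩⟩
    refine ⟨n, Subtype.ext (Subtype.ext ?_)⟩
    simpa using congrArg Subtype.val hn
  have huH : (⟨u, hu.1⟩ : K) ∈ H := hu.2
  have hvH : (⟨v, hv.1⟩ : K) ∈ H := hv.2
  have hfc : Cfsg.IsFrobeniusComplement H := by
    refine ⟨fun e => hu1 ?_, fun e => hKN fun k hk => (hmem ⟨k, hk⟩).mp (e ▸ Subgroup.mem_top _), ?_⟩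
    · have h' : (⟨u, hu.1⟩ : K) ∈ (⊥ : Subgroup K) := e ▸ huH
      exact congrArg (fun k : K => (k : Y)) (Subgroup.mem_bot.mp h')
    · intro g hg
      rw [Subgroup.eq_bot_iff_forall]
      rintro h ⟨hh, hh'⟩
      by_contra hh1
      obtain ⟨z, hz, hzh⟩ := hh'
      have hord : 3 ∣ orderOf h := by
        obtain ⟨m, hm⟩ := hHp ⟨h, hh⟩
        have hd : orderOf h ∣ 3 ^ m := orderOf_dvd_of_pow_eq_one (by simpa using congrArg Subtype.val hm)
        obtain ⟨i, -, hi⟩ := (Nat.dvd_prime_pow Nat.prime_three).mp hd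
        rcases i with _ | i
        · exact absurd (orderOf_eq_one_iff.mp (by simpa using hi)) hh1
        · rw [hi, pow_succ]; exact dvd_mul_left 3 _
      have hk3 : orderOf ((h : Y) ^ (orderOf h / 3)) = 3 := by
        rw [← Subgroup.coe_pow, Subgroup.orderOf_coe]
        exact orderOf_pow_orderOf_div (orderOf_ne_zero_iff.mpr (isOfFinOrder_of_finite h)) hord
      refine hg ((hmem g).mpr ?_)
      have hg' : (g : Y)⁻¹ ∈ N := by
        refine strong_sing hS (n := (h : Y)) ⟨(hmem h).mp hh, _, hk3⟩ ?_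
        have hz' : h = g * z * g⁻¹ := hzh.symm.trans (by simp)
        have : ((g : Y))⁻¹ * (h : Y) * (g : Y)⁻¹⁻¹ = (z : Y) := by rw [hz']; simp [mul_assoc]
        rw [this]
        exact (hmem z).mp hz
      simpa using inv_mem hg'
  obtain ⟨F, hF, hFn, hFc⟩ := Cfsg.Agent.S0035.result H hfc
  obtain ⟨hcard, hmod⟩ := Cfsg.Agent.S0034.result H hfc
  have hFcard : Nat.card F = H.index := by
    rw [← hcard, ← hF]; rfl
  let A : Subgroup K := Subgroup.closure {⟨u, hu.1⟩, ⟨v, hv.1⟩}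
  haveI hAc : IsMulCommutative A := Subgroup.isMulCommutative_closure (by
    have huv' : (⟨u, hu.1⟩ : K) * ⟨v, hv.1⟩ = ⟨v, hv.1⟩ * ⟨u, hu.1⟩ := Subtype.ext huv.eq
    simp only [Set.mem_insert_iff, Set.mem_singleton_iff]
    rintro a (rfl | rfl) b (rfl | rfl) <;> first | rfl | exact huv' | exact huv'.symm)
  have hAH : A ≤ H := (Subgroup.closure_le _).mpr (by
    simp only [Set.insert_subset_iff, Set.singleton_subset_iff]; exact ⟨huH, hvH⟩)
  have hcube : ∀ a ∈ A, a ^ 3 = 1 := by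
    intro a ha
    induction ha using Subgroup.closure_induction with
    | mem x hx =>
      simp only [Set.mem_insert_iff, Set.mem_singleton_iff] at hx
      rcases hx with rfl | rfl
      · exact Subtype.ext hu3
      · exact Subtype.ext hv3
    | one => exact one_pow 3
    | mul x y hx hy hx3 hy3 =>
      have : Commute x y := congrArg Subtype.val (hAc.is_comm.comm ⟨x, hx⟩ ⟨y, hy⟩)
      rw [this.mul_pow, hx3, hy3, one_mul]
    | inv x _ hx3 => rw [inv_pow, hx3, inv_one]
  have hAcyc : ¬ IsCyclic A := by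
    intro hc
    haveI := hc
    obtain ⟨w, hw⟩ := IsCyclic.exists_generator (α := A)
    have hw3 : (w : K) ^ 3 = 1 := hcube _ w.2
    have hcardA : Nat.card A ≤ 3 := by
      rw [← orderOf_eq_card_of_forall_mem_zpowers hw]
      exact Nat.le_of_dvd (by norm_num) (orderOf_dvd_of_pow_eq_one (Subtype.ext (by simpa using hw3)))
    have hle : Subgroup.zpowers (⟨u, hu.1⟩ : K) ≤ A :=
      Subgroup.zpowers_le.mpr (Subgroup.subset_closure (by simp))
    have hu' : orderOf (⟨u, hu.1⟩ : K) = 3 := by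
      rw [← Subgroup.orderOf_coe]; exact orderOf_eq_three hu3 hu1
    have heq := Subgroup.eq_of_le_of_card_ge hle (by rw [Nat.card_zpowers, hu']; exact hcardA)
    have hvA : (⟨v, hv.1⟩ : K) ∈ A := Subgroup.subset_closure (by simp)
    rw [← heq] at hvA
    obtain ⟨i, hi⟩ := hvA
    exact hvu ⟨i, by simpa using congrArg Subtype.val hi⟩
  have hcop : (Nat.card A).Coprime (Nat.card F) := by
    obtain ⟨m, hm⟩ := (hHp.to_le hAH).exists_card_eq
    rw [hm]
    apply Nat.Coprime.pow_left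
    rw [Nat.prime_three.coprime_iff_not_dvd, hFcard]
    intro hdvd
    have h3H : 3 ∣ Nat.card H := by
      have := Subgroup.orderOf_dvd_natCard H huH
      rwa [← Subgroup.orderOf_coe, orderOf_eq_three hu3 hu1] at this
    have h1H : 1 < Nat.card H := lt_of_lt_of_le (by norm_num) (Nat.le_of_dvd Nat.card_pos h3H)
    rw [Nat.one_mod_eq_one.mpr (by omega)] at hmod
    have : H.index = Nat.card H * (H.index / Nat.card H) + 1 := by
      conv_lhs => rw [← Nat.div_add_mod H.index (Nat.card H), hmod]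
    obtain ⟨t, ht⟩ := h3H
    rw [ht, mul_assoc] at this
    omega
  haveI := hFn
  have key := Cfsg.Agent.S0058.result A F hAcyc
    (by rw [Subgroup.normalizer_eq_top_iff.mpr hFn]; exact le_top) hcop
  have hFbot : F = ⊥ := by
    rw [← key, eq_bot_iff]
    refine iSup₂_le fun a ha => ?_
    rintro k ⟨hkF, hkC⟩
    have hkH : k ∈ H := by
      refine (hmem k).mpr (hS.centralizer_le ((hmem a).mp (hAH ha.1))
        (orderOf_eq_three (by simpa using congrArg Subtype.val (hcube a ha.1))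
          (fun e => ha.2 (Subtype.ext e))) ?_)
      exact Subgroup.mem_centralizer_singleton_iff.mpr
        (congrArg Subtype.val (Subgroup.mem_centralizer_singleton_iff.mp hkC))
    rw [← hFc.disjoint.eq_bot]
    exact ⟨hkF, hkH⟩
  have h2 := hFc.card_mul
  rw [hFbot, Subgroup.card_bot, one_mul] at h2
  exact hfc.2.1 (Subgroup.eq_top_of_card_eq H h2)

/-- The index of a strongly `3`-embedded subgroup with an element of order three is `1 mod 3`. -/
theorem index_mod_three {N : Subgroup Y} (hS : Strong N) {e : Y} (he : e ∈ N) (h3 : e ^ 3 = 1)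
    (h1 : e ≠ 1) : N.index % 3 = 1 := by
  haveI : Fact (Nat.Prime 3) := ⟨Nat.prime_three⟩
  have hp : IsPGroup 3 (Subgroup.zpowers e) := IsPGroup.of_card
    (n := 1) (by rw [Nat.card_zpowers, orderOf_eq_three h3 h1, pow_one])
  have h := hp.card_modEq_card_fixedPoints (Y ⧸ N)
  have hfix : Nat.card (MulAction.fixedPoints (Subgroup.zpowers e) (Y ⧸ N)) = 1 := by
    rw [Nat.card_eq_one_iff_exists]
    refine ⟨⟨QuotientGroup.mk 1, fun k => ?_⟩, ?_⟩
    · show ((((k : Y) * 1 : Y)) : Y ⧸ N) = _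
      rw [mul_one, QuotientGroup.eq, mul_one]
      exact inv_mem (Subgroup.zpowers_le.mpr he k.2)
    · rintro ⟨q, hq⟩
      apply Subtype.ext
      obtain ⟨g, rfl⟩ := QuotientGroup.mk_surjective q
      have := QuotientGroup.eq.mp (hq ⟨e, Subgroup.mem_zpowers e⟩ : ((e * g : Y) : Y ⧸ N) = g)
      have h' : g⁻¹ * e⁻¹ * g ∈ N := by simpa [mul_assoc] using this
      have hg := strong_cube hS (inv_mem he) (by rw [inv_pow, h3, inv_one]) (inv_ne_one.mpr h1)
        (g := g⁻¹) (by simpa using h')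
      exact QuotientGroup.eq.mpr (by simpa using hg)
  rw [hfix] at h
  rw [Subgroup.index]
  exact h

end Finish

end CfsgLib.LFourThree.SmallC
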