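import Cfsg.Agent.Lib.LFourThree.SmallModel
import Cfsg.Agent.Lib.LFourThree.SmallTools

/-!
Transport of finite computations to a coordinatised subgroup.
-/

set_option autoImplicit false
set_option linter.unusedSectionVars false

namespace CfsgLib.LFourThree.SmallC

open Cfsg CfsgLib.Char
open scoped ComplexConjugate CfsgLib.Char

variable {Y : Type*} [Group Y]

/-- A multiplication table hitting a generating set, with the right cardinality, gives coordinates. -/
theorem coord_of [Finite Y] {X : Type*} [Fintype X] (m : X → X → X) (f : X → Y)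
    (hmul : ∀ p q, f (m p q) = f p * f q) (S : Set Y) (h1 : ∃ o, f o = 1)
    (hgen : ∀ s ∈ S, ∃ p, f p = s) (hsub : ∀ p, f p ∈ Subgroup.closure S)
    (hcard : Nat.card (Subgroup.closure S) = Fintype.card X) :
    ∃ e : X ≃ Subgroup.closure S, ∀ p, (e p : Y) = f p := by
  classical
  let g : X → Subgroup.closure S := fun p => ⟨f p, hsub p⟩
  have hsur : Function.Surjective g := by
    rintro ⟨y, hy⟩
    have : ∃ p, f p = y := by
      induction hy using Subgroup.closure_induction_left with
      | one => exact h1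
      | mul_left x hx y hy ih =>
        obtain ⟨p, rfl⟩ := hgen x hx
        obtain ⟨q, rfl⟩ := ih
        exact ⟨m p q, hmul p q⟩
      | inv_mul_cancel x hx y hy ih =>
        obtain ⟨q, rfl⟩ := ih
        obtain ⟨p, rfl⟩ := hgen x hx
        have : ∀ n : ℕ, ∃ r, f r = f p ^ n * f q := by
          intro n
          induction n with
          | zero => exact ⟨q, by simp⟩
          | succ n ihn =>
            obtain ⟨r, hr⟩ := ihn
            exact ⟨m p r, by rw [hmul, hr, pow_succ', mul_assoc]⟩
        obtain ⟨n, hn⟩ : ∃ n : ℕ, f p ^ n = (f p)⁻¹ := by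
          refine ⟨orderOf (f p) - 1, eq_inv_of_mul_eq_one_right ?_⟩
          rw [← pow_succ', Nat.sub_add_cancel (orderOf_pos (f p)), pow_orderOf_eq_one]
        rw [← hn]; exact this n
    obtain ⟨p, rfl⟩ := this
    exact ⟨p, rfl⟩
  have hinj : Function.Injective g :=
    ((Nat.bijective_iff_surjective_and_card g).mpr
      ⟨hsur, by rw [hcard, Nat.card_eq_fintype_card]⟩).1
  exact ⟨Equiv.ofBijective g ⟨hinj, hsur⟩, fun _ => rfl⟩

/-- A sum of test functions transported by the coordinates. -/
theorem sum_equiv_ev {X : Type*} [Fintype X] {N : Subgroup Y} [Fintype N] (e : X ≃ N) (F : X → ℤ × ℤ) :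
    ∑ n : N, ev (F (e.symm n)) = ev (∑ p, F p) := by
  rw [ev_sum, ← Equiv.sum_comp e]
  simp

theorem classInner_equiv {X : Type*} [Fintype X] {N : Subgroup Y} [Fintype N] (e : X ≃ N)
    (F G : X → ℤ × ℤ) {r : ℤ} (hr : ∑ p, cmul (F p) (G p) = (r * Fintype.card X, 0)) :
    classInner (fun n : N => ev (F (e.symm n))) (fun n : N => ev (G (e.symm n))) = r := by
  simp only [classInner, ← ev_cmul]
  rw [sum_equiv_ev e (fun p => cmul (F p) (G p)), hr, ev_int, ← Nat.card_congr e, Nat.card_eq_fintype_card]
  have : (Fintype.card X : ℂ) ≠ 0 := by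
    have : Nonempty X := ⟨e.symm 1⟩
    exact Nat.cast_ne_zero.mpr Fintype.card_ne_zero
  push_cast
  field_simp

theorem classInner_equiv_one {X : Type*} [Fintype X] {N : Subgroup Y} [Fintype N] (e : X ≃ N)
    (F : X → ℤ × ℤ) {r : ℤ} (hr : ∑ p, F p = (r * Fintype.card X, 0)) :
    classInner (fun n : N => ev (F (e.symm n))) (fun _ => (1 : ℂ)) = r := by
  simp only [classInner, map_one, mul_one]
  rw [sum_equiv_ev e F, hr, ev_int, ← Nat.card_congr e, Nat.card_eq_fintype_card]
  have : (Fintype.card X : ℂ) ≠ 0 := by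
    have : Nonempty X := ⟨e.symm 1⟩
    exact Nat.cast_ne_zero.mpr Fintype.card_ne_zero
  push_cast
  field_simp

/-- Signs move inside a square quotient. -/
theorem sgn_div {s : ℤ} (hs : s ^ 2 = 1) (v d : ℂ) :
    (s : ℂ) * (v ^ 2 / d) = ((s : ℂ) * v) ^ 2 / ((s : ℂ) * d) := by
  rcases sq_eq_one_iff.mp hs with rfl | rfl
  · simp
  · simp [div_neg, neg_div]

end CfsgLib.LFourThree.SmallC
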