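import Mathlib
import Cfsg.Agent.Lib.Char.Virtual

/-!
Coordinates and test functions for the small recognition lemmas of `PSL(4,3)`.
-/

set_option autoImplicit false
set_option linter.unusedSectionVars false

namespace CfsgLib.LFourThree.SmallC

open Cfsg CfsgLib.Char
open scoped ComplexConjugate

variable {Y : Type*} [Group Y]

/-- The exponent `z` of an element whose cube is trivial. -/
def pw (u : Y) (z : ZMod 3) : Y := u ^ z.val

theorem pw_zero (u : Y) : pw u 0 = 1 := by simp [pw]

theorem pw_one (u : Y) : pw u 1 = u := by rw [pw, show (1 : ZMod 3).val = 1 from rfl, pow_one]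

theorem pw_two (u : Y) : pw u 2 = u ^ 2 := rfl

theorem pw_add {u : Y} (hu : u ^ 3 = 1) (z w : ZMod 3) : pw u (z + w) = pw u z * pw u w := by
  rw [pw, pw, pw, ← pow_add, ZMod.val_add, ← pow_eq_pow_mod _ hu]

theorem pw_neg {u : Y} (hu : u ^ 3 = 1) (z : ZMod 3) : pw u (-z) = pw u⁻¹ z := by
  refine mul_right_cancel (b := pw u z) ?_
  rw [← pw_add hu, neg_add_cancel, pw_zero, pw, pw, inv_pow, inv_mul_cancel]

theorem pw_two_mul {u : Y} (hu : u ^ 3 = 1) (z : ZMod 3) : pw u (2 * z) = pw (u ^ 2) z := by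
  rw [pw, pw, ← pow_mul, ZMod.val_mul, ← pow_eq_pow_mod _ hu]
  rfl

theorem conj_pw {g u w : Y} (h : g * u * g⁻¹ = w) (z : ZMod 3) : g * pw u z = pw w z * g := by
  rw [pw, pw, ← h, conj_pow, inv_mul_cancel_right]

/-- A primitive cube root of unity. -/
noncomputable def zeta : ℂ := ⟨-1 / 2, Real.sqrt 3 / 2⟩

theorem zeta_sq : zeta * zeta = -1 - zeta := by
  have h : Real.sqrt 3 * Real.sqrt 3 = 3 := Real.mul_self_sqrt (by norm_num)
  apply Complex.ext
  · simp [zeta, Complex.mul_re]; linear_combination (-1/4 : ℝ) * h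
  · simp [zeta, Complex.mul_im]; ring

theorem conj_zeta : conj zeta = -1 - zeta := by
  apply Complex.ext <;> simp [zeta]; norm_num

theorem zeta_cube : zeta ^ 3 = 1 := by
  linear_combination (zeta - 1) * zeta_sq

/-- Evaluation of an Eisenstein integer. -/
noncomputable def ev (p : ℤ × ℤ) : ℂ := (p.1 : ℂ) + (p.2 : ℂ) * zeta

theorem ev_add (p q : ℤ × ℤ) : ev (p + q) = ev p + ev q := by
  simp [ev]; ring

theorem ev_zero : ev 0 = 0 := by simp [ev]

theorem ev_int (n : ℤ) : ev (n, 0) = (n : ℂ) := by simp [ev]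

theorem ev_sub (p q : ℤ × ℤ) : ev (p - q) = ev p - ev q := by
  simp [ev]; ring

theorem ev_sum {ι : Type*} (s : Finset ι) (F : ι → ℤ × ℤ) : ev (∑ i ∈ s, F i) = ∑ i ∈ s, ev (F i) := by
  classical
  induction s using Finset.induction_on with
  | empty => simp [ev_zero]
  | insert a s ha ih => rw [Finset.sum_insert ha, Finset.sum_insert ha, ev_add, ih]

/-- The product of an Eisenstein integer with the conjugate of another one. -/
def cmul (p q : ℤ × ℤ) : ℤ × ℤ :=
  (p.1 * q.1 - p.1 * q.2 + p.2 * q.2, p.2 * q.1 - p.1 * q.2)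

theorem ev_cmul (p q : ℤ × ℤ) : ev (cmul p q) = ev p * conj (ev q) := by
  simp only [ev, cmul, map_add, map_mul, map_intCast, conj_zeta]
  push_cast
  linear_combination (p.2 : ℂ) * q.2 * zeta_sq

/-- The cube roots of unity as Eisenstein integers. -/
def root3 (z : ZMod 3) : ℤ × ℤ := if z = 0 then (1, 0) else if z = 1 then (0, 1) else (-1, -1)

theorem ev_root3 (z : ZMod 3) : ev (root3 z) = zeta ^ z.val := by
  have h : z = 0 ∨ z = 1 ∨ z = 2 := by revert z; decide
  rcases h with rfl | rfl | rfl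
  · simp [root3, ev]
  · simp [root3, ev, show (1 : ZMod 3).val = 1 from rfl]
  · rw [show root3 2 = (-1, -1) from rfl, show (2 : ZMod 3).val = 2 from rfl, pow_two, zeta_sq]
    simp [ev]; ring

section Psi

/-- The class function `3` on the rotations of order three of `DihedralGroup 3`. -/
def psiInt : DihedralGroup 3 → ℤ
  | .r i => if i = 0 then 0 else 3
  | .sr _ => 0

/-- The sign of a dihedral element. -/
def sgnHom : DihedralGroup 3 →* ℂˣ where
  toFun g := match g with
    | .r _ => 1
    | .sr _ => -1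
  map_one' := rfl
  map_mul' g h := by
    cases g <;> cases h <;> simp

theorem sgnHom_r (i : ZMod 3) : (sgnHom (.r i) : ℂ) = 1 := rfl

theorem sgnHom_sr (i : ZMod 3) : (sgnHom (.sr i) : ℂ) = -1 := by
  show ((-1 : ℂˣ) : ℂ) = -1
  simp

theorem psi_generalized :
    IsGeneralizedCharacter (DihedralGroup 3) (fun g => (psiInt g : ℂ)) := by
  classical
  let H : Subgroup (DihedralGroup 3) := Subgroup.zpowers (DihedralGroup.sr 0)
  haveI : Fintype H := Fintype.ofFinite H
  have hone : IsGeneralizedCharacter H (fun _ => (1 : ℂ)) :=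
    isGeneralized_of_isCharacter isCharacter_one
  have hH : ∀ y : DihedralGroup 3, y ∈ H ↔ y = 1 ∨ y = DihedralGroup.sr 0 := by
    intro y
    constructor
    · rintro ⟨k, rfl⟩
      rcases Int.even_or_odd k with ⟨m, rfl⟩ | ⟨m, rfl⟩
      · left
        show DihedralGroup.sr (0 : ZMod 3) ^ (m + m) = 1
        rw [← two_mul, zpow_mul, zpow_two, DihedralGroup.sr_mul_self, one_zpow]
      · right
        show DihedralGroup.sr (0 : ZMod 3) ^ (2 * m + 1) = _
        rw [zpow_add_one, zpow_mul, zpow_two, DihedralGroup.sr_mul_self, one_zpow, one_mul]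
    · rintro (rfl | rfl)
      · exact one_mem H
      · exact Subgroup.mem_zpowers _
  have hcard : Nat.card H = 2 := by
    rw [Nat.card_zpowers, DihedralGroup.orderOf_sr]
  let cnt : DihedralGroup 3 → ℕ := fun g =>
    (Finset.univ.filter fun x : DihedralGroup 3 => x⁻¹ * g * x = 1 ∨ x⁻¹ * g * x = DihedralGroup.sr 0).card
  have hind : ∀ g, indFun H (fun _ => (1 : ℂ)) g = (2 : ℂ)⁻¹ * (cnt g : ℂ) := by
    intro g
    simp only [indFun, hcard]
    congr 1
    rw [Finset.natCast_card_filter]
    refine Finset.sum_congr rfl fun x _ => ?_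
    by_cases hx : x⁻¹ * g * x ∈ H
    · rw [extendByZero_mem H _ hx, if_pos ((hH _).mp hx)]
    · rw [extendByZero_notMem H _ hx, if_neg fun h => hx ((hH _).mpr h)]
  have hdec : ∀ g : DihedralGroup 3,
      2 * psiInt g = 4 + (match g with | .r _ => 2 | .sr _ => -2) - (cnt g : ℤ) := by
    decide
  have e : (fun g => (psiInt g : ℂ)) = (fun _ => (1 : ℂ)) + (fun _ => (1 : ℂ)) +
      (fun g => (sgnHom g : ℂ)) - indFun H (fun _ => (1 : ℂ)) := by
    funext g
    simp only [Pi.add_apply, Pi.sub_apply, hind]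
    have h := congrArg (fun n : ℤ => (n : ℂ)) (hdec g)
    cases g <;> simp [sgnHom_r, sgnHom_sr] at h ⊢ <;> linear_combination (1/2 : ℂ) * h
  rw [e]
  exact isGeneralized_sub (isGeneralized_add (isGeneralized_add
    (isGeneralized_of_isCharacter isCharacter_one) (isGeneralized_of_isCharacter isCharacter_one))
    (isGeneralized_of_isCharacter (isCharacter_monoidHom sgnHom))) (isGeneralized_indFun H hone)

end Psi

end CfsgLib.LFourThree.SmallC
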