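import Cfsg.Agent.Lib.LFourThree.SmallCoord

/-!
The lemma `small_v`: a strongly `3`-embedded `(3 wr 3):2` is everything.
-/

set_option autoImplicit false
set_option linter.unusedSectionVars false
set_option maxRecDepth 20000

namespace CfsgLib.LFourThree.SmallC

open Cfsg CfsgLib.Char
open scoped ComplexConjugate CfsgLib.Char

/-- Coordinates `a^i b^j c^k x^l j^s`. -/
structure V5 where
  i : ZMod 3
  u : ZMod 3
  k : ZMod 3
  l : ZMod 3
  s : Bool
  deriving DecidableEq, Fintype

namespace V5

/-- A sign. -/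
def sg (s : Bool) (z : ZMod 3) : ZMod 3 := if s then -z else z

/-- Multiplication. -/
def mul (p q : V5) : V5 :=
  ⟨p.i + (q.i + p.l * sg p.s q.u), p.u + sg p.s q.u,
    p.k + (sg p.s q.k + p.l * q.i + 2 * p.l * p.l * sg p.s q.u), p.l + sg p.s q.l, xor p.s q.s⟩

/-- The identity. -/
def one : V5 := ⟨0, 0, 0, 0, false⟩

/-- Inverse. -/
def inv (p : V5) : V5 := mul (mul ⟨0, 0, 0, 0, p.s⟩ ⟨0, 0, 0, -p.l, false⟩) ⟨-p.i, -p.u, -p.k, 0, false⟩

/-- The dihedral quotient. -/
def toD (p : V5) : DihedralGroup 3 := if p.s then .sr (-p.l) else .r p.l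

/-- `3` on the cosets of elements outside the abelian normal subgroup. -/
def fA (p : V5) : ℤ × ℤ := (if p.s = false ∧ p.l ≠ 0 then 3 else 0, 0)

/-- The induced character. -/
def th (p : V5) : ℤ × ℤ :=
  if p.l ≠ 0 ∧ p.s = false then 0 else
    if p.s then root3 (p.i + p.l * p.u) else root3 p.i + root3 (p.i + p.u) + root3 (p.i + 2 * p.u)

/-- The linear character of the index three subgroup, extended by zero. -/
def lam (p : V5) : ℤ × ℤ := if p.l = 0 then root3 p.i else 0

/-- The second test function. -/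
def fB (p : V5) : ℤ × ℤ :=
  (1 + (if p.s then 0 else if p.l = 0 then 2 else -1), 0) - th p

/-- The involutions. -/
def invol : Finset V5 := Finset.univ.filter fun p => mul p p = one ∧ p ≠ one

/-- Having a power of order three with exponent `1`, `2` or `3`. -/
def hasThree (p : V5) : Prop :=
  (mul p (mul p p) = one ∧ p ≠ one) ∨
  (mul (mul p p) (mul (mul p p) (mul p p)) = one ∧ mul p p ≠ one) ∨
  (mul (mul p (mul p p)) (mul (mul p (mul p p)) (mul p (mul p p))) = one ∧ mul p (mul p p) ≠ one)

instance : DecidablePred hasThree := fun p => by unfold hasThree; infer_instance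

theorem card_eq : Fintype.card V5 = 162 := by decide +kernel

theorem one_mul' : ∀ p, mul one p = p := by decide +kernel

theorem inv_mul' : ∀ p, mul (inv p) p = one := by decide +kernel

theorem toD_mul : ∀ p q, toD (mul p q) = toD p * toD q := by decide +kernel

theorem th_spec : ∀ p, ∑ q, lam (mul (mul (inv q) p) q) = 54 • th p := by decide +kernel

theorem fB_spec : ∀ p, fB p = (2 + (if p.s then -1 else 1), 0) - fA p - th p := by decide +kernel

theorem fA_psi : ∀ p, fA p = (psiInt (toD p), 0) := by decide +kernel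

theorem supp_spec : ∀ p, (fA p ≠ 0 ∨ fB p ≠ 0) → hasThree p := by decide +kernel

theorem sum_fA : ∑ p, fA p = (1 * 162, 0) := by decide +kernel

theorem sum_fB : ∑ p, fB p = (1 * 162, 0) := by decide +kernel

theorem norm_fA : ∑ p, cmul (fA p) (fA p) = (3 * 162, 0) := by decide +kernel

theorem norm_fB : ∑ p, cmul (fB p) (fB p) = (3 * 162, 0) := by decide +kernel

theorem inner_AB : ∑ p, cmul (fA p) (fB p) = (0 * 162, 0) := by decide +kernel

theorem invol_conj : ∀ p ∈ invol, ∃ q, mul q ⟨0, 0, 0, 0, true⟩ = mul p q := by decide +kernel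

theorem pair_A : ∑ p ∈ invol, ∑ q ∈ invol, fA (mul p q) = (1458, 0) := by decide +kernel

theorem pair_B : ∑ p ∈ invol, ∑ q ∈ invol, fB (mul p q) = (486, 0) := by decide +kernel

theorem fA_one : fA one = 0 := by decide +kernel

theorem fB_one : fB one = 0 := by decide +kernel

end V5

variable {Y : Type*} [Group Y]

theorem small_v_aux [Fintype Y] {a b c x j : Y} (ha : a ^ 3 = 1) (hb : b ^ 3 = 1) (hc : c ^ 3 = 1)
    (hx : x ^ 3 = 1) (hj : j ^ 2 = 1) (hab : Commute a b) (hac : Commute a c) (hbc : Commute b c)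
    (hxa : x * a * x⁻¹ = a * c) (hxb : x * b * x⁻¹ = b * a * c ^ 2) (hxc : Commute x c) (hja : Commute j a)
    (hjb : j * b * j⁻¹ = b⁻¹) (hjc : j * c * j⁻¹ = c⁻¹) (hjx : j * x * j⁻¹ = x⁻¹)
    (hcard : Nat.card (Subgroup.closure ({a, b, c, x, j} : Set Y)) = 162)
    (hS : Strong (Subgroup.closure ({a, b, c, x, j} : Set Y))) :
    Subgroup.closure ({a, b, c, x, j} : Set Y) = ⊤ := by
  classical
  -- normal form
  let E : ZMod 3 → ZMod 3 → ZMod 3 → Y := fun i u k => pw a i * pw b u * pw c k
  have cab : ∀ z w, Commute (pw a z) (pw b w) := fun z w => hab.pow_pow _ _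
  have cac : ∀ z w, Commute (pw a z) (pw c w) := fun z w => hac.pow_pow _ _
  have cbc : ∀ z w, Commute (pw b z) (pw c w) := fun z w => hbc.pow_pow _ _
  have Eadd : ∀ i u k i' u' k', E i u k * E i' u' k' = E (i + i') (u + u') (k + k') := by
    intro i u k i' u' k'
    simp only [E, pw_add ha, pw_add hb, pw_add hc]
    rw [Commute.mul_mul_mul_comm (Commute.mul_right (cac i' k).symm (cbc u' k).symm),
      Commute.mul_mul_mul_comm (cab i' u).symm]
  have Ei : ∀ i, pw a i = E i 0 0 := fun i => by simp [E, pw_zero]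
  have Eu : ∀ u, pw b u = E 0 u 0 := fun u => by simp [E, pw_zero]
  have Ek : ∀ k, pw c k = E 0 0 k := fun k => by simp [E, pw_zero]
  have hxE : ∀ i u k, x * E i u k = E (i + u) u (k + i + 2 * u) * x := by
    intro i u k
    have e1 : pw (a * c) i = E i 0 i := by
      simp only [E, pw_zero, mul_one]; exact hac.mul_pow _
    have e2 : pw (b * a * c ^ 2) u = E u u (2 * u) := by
      show pw (b * a * c ^ 2) u = pw a u * pw b u * pw c (2 * u)
      rw [pw_two_mul hc, (cab u u).eq]
      show (b * a * c ^ 2) ^ u.val = b ^ u.val * a ^ u.val * (c ^ 2) ^ u.val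
      rw [(Commute.mul_left (hbc.pow_right 2) (hac.pow_right 2)).mul_pow, hab.symm.mul_pow]
    have e3 : x * c * x⁻¹ = c := by rw [hxc.eq, mul_inv_cancel_right]
    have h1 : x * pw a i = E i 0 i * x := by rw [← e1]; exact conj_pw hxa i
    have h2 : x * pw b u = E u u (2 * u) * x := by rw [← e2]; exact conj_pw hxb u
    have h3 : x * pw c k = E 0 0 k * x := by rw [← Ek]; exact conj_pw e3 k
    calc x * E i u k = x * pw a i * pw b u * pw c k := by simp only [E, mul_assoc]
      _ = E i 0 i * (x * pw b u) * pw c k := by rw [h1]; simp only [mul_assoc]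
      _ = E i 0 i * E u u (2 * u) * (x * pw c k) := by rw [h2]; simp only [mul_assoc]
      _ = _ := by
        rw [h3, ← mul_assoc, Eadd, Eadd]
        congr 2 <;> ring
  have hpE : ∀ l i u k, pw x l * E i u k = E (i + l * u) u (k + l * i + 2 * l * l * u) * pw x l := by
    intro l i u k
    have hl : l = 0 ∨ l = 1 ∨ l = 2 := by revert l; decide
    rcases hl with rfl | rfl | rfl
    · simp [pw_zero]
    · rw [pw_one, hxE]; congr 2 <;> ring
    · rw [pw_two, pow_two, mul_assoc, hxE, ← mul_assoc, hxE, mul_assoc, ← pow_two]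
      congr 2
      · ring
      · have : ∀ i u k : ZMod 3, k + i + 2 * u + (i + u) + 2 * u = k + 2 * i + 2 * 2 * 2 * u := by decide
        exact this i u k
  have hjE : ∀ i u k, j * E i u k = E i (-u) (-k) * j := by
    intro i u k
    have e0 : j * a * j⁻¹ = a := by rw [hja.eq, mul_inv_cancel_right]
    calc j * E i u k = j * pw a i * pw b u * pw c k := by simp only [E, mul_assoc]
      _ = pw a i * (j * pw b u) * pw c k := by rw [conj_pw e0 i]; simp only [mul_assoc]
      _ = pw a i * pw b⁻¹ u * (j * pw c k) := by rw [conj_pw hjb u]; simp only [mul_assoc]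
      _ = _ := by rw [conj_pw hjc k, ← pw_neg hb, ← pw_neg hc]; simp only [E, mul_assoc]
  let f : V5 → Y := fun p => E p.i p.u p.k * pw x p.l * (if p.s then j else 1)
  have hf : ∀ p q, f (V5.mul p q) = f p * f q := by
    rintro ⟨i, u, k, l, s⟩ ⟨i', u', k', l', s'⟩
    have key : ∀ i' u' k' (w : ZMod 3) (r : Y), E i u k * pw x l * (E i' u' k' * pw x w * r) =
        E (i + (i' + l * u')) (u + u') (k + (k' + l * i' + 2 * l * l * u')) * pw x (l + w) * r := by
      intro i' u' k' w r
      calc E i u k * pw x l * (E i' u' k' * pw x w * r)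
          = E i u k * (pw x l * E i' u' k') * (pw x w * r) := by simp only [mul_assoc]
        _ = E i u k * E (i' + l * u') u' (k' + l * i' + 2 * l * l * u') * (pw x l * pw x w) * r := by
          rw [hpE]; simp only [mul_assoc]
        _ = _ := by rw [Eadd, ← pw_add hx]
    simp only [f, V5.mul]
    cases s
    · simp only [V5.sg, Bool.false_eq_true, if_false, Bool.false_bne, mul_one]
      rw [key]
    · simp only [V5.sg, if_true]
      have hjl : j * pw x l' = pw x (-l') * j := by rw [pw_neg hx]; exact conj_pw hjx l'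
      have hr : (if (xor true s') then j else 1) = j * (if s' then j else (1 : Y)) := by
        cases s'
        · simp
        · simp only [Bool.xor_self, Bool.false_eq_true, if_false, if_true]
          rw [← pow_two, hj]
      rw [hr]
      symm
      calc E i u k * pw x l * j * (E i' u' k' * pw x l' * (if s' then j else 1))
          = E i u k * pw x l * ((j * E i' u' k') * (pw x l' * (if s' then j else 1))) := by
            simp only [mul_assoc]
        _ = E i u k * pw x l * (E i' (-u') (-k') * (j * pw x l') * (if s' then j else 1)) := by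
            rw [hjE]; simp only [mul_assoc]
        _ = E i u k * pw x l * (E i' (-u') (-k') * pw x (-l') * (j * (if s' then j else 1))) := by
            rw [hjl]; simp only [mul_assoc]
        _ = _ := key _ _ _ _ _
  set N := Subgroup.closure ({a, b, c, x, j} : Set Y) with hN
  have hmem : ∀ y ∈ ({a, b, c, x, j} : Set Y), y ∈ N := fun y hy => Subgroup.subset_closure hy
  obtain ⟨e, he⟩ : ∃ e : V5 ≃ N, ∀ p, (e p : Y) = f p := by
    refine coord_of V5.mul f hf _ ⟨V5.one, by simp [f, E, V5.one, pw_zero]⟩ ?_ ?_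
      (by rw [V5.card_eq]; exact hcard)
    · intro y hy
      simp only [Set.mem_insert_iff, Set.mem_singleton_iff] at hy
      rcases hy with rfl | rfl | rfl | rfl | rfl
      · exact ⟨⟨1, 0, 0, 0, false⟩, by simp [f, E, pw_zero, pw_one]⟩
      · exact ⟨⟨0, 1, 0, 0, false⟩, by simp [f, E, pw_zero, pw_one]⟩
      · exact ⟨⟨0, 0, 1, 0, false⟩, by simp [f, E, pw_zero, pw_one]⟩
      · exact ⟨⟨0, 0, 0, 1, false⟩, by simp [f, E, pw_zero, pw_one]⟩
      · exact ⟨⟨0, 0, 0, 0, true⟩, by simp [f, E, pw_zero]⟩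
    · intro p
      refine mul_mem (mul_mem (mul_mem (mul_mem ?_ ?_) ?_) ?_) ?_
      all_goals first
        | exact pow_mem (Subgroup.subset_closure (by simp)) _
        | (split
           · exact Subgroup.subset_closure (by simp)
           · exact one_mem _)
  have hemul : ∀ p q, e (V5.mul p q) = e p * e q := fun p q => Subtype.ext (by
    rw [Subgroup.coe_mul, he, he, he, hf])
  have heone : e V5.one = 1 := by
    have := hemul V5.one V5.one
    rw [V5.one_mul'] at this
    exact mul_eq_left.mp this.symm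
  have heinv : ∀ p, e (V5.inv p) = (e p)⁻¹ := fun p =>
    eq_inv_of_mul_eq_one_left (by rw [← hemul, V5.inv_mul', heone])
  have hco : ∀ m n : N, e.symm (m * n) = V5.mul (e.symm m) (e.symm n) := fun m n => by
    apply e.injective; simp [hemul]
  have hcone : e.symm 1 = V5.one := by rw [← heone, Equiv.symm_apply_apply]
  -- the quotient map and the subgroup of index three
  let π : N →* DihedralGroup 3 := MonoidHom.mk' (fun n => V5.toD (e.symm n)) fun m n => by
    rw [hco, V5.toD_mul]
  have hlmul : ∀ p q : V5, q.l = 0 → (V5.mul p q).l = p.l := by decide +kernel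
  let M : Subgroup N :=
    { carrier := {n | (e.symm n).l = 0}
      one_mem' := by rw [Set.mem_setOf_eq, hcone]; rfl
      mul_mem' := fun {m n} hm hn => by
        rw [Set.mem_setOf_eq, hco, hlmul _ _ hn]; exact hm
      inv_mem' := fun {m} hm => by
        have h := hco m⁻¹ m
        rw [inv_mul_cancel, hcone] at h
        rw [Set.mem_setOf_eq] at hm ⊢
        rw [← hlmul (e.symm m⁻¹) _ hm, ← h]
        rfl }
  have himul : ∀ p q : V5, p.l = 0 → (V5.mul p q).i = p.i + q.i := by decide +kernel
  let lamH : M →* ℂˣ := MonoidHom.mk'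
    (fun m => (Units.mk0 zeta (fun h => by simpa [h] using zeta_cube)) ^ (e.symm (m : N)).i.val)
    fun m n => by
      rw [← pow_add, Subgroup.coe_mul, hco, himul _ _ m.2, ZMod.val_add]
      exact (pow_eq_pow_mod _ (Units.ext zeta_cube)).symm
  have hMcard : Nat.card M = 54 := by
    rw [Nat.card_congr (show M ≃ {p : V5 // p.l = 0} from
      (e.symm.subtypeEquiv fun n => Iff.rfl)), Nat.card_eq_fintype_card]
    decide +kernel
  haveI : Fintype M := Fintype.ofFinite M
  have hth : ∀ n : N, indFun M (fun m => (lamH m : ℂ)) n = ev (V5.th (e.symm n)) := by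
    intro n
    have hterm : ∀ g : N, extendByZero M (fun m => (lamH m : ℂ)) (g⁻¹ * n * g) =
        ev (V5.lam (V5.mul (V5.mul (V5.inv (e.symm g)) (e.symm n)) (e.symm g))) := by
      intro g
      have e1 : e.symm (g⁻¹ * n * g) = V5.mul (V5.mul (V5.inv (e.symm g)) (e.symm n)) (e.symm g) := by
        apply e.injective; simp [hemul, heinv]
      rw [← e1, V5.lam]
      by_cases hg : g⁻¹ * n * g ∈ M
      · rw [extendByZero_mem M _ hg, if_pos (show (e.symm (g⁻¹ * n * g)).l = 0 from hg), ev_root3]
        simp [lamH]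
      · rw [extendByZero_notMem M _ hg, if_neg (show ¬ (e.symm (g⁻¹ * n * g)).l = 0 from hg), ev_zero]
    simp only [indFun, hterm]
    rw [sum_equiv_ev e fun q => V5.lam (V5.mul (V5.mul (V5.inv q) (e.symm n)) q), V5.th_spec, hMcard]
    simp [ev]
    ring
  let fA : N → ℂ := fun n => ev (V5.fA (e.symm n))
  let fB : N → ℂ := fun n => ev (V5.fB (e.symm n))
  have hgA : IsGeneralizedCharacter N fA := by
    have : fA = fun n => (psiInt (π n) : ℂ) := funext fun n => by
      show ev (V5.fA (e.symm n)) = _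
      rw [V5.fA_psi, ev_int]
      rfl
    rw [this]
    exact isGeneralized_comp π psi_generalized
  have hgB : IsGeneralizedCharacter N fB := by
    have : fB = (fun _ => (1 : ℂ)) + (fun _ => (1 : ℂ)) + (fun n => (sgnHom (π n) : ℂ)) - fA -
        indFun M (fun m => (lamH m : ℂ)) := funext fun n => by
      simp only [Pi.add_apply, Pi.sub_apply, hth]
      show ev (V5.fB (e.symm n)) = _ + _ + (sgnHom (V5.toD (e.symm n)) : ℂ) - ev (V5.fA (e.symm n)) - _
      rw [V5.fB_spec, ev_sub, ev_sub, ev_int, V5.toD]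
      cases (e.symm n).s <;> simp [sgnHom_r, sgnHom_sr] <;> norm_num
    rw [this]
    exact isGeneralized_sub (isGeneralized_sub (isGeneralized_add (isGeneralized_add
      (isGeneralized_of_isCharacter isCharacter_one) (isGeneralized_of_isCharacter isCharacter_one))
      (isGeneralized_of_isCharacter (isCharacter_comp π (isCharacter_monoidHom sgnHom)))) hgA)
      (isGeneralized_indFun M (isGeneralized_of_isCharacter (isCharacter_monoidHom lamH)))
  have hthree : ∀ p, V5.hasThree p → (e p : Y) ∈ sing N := by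
    intro p hp
    have h3 : ∀ q, V5.mul q (V5.mul q q) = V5.one → q ≠ V5.one → orderOf ((e q : N) : Y) = 3 := by
      intro q h1 h2
      rw [Subgroup.orderOf_coe]
      refine orderOf_eq_three ?_ fun h => h2 (e.injective (h.trans heone.symm))
      rw [pow_succ', pow_two, ← hemul, ← hemul, h1, heone]
    rcases hp with ⟨h1, h2⟩ | ⟨h1, h2⟩ | ⟨h1, h2⟩
    · exact ⟨(e p).2, 1, by rw [pow_one]; exact h3 _ h1 h2⟩
    · refine ⟨(e p).2, 2, ?_⟩
      have := h3 _ h1 h2
      rwa [hemul, Subgroup.coe_mul, ← pow_two] at this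
    · refine ⟨(e p).2, 3, ?_⟩
      have := h3 _ h1 h2
      rwa [hemul, hemul, Subgroup.coe_mul, Subgroup.coe_mul, ← pow_two, ← pow_succ'] at this
  have hsA : ∀ n : N, (n : Y) ∉ sing N → fA n = 0 := fun n hn => by
    by_contra h
    refine hn ?_
    have := hthree _ (V5.supp_spec (e.symm n) (Or.inl fun h0 => h (by
      show ev (V5.fA (e.symm n)) = 0
      rw [h0, ev_zero])))
    rwa [Equiv.apply_symm_apply] at this
  have hsB : ∀ n : N, (n : Y) ∉ sing N → fB n = 0 := fun n hn => by
    by_contra h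
    refine hn ?_
    have := hthree _ (V5.supp_spec (e.symm n) (Or.inr fun h0 => h (by
      show ev (V5.fB (e.symm n)) = 0
      rw [h0, ev_zero])))
    rwa [Equiv.apply_symm_apply] at this
  have h1A : fA 1 = 0 := by show ev _ = 0; rw [hcone, V5.fA_one, ev_zero]
  have h1B : fB 1 = 0 := by show ev _ = 0; rw [hcone, V5.fB_one, ev_zero]
  obtain ⟨T⟩ := exists_three hS hgA hsA h1A
    (classInner_equiv e V5.fA V5.fA (r := 3) (by rw [V5.card_eq]; exact V5.norm_fA))
    ((classInner_equiv_one e V5.fA (r := 1) (by rw [V5.card_eq]; exact V5.sum_fA)).trans Int.cast_one)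
  obtain ⟨U⟩ := exists_three hS hgB hsB h1B
    (classInner_equiv e V5.fB V5.fB (r := 3) (by rw [V5.card_eq]; exact V5.norm_fB))
    ((classInner_equiv_one e V5.fB (r := 1) (by rw [V5.card_eq]; exact V5.sum_fB)).trans Int.cast_one)
  have hinner : ∑ χ ∈ supp T.c ∩ supp U.c, T.c χ * U.c χ = -1 := by
    have := T.inner U hS hgB hsA hsB h1A (r := 0)
      (classInner_equiv e V5.fA V5.fB (r := 0) (by rw [V5.card_eq]; exact V5.inner_AB))
    linarith
  obtain ⟨B, hB, hBc⟩ := card_inter_eq_one T U (Or.inr rfl) hinner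
  have hBT : B ∈ supp T.c := (Finset.mem_inter.mp (hB ▸ Finset.mem_singleton_self B)).1
  have hBU : B ∈ supp U.c := (Finset.mem_inter.mp (hB ▸ Finset.mem_singleton_self B)).2
  obtain ⟨A, hA⟩ := Finset.card_eq_one.mp
    (show ((supp T.c).erase B).card = 1 by rw [Finset.card_erase_of_mem hBT, T.card])
  obtain ⟨C, hC⟩ := Finset.card_eq_one.mp
    (show ((supp U.c).erase B).card = 1 by rw [Finset.card_erase_of_mem hBU, U.card])
  have hAT : A ∈ supp T.c := Finset.mem_of_mem_erase (hA ▸ Finset.mem_singleton_self A)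
  have hCU : C ∈ supp U.c := Finset.mem_of_mem_erase (hC ▸ Finset.mem_singleton_self C)
  have twoT : ∀ F : IrrCharacter Y → ℂ, ∑ χ ∈ supp T.c, F χ = F B + F A := fun F => by
    rw [← Finset.add_sum_erase _ _ hBT, hA, Finset.sum_singleton]
  have twoU : ∀ F : IrrCharacter Y → ℂ, ∑ χ ∈ supp U.c, F χ = F B + F C := fun F => by
    rw [← Finset.add_sum_erase _ _ hBU, hC, Finset.sum_singleton]
  -- the involution
  let jn : N := ⟨j, hmem j (by simp)⟩
  have hej : e.symm jn = ⟨0, 0, 0, 0, true⟩ := by
    apply e.injective; apply Subtype.ext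
    simp [he, f, E, pw_zero, jn]
  have hjoff : ∀ y : Y, y * j * y⁻¹ ∉ sing N := by
    rintro y ⟨-, k, hk⟩
    have h2 : ((y * j * y⁻¹) ^ k) ^ 2 = 1 := by
      rw [← pow_mul, mul_comm, pow_mul, conj_pow, hj, mul_one, mul_inv_cancel, one_pow]
    have := orderOf_dvd_of_pow_eq_one h2
    rw [hk] at this
    norm_num at this
  have hj1 : j ≠ 1 := fun h => by
    have : e.symm jn = e.symm 1 := congrArg e.symm (Subtype.ext h)
    rw [hej, hcone] at this
    exact absurd this (by decide)
  let I : Finset N := V5.invol.map e.toEmbedding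
  have hI : ∀ u : N, u ∈ I ↔ IsConj j (u : Y) := by
    intro u
    simp only [I, Finset.mem_map_equiv]
    constructor
    · intro hu
      obtain ⟨q, hq⟩ := V5.invol_conj _ hu
      refine isConj_iff.mpr ⟨e q, ?_⟩
      have := congrArg (fun p => (e p : Y)) hq
      simp only [hemul, Subgroup.coe_mul, Equiv.apply_symm_apply] at this
      rw [← hej, Equiv.apply_symm_apply] at this
      rw [this, mul_inv_cancel_right]
    · intro hu
      obtain ⟨g, hg⟩ := isConj_iff.mp hu
      simp only [V5.invol, Finset.mem_filter, Finset.mem_univ, true_and]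
      constructor
      · apply e.injective
        rw [hemul, heone, Equiv.apply_symm_apply]
        apply Subtype.ext
        rw [Subgroup.coe_mul, ← hg, ← pow_two, conj_pow, hj, mul_one, mul_inv_cancel]
        rfl
      · intro h
        have h1 : u = 1 := by rw [← e.apply_symm_apply u, h, heone]
        rw [h1] at hg
        exact hj1 (conj_eq_one_iff.mp hg)
  have hin : ∀ φ : N → ℂ, (∀ n : N, (n : Y) ∉ sing N → φ n = 0) → ∀ n : N, φ n ≠ 0 →
      ∀ u v : Y, IsConj j u → IsConj j v → u * v = n → u ∈ N := by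
    intro φ hφ n hn u v hu hv huv
    have hsq : ∀ w, IsConj j w → w * w = 1 := fun w hw => by
      obtain ⟨g, rfl⟩ := isConj_iff.mp hw
      rw [← pow_two, conj_pow, hj, mul_one, mul_inv_cancel]
    refine mem_of_pair hS (hsq u hu) (hsq v hv) ?_
    rw [huv]
    by_contra h
    exact hn (hφ n h)
  have hpair : ∀ F : V5 → ℤ × ℤ, ∑ u ∈ I, ∑ v ∈ I, ev (F (e.symm (u * v))) =
      ev (∑ p ∈ V5.invol, ∑ q ∈ V5.invol, F (V5.mul p q)) := fun F => by
    simp only [I, Finset.sum_map, ev_sum, hco, Equiv.toEmbedding_apply, Equiv.symm_apply_apply]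
  have eA := T.pair_count j (hin fA hsA) I hI
  have eB := U.pair_count j (hin fB hsB) I hI
  rw [hpair V5.fA, V5.pair_A, twoT] at eA
  rw [hpair V5.fB, V5.pair_B, twoU] at eB
  have d1 := T.at_one h1A
  have d2 := U.at_one h1B
  have v1 := T.at_off hsA j hjoff
  have v2 := U.at_off hsB j hjoff
  rw [twoT] at d1 v1
  rw [twoU] at d2 v2
  rw [sgn_div (T.sq B hBT), sgn_div (T.sq A hAT)] at eA
  rw [sgn_div (U.sq B hBU), sgn_div (U.sq C hCU)] at eB
  rw [hBc] at eB d2 v2
  push_cast at eA eB d2 v2
  set X : ℂ := (T.c B : ℂ) * (B : Y → ℂ) 1 with hX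
  set W : ℂ := (T.c B : ℂ) * (B : Y → ℂ) j with hW
  set K : ℂ := ((Subgroup.centralizer ({j} : Set Y)).index : ℂ) ^ 2 / (Nat.card Y : ℂ) *
    (Nat.card N : ℂ) with hK
  rw [ev_int] at eA eB
  push_cast at eA eB
  have a1 : (T.c A : ℂ) * (A : Y → ℂ) 1 = -1 - X := by linear_combination d1
  have a2 : (T.c A : ℂ) * (A : Y → ℂ) j = -1 - W := by linear_combination v1
  have c1 : (U.c C : ℂ) * (C : Y → ℂ) 1 = X - 1 := by linear_combination d2
  have c2 : (U.c C : ℂ) * (C : Y → ℂ) j = W - 1 := by linear_combination v2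
  have hne : ∀ (c : IrrCharacter Y → ℤ) (χ : IrrCharacter Y), c χ ^ 2 = 1 →
      (c χ : ℂ) * (χ : Y → ℂ) 1 ≠ 0 := fun c χ h => mul_ne_zero (by
    rcases sq_eq_one_iff.mp h with e | e <;> rw [e] <;> norm_num) (irr_degree_ne_zero χ.2)
  have hX0 : X ≠ 0 := hne _ B (T.sq B hBT)
  have hA0 : -1 - X ≠ 0 := a1 ▸ hne _ A (T.sq A hAT)
  have hC0 : X - 1 ≠ 0 := c1 ▸ hne _ C (U.sq C hCU)
  simp only [a1, a2] at eA
  rw [c1, c2] at eB
  simp only [neg_one_mul, neg_mul, one_mul] at eB
  rw [← hW, ← hX] at eB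
  have e1 : K * (-(X - W) ^ 2) = 1458 * (X * (-1 - X)) := by
    field_simp at eA
    linear_combination eA
  have e2 : K * (X - W) ^ 2 = 486 * (X * (X - 1)) := by
    field_simp at eB
    linear_combination eB
  have hXval : X = -2 := by
    have h : X * (X + 2) = 0 := by linear_combination (1 / 972 : ℂ) * (e1 + e2)
    rcases mul_eq_zero.mp h with h | h
    · exact absurd h hX0
    · linear_combination h
  have hWX : W ≠ -2 := by
    intro h
    rw [hXval, h] at e2
    norm_num at e2
  -- the linear character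
  obtain ⟨d, hd0, hd⟩ := exists_nat_degree_irr A.2
  have hA1 : (A : Y → ℂ) 1 = 1 ∧ T.c A = 1 := by
    rw [hXval, hd] at a1
    have h : T.c A * (d : ℤ) = 1 := by
      have : ((T.c A * (d : ℤ) : ℤ) : ℂ) = 1 := by push_cast; linear_combination a1
      exact_mod_cast this
    rcases sq_eq_one_iff.mp (T.sq A hAT) with e | e <;> rw [e] at h
    · exact ⟨by rw [hd, show d = 1 by omega, Nat.cast_one], e⟩
    · omega
  have hAj : (A : Y → ℂ) j ≠ 1 := by
    intro h
    rw [hA1.2, h] at a2
    exact hWX (by push_cast at a2; linear_combination a2)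
  let φ := linearHom (isCharacter_of_isIrr A.2) hA1.1
  have hφj : φ j ≠ 1 := fun h => hAj (by
    have := congrArg (fun u : ℂˣ => (u : ℂ)) h
    simpa [φ, linearHom_apply] using this)
  have hflip : ∀ u : Y, u ^ 3 = 1 → j * u * j⁻¹ = u⁻¹ → φ u = 1 := by
    intro u hu h
    have h1 := congrArg φ h
    rw [map_mul, map_mul, map_inv, map_inv, mul_comm (φ j) (φ u), mul_inv_cancel_right] at h1
    have h2 : φ u ^ 3 = 1 := by rw [← map_pow, hu, map_one]
    calc φ u = φ u ^ 3 * (φ u * φ u)⁻¹ := by
          rw [pow_succ, pow_two, mul_comm (φ u * φ u) (φ u), mul_inv_cancel_right]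
      _ = 1 := by rw [h2, one_mul, inv_eq_one]; exact mul_eq_one_iff_eq_inv.mpr h1
  have hφb := hflip b hb hjb
  have hφc := hflip c hc hjc
  have hφx := hflip x hx hjx
  have hφa : φ a = 1 := by
    have h1 := congrArg φ hxb
    simp only [map_mul, map_inv, map_pow, hφb, hφc, hφx, one_mul, one_pow, mul_one, inv_one] at h1
    exact h1.symm
  have hfs : ∀ p : V5, (e p : Y) ∈ φ.ker → p.s = false := by
    intro p hp
    by_contra hs
    rw [MonoidHom.mem_ker, he] at hp
    have hs' : p.s = true := by simpa using hs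
    simp only [f, E, pw, hs', if_true, map_mul, map_pow, hφa, hφb, hφc, hφx, one_pow, one_mul] at hp
    exact hφj hp
  have h3 : IsPGroup 3 (φ.ker ⊓ N : Subgroup Y) := by
    intro n
    have hn : ((⟨(n : Y), n.2.2⟩ : N) : Y) ∈ φ.ker := n.2.1
    set q := e.symm ⟨(n : Y), n.2.2⟩ with hq
    have hqs := hfs q (by rw [hq, Equiv.apply_symm_apply]; exact hn)
    have hnine : ∀ p : V5, p.s = false →
        V5.mul (V5.mul p (V5.mul p p)) (V5.mul (V5.mul p (V5.mul p p)) (V5.mul p (V5.mul p p))) = V5.one := by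
      decide +kernel
    have h9 := congrArg (fun p => (e p : Y)) (hnine q hqs)
    simp only [hemul, heone, Subgroup.coe_mul, hq, Equiv.apply_symm_apply, Subgroup.coe_one] at h9
    refine ⟨2, Subtype.ext ?_⟩
    rw [Subgroup.coe_pow, Subgroup.coe_one, ← h9, show (3 : ℕ) ^ 2 = 9 from rfl]
    simp only [pow_succ, pow_zero, one_mul, mul_assoc]
  have hne' : ∀ p q : V5, p ≠ q → (e p : Y) ≠ e q := fun p q h h' => h (e.injective (Subtype.ext h'))
  have hfb : ((e ⟨0, 1, 0, 0, false⟩ : N) : Y) = b := by simp [he, f, E, pw_zero, pw_one]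
  have hfa : ((e ⟨1, 0, 0, 0, false⟩ : N) : Y) = a := by simp [he, f, E, pw_zero, pw_one]
  have hfc : ((e ⟨0, 0, 1, 0, false⟩ : N) : Y) = c := by simp [he, f, E, pw_zero, pw_one]
  refine close_up (K := φ.ker) hS h3 ⟨hφc, hmem c (by simp)⟩ ⟨hφa, hmem a (by simp)⟩ hc ha hac.symm ?_ ?_
  · intro h
    exact hne' ⟨0, 0, 1, 0, false⟩ V5.one (by decide) (by rw [hfc, heone, h]; rfl)
  · intro h
    obtain ⟨k, hk⟩ := h
    have h3c : orderOf c = 3 := orderOf_eq_three hc
      (fun h => hne' ⟨0, 0, 1, 0, false⟩ V5.one (by decide) (by rw [hfc, heone, h]; rfl))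
    have hk' : c ^ k = c ^ ((k % 3).toNat) := by
      rw [← zpow_natCast, Int.toNat_of_nonneg (Int.emod_nonneg _ (by norm_num)),
        ← zpow_mod_orderOf c k, h3c]
      rfl
    have hk2 : a = pw c (((k % 3).toNat : ℕ) : ZMod 3) := by
      rw [pw, ZMod.val_natCast, ← pow_eq_pow_mod _ hc, ← hk']
      exact hk.symm
    refine hne' ⟨1, 0, 0, 0, false⟩ ⟨0, 0, (((k % 3).toNat : ℕ) : ZMod 3), 0, false⟩ (by simp) ?_
    rw [hfa, he, hk2]
    simp [f, E, pw_zero]

end CfsgLib.LFourThree.SmallC
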