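import Mathlib

/-!
A four-dimensional symplectic module for `SL(2,3)` over three elements on which `-1` is inversion: an element of
order three acts quadratically, and a totally isotropic plane met by the module data is invariant.
-/

set_option autoImplicit false
set_option linter.unusedSectionVars false
set_option linter.style.haveILetI false

namespace CfsgLib.LFourThree

/-- `SL(2,3)`. -/
abbrev S2 : Type := Matrix.SpecialLinearGroup (Fin 2) (ZMod 3)

/-- An element of order three. -/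
def pE : S2 := ⟨!![1, 1; 0, 1], by decide +kernel⟩

/-- The Weyl element. -/
def sE : S2 := ⟨!![0, 1; -1, 0], by decide +kernel⟩

/-- The opposite element of order three. -/
def qE : S2 := sE * pE * sE⁻¹

theorem s2_rels : pE * qE * pE = sE ∧ sE * sE = -1 ∧ pE ^ 3 = 1 ∧ qE ^ 3 = 1 := by decide +kernel

theorem s2_cases : ∀ g : S2, g = 1 ∨ g ^ 2 = -1 ∨ g ^ 3 = -1 ∨ g = -1 ∨ g = pE ∨ g = pE * pE ∨
    (∃ i : Fin 3, g = pE ^ i.val * qE * (pE ^ i.val)⁻¹ ∨ g = pE ^ i.val * (qE * qE) * (pE ^ i.val)⁻¹) := by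
  decide +kernel

theorem s2_gen : ∀ g : S2, g ∈ [1, sE, sE * sE, sE * sE * sE, pE, pE * pE, sE * pE, pE * sE, qE, qE * qE] ∨
    ∃ a ∈ [1, sE, sE * sE, sE * sE * sE, pE, pE * pE, sE * pE, pE * sE, qE, qE * qE],
      ∃ b ∈ [1, sE, sE * sE, sE * sE * sE, pE, pE * pE, sE * pE, pE * sE, qE, qE * qE], g = a * b := by
  decide +kernel

set_option maxHeartbeats 1600000 in
theorem closure_ps : Subgroup.closure ({pE, sE} : Set S2) = ⊤ := by
  rw [eq_top_iff]
  intro g _
  have hp : pE ∈ Subgroup.closure ({pE, sE} : Set S2) := Subgroup.subset_closure (by simp)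
  have hs : sE ∈ Subgroup.closure ({pE, sE} : Set S2) := Subgroup.subset_closure (by simp)
  have hq : qE ∈ Subgroup.closure ({pE, sE} : Set S2) :=
    Subgroup.mul_mem _ (Subgroup.mul_mem _ hs hp) (Subgroup.inv_mem _ hs)
  have hl : ∀ a ∈ [1, sE, sE * sE, sE * sE * sE, pE, pE * pE, sE * pE, pE * sE, qE, qE * qE],
      a ∈ Subgroup.closure ({pE, sE} : Set S2) := by
    intro a ha
    simp only [List.mem_cons, List.not_mem_nil, or_false] at ha
    rcases ha with e | e | e | e | e | e | e | e | e | e <;> rw [e]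
    exacts [one_mem _, hs, mul_mem hs hs, mul_mem (mul_mem hs hs) hs, hp, mul_mem hp hp, mul_mem hs hp,
      mul_mem hp hs, hq, mul_mem hq hq]
  rcases s2_gen g with h | ⟨a, ha, b, hb, rfl⟩
  · exact hl g h
  · exact mul_mem (hl a ha) (hl b hb)

variable {V : Type*} [AddCommGroup V]

/-- The module. -/
structure Symp (ρ : S2 → V →+ V) (B : V →+ V →+ ZMod 3) : Prop where
  card : Nat.card V = 81
  three : ∀ v : V, v + v + v = 0
  one : ∀ v, ρ 1 v = v
  mul : ∀ g h v, ρ (g * h) v = ρ g (ρ h v)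
  neg : ∀ v, ρ (-1) v = -v
  inv : ∀ g u v, B (ρ g u) (ρ g v) = B u v
  skew : ∀ u v, B u v = -B v u
  nondeg : ∀ u, (∀ v, B u v = 0) → u = 0

namespace Symp

variable [Finite V] {ρ : S2 → V →+ V} {B : V →+ V →+ ZMod 3} (S : Symp ρ B)
include S

theorem self_eq (u : V) : B u u = 0 := by
  have h := S.skew u u
  revert h
  generalize B u u = c
  revert c
  decide

theorem eq_zero_of_neg {v : V} (h : v = -v) : v = 0 := by
  have h2 : v + v = 0 := by
    nth_rewrite 2 [h]
    exact add_neg_cancel v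
  calc v = (v + v + v) - (v + v) := by abel
    _ = 0 := by rw [S.three, h2, sub_zero]

theorem inj (g : S2) : Function.Injective (ρ g) := fun u v h => by
  have := congrArg (ρ g⁻¹) h
  rwa [← S.mul, ← S.mul, inv_mul_cancel, S.one, S.one] at this

omit [Finite V] in
theorem inv_apply (g : S2) (v : V) : ρ g⁻¹ (ρ g v) = v := by rw [← S.mul, inv_mul_cancel, S.one]

/-- The displacement by the element of order three. -/
theorem cube_zero (v : V) :
    (ρ pE (ρ pE (ρ pE v) - ρ pE v) - (ρ pE (ρ pE v) - ρ pE v)) -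
      ((ρ pE (ρ pE v) - ρ pE v) - (ρ pE v - v)) = 0 := by
  have h3 : ρ pE (ρ pE (ρ pE v)) = v := by
    rw [← S.mul, ← S.mul, show pE * pE * pE = 1 by decide +kernel, S.one]
  rw [map_sub, h3]
  calc v - ρ pE (ρ pE v) - (ρ pE (ρ pE v) - ρ pE v) - (ρ pE (ρ pE v) - ρ pE v - (ρ pE v - v))
      = (ρ pE v + ρ pE v + ρ pE v) - (ρ pE (ρ pE v) + ρ pE (ρ pE v) + ρ pE (ρ pE v)) := by abel
    _ = 0 := by rw [S.three, S.three, sub_zero]

/-- The action of an element of order three is quadratic. -/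
theorem quad (v : V) : ρ pE (ρ pE v - v) = ρ pE v - v := by
  classical
  let N : V →+ V := ρ pE - AddMonoidHom.id V
  have hN : ∀ x, N x = ρ pE x - x := fun _ => rfl
  let M : V →+ V := N.comp N
  suffices hM : ∀ x, M x = 0 by
    have := hM v
    simp only [M, AddMonoidHom.comp_apply, hN] at this
    exact sub_eq_zero.1 this
  have hN3 : ∀ x, N (M x) = 0 := fun x => by
    simp only [M, AddMonoidHom.comp_apply, hN]
    rw [← S.cube_zero x]
    simp only [map_sub]
  -- the pairing with the square is alternating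
  have hadj : ∀ x y, B (N x) y = B x (ρ pE⁻¹ y - y) := fun x y => by
    rw [hN, map_sub, AddMonoidHom.sub_apply, map_sub]
    congr 1
    calc B (ρ pE x) y = B (ρ pE x) (ρ pE (ρ pE⁻¹ y)) := by rw [← S.mul, mul_inv_cancel, S.one]
      _ = _ := S.inv _ _ _
  have halt : ∀ x y, B (M x) y = B x (M y) := fun x y => by
    have e : ρ pE⁻¹ (ρ pE⁻¹ y - y) - (ρ pE⁻¹ y - y) = M y := by
      simp only [M, AddMonoidHom.comp_apply, hN, map_sub]
      have h1 : ∀ u, ρ pE⁻¹ u = ρ pE (ρ pE u) := fun u => by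
        rw [← S.mul, show pE⁻¹ = pE * pE by decide +kernel]
      have h3 : ∀ u, ρ pE (ρ pE (ρ pE u)) = u := fun u => by
        rw [← S.mul, ← S.mul, show pE * pE * pE = 1 by decide +kernel, S.one]
      simp only [h1, h3]
      calc ρ pE y - ρ pE (ρ pE y) - (ρ pE (ρ pE y) - y)
          = (ρ pE (ρ pE y) - ρ pE y - (ρ pE y - y)) +
            ((ρ pE y + ρ pE y + ρ pE y) - (ρ pE (ρ pE y) + ρ pE (ρ pE y) + ρ pE (ρ pE y))) := by abel
        _ = _ := by rw [S.three, S.three, sub_zero, add_zero]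
    show B (N (N x)) y = _
    rw [hadj, hadj, e]
  have hself : ∀ x, B (M x) x = 0 := fun x => by
    have h := (halt x x).trans (S.skew x (M x))
    revert h
    generalize B (M x) x = c
    revert c
    decide
  have hMN : M.range ≤ N.range := fun _ ⟨x, e⟩ => ⟨N x, e⟩
  have hNM : N.range ≤ M.ker := fun _ ⟨x, e⟩ => by
    rw [← e, AddMonoidHom.mem_ker]
    exact hN3 x
  intro x
  by_contra hx
  have hkM := AddSubgroup.card_eq_card_quotient_mul_card_addSubgroup M.ker
  rw [Nat.card_congr (QuotientAddGroup.quotientKerEquivRange M).toEquiv, S.card] at hkM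
  have hdiv : Nat.card M.range ∣ 3 ^ 4 := ⟨_, hkM⟩
  obtain ⟨k, hk, hkc⟩ := (Nat.dvd_prime_pow Nat.prime_three).1 hdiv
  rcases Nat.lt_or_ge k 2 with hk2 | hk2
  · -- the square has rank one
    have hne : M.range ≠ ⊥ := fun h => hx (by
      have : M x ∈ M.range := ⟨x, rfl⟩
      rwa [h, AddSubgroup.mem_bot] at this)
    have hk1 : k = 1 := by
      rcases (by omega : k = 0 ∨ k = 1) with h | h
      · exfalso
        subst h
        exact hne (AddSubgroup.card_eq_one.1 (by rw [hkc, pow_zero]))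
      · exact h
    subst hk1
    rw [pow_one] at hkc
    haveI : Fact (Nat.Prime 3) := ⟨Nat.prime_three⟩
    have hz : AddSubgroup.zmultiples (M x) = M.range := by
      refine AddSubgroup.eq_of_le_of_card_ge ((AddSubgroup.zmultiples_le).2 ⟨x, rfl⟩) ?_
      rw [hkc, Nat.card_zmultiples, addOrderOf_eq_prime (by rw [succ_nsmul, two_nsmul, S.three]) hx]
    refine hx (S.nondeg _ fun y => ?_)
    obtain ⟨n, hn⟩ := AddSubgroup.mem_zmultiples_iff.1 (show M y ∈ AddSubgroup.zmultiples (M x) from hz ▸ ⟨y, rfl⟩)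
    have hxx : B x (M x) = 0 := by rw [S.skew, hself, neg_zero]
    rw [halt, ← hn, map_zsmul, hxx, smul_zero]
  · -- otherwise the kernel is too small
    have h9 : 9 ≤ Nat.card M.range := by
      rw [hkc]; exact le_trans (by norm_num) (Nat.pow_le_pow_right (by norm_num) hk2)
    have hNr : Nat.card N.range ≤ 9 := by
      have := AddSubgroup.card_le_of_le hNM
      nlinarith
    have heq : M.range = N.range := AddSubgroup.eq_of_le_of_card_ge hMN (hNr.trans h9)
    have hN0 : ∀ u, N (N u) = 0 := fun u => by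
      have : N u ∈ M.range := heq ▸ ⟨u, rfl⟩
      obtain ⟨u', e⟩ := this
      rw [← e]
      exact hN3 u'
    exact hx (hN0 x)

theorem s_sq (v : V) : ρ sE (ρ sE v) = -v := by rw [← S.mul, s2_rels.2.1, S.neg]

theorem fix_inter {f : V} (hf : ρ pE f = f) (hs : ρ pE (ρ sE f) = ρ sE f) : f = 0 := by
  have hq : ρ qE (ρ sE f) = ρ sE f := by
    rw [qE, S.mul, S.inv_apply, S.mul, hf]
  have h1 : ρ sE (ρ sE f) = ρ sE f := by
    calc ρ sE (ρ sE f) = ρ (pE * qE * pE) (ρ sE f) := by rw [s2_rels.1]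
      _ = ρ sE f := by rw [S.mul, S.mul, hs, hq, hs]
  rw [S.s_sq] at h1
  have h2 : ρ sE (ρ sE f) = -ρ sE f := by rw [← map_neg, h1]
  rw [S.s_sq, neg_inj] at h2
  exact S.eq_zero_of_neg (h2.trans h1.symm)

theorem shift {f : V} (hf : ρ pE f = f) : ρ pE (ρ sE f) = ρ sE f - f := by
  set g : V := ρ pE (ρ sE f) - ρ sE f with hg
  have hgF : ρ pE g = g := S.quad _
  have hinv : ρ sE⁻¹ f = -ρ sE f := by
    refine S.inj sE ?_
    rw [← S.mul, mul_inv_cancel, S.one, map_neg, S.s_sq, neg_neg]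
  have hq : ρ qE f = f - ρ sE g := by
    rw [qE, S.mul, S.mul, hinv, map_neg, map_neg, show ρ pE (ρ sE f) = ρ sE f + g by rw [hg]; abel,
      map_add, S.s_sq]
    abel
  have h := congrArg (fun a => ρ a f) s2_rels.1
  simp only [S.mul, hf, hq, map_sub] at h
  set k : V := ρ pE (ρ sE g) - ρ sE g with hk
  have hkF : ρ pE k = k := S.quad _
  have e : f - k = ρ sE (f + g) := by
    rw [map_add, ← h, hk]; abel
  have h0 : f + g = 0 := S.fix_inter (by rw [map_add, hf, hgF]) (by rw [← e, map_sub, hf, hkF])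
  rw [eq_neg_of_add_eq_zero_right h0] at hg
  rw [sub_eq_add_neg, hg]
  abel

theorem decompose (v : V) : ∃ f g, ρ pE f = f ∧ ρ pE g = g ∧ v = f + ρ sE g ∧ g = -(ρ pE v - v) := by
  refine ⟨v - ρ sE (-(ρ pE v - v)), -(ρ pE v - v), ?_, ?_, (sub_add_cancel _ _).symm, rfl⟩
  · rw [map_sub, S.shift (by rw [map_neg, S.quad])]
    abel
  · rw [map_neg, S.quad]

theorem iso_fix {f g : V} (hf : ρ pE f = f) (hg : ρ pE g = g) : B f g = 0 := by
  have h := S.inv pE (ρ sE f) g
  rwa [S.shift hf, hg, map_sub, AddMonoidHom.sub_apply, sub_eq_self] at h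

theorem iso_s {f g : V} (hf : ρ pE f = f) (hg : ρ pE g = g) : B (ρ sE f) (ρ sE g) = 0 := by
  rw [S.inv]; exact S.iso_fix hf hg

theorem pair_symm (f g : V) : B f (ρ sE g) = B g (ρ sE f) := by
  rw [← S.inv sE, S.s_sq, map_neg, S.skew (ρ sE f), neg_neg]

theorem nsmul_mod (a : ℕ) (v : V) : a • v = (a % 3) • v := by
  conv_lhs => rw [← Nat.mod_add_div a 3]
  rw [add_nsmul, mul_nsmul, show (3 : ℕ) • v = 0 by rw [succ_nsmul, two_nsmul, S.three], nsmul_zero, add_zero]

/-- The fixed points have order nine. -/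
theorem card_fix : Nat.card {f : V // ρ pE f = f} = 9 := by
  have e : Function.Bijective (fun x : {f : V // ρ pE f = f} × {f : V // ρ pE f = f} =>
      (x.1 : V) + ρ sE x.2) := by
    constructor
    · rintro ⟨⟨f, hf⟩, ⟨g, hg⟩⟩ ⟨⟨f', hf'⟩, ⟨g', hg'⟩⟩ h
      have h' : f - f' = ρ sE (g' - g) := by
        simp only at h; rw [map_sub, sub_eq_sub_iff_add_eq_add, h]; abel
      have h0 : g' - g = 0 :=
        S.fix_inter (by rw [map_sub, hg, hg']) (by rw [← h', map_sub, hf, hf'])
      rw [h0, map_zero, sub_eq_zero] at h'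
      rw [sub_eq_zero] at h0
      subst h'; subst h0; rfl
    · intro v
      obtain ⟨f, g, hf, hg, e, -⟩ := S.decompose v
      exact ⟨(⟨f, hf⟩, ⟨g, hg⟩), e.symm⟩
  have h := Nat.card_congr (Equiv.ofBijective _ e)
  rw [Nat.card_prod, S.card] at h
  nlinarith

theorem span {w u : V} (hw : ρ pE w = w) (hu : ρ pE u = u) (hww : B w (ρ sE w) = 0)
    (huw : B u (ρ sE w) ≠ 0) {x : V} (hx : ρ pE x = x) : ∃ i j : Fin 3, x = i.val • w + j.val • u := by
  classical
  let Φ : Fin 3 × Fin 3 → {f : V // ρ pE f = f} := fun ij =>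
    ⟨ij.1.val • w + ij.2.val • u, by rw [map_add, map_nsmul, map_nsmul, hw, hu]⟩
  have hinj : Function.Injective Φ := by
    rintro ⟨i, j⟩ ⟨i', j'⟩ h
    have h' : i.val • w + j.val • u = i'.val • w + j'.val • u := congrArg Subtype.val h
    have e1 := congrArg (fun v => B v (ρ sE w)) h'
    have e2 := congrArg (fun v => B v (ρ sE u)) h'
    simp only [map_add, map_nsmul, AddMonoidHom.add_apply, AddMonoidHom.nsmul_apply, hww, smul_zero,
      zero_add, nsmul_eq_mul] at e1 e2
    rw [S.pair_symm w u] at e2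
    have key : ∀ (i j i' j' : Fin 3) (a b : ZMod 3), a ≠ 0 → (j.val : ZMod 3) * a = (j'.val : ZMod 3) * a →
        (i.val : ZMod 3) * a + (j.val : ZMod 3) * b = (i'.val : ZMod 3) * a + (j'.val : ZMod 3) * b →
        i = i' ∧ j = j' := by decide
    obtain ⟨rfl, rfl⟩ := key i j i' j' _ _ huw e1 e2
    rfl
  haveI := Fintype.ofFinite {f : V // ρ pE f = f}
  have hb := hinj.bijective_of_nat_card_le (by rw [S.card_fix, Nat.card_eq_fintype_card]; simp)
  obtain ⟨⟨i, j⟩, h⟩ := hb.2 ⟨x, hx⟩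
  exact ⟨i, j, (congrArg Subtype.val h).symm⟩

theorem exists_partner {w : V} (hw : ρ pE w = w) (hw0 : w ≠ 0) :
    ∃ u, ρ pE u = u ∧ B u (ρ sE w) ≠ 0 := by
  by_contra h
  push Not at h
  refine hw0 (S.nondeg w fun v => ?_)
  obtain ⟨f, g, hf, hg, rfl, -⟩ := S.decompose v
  rw [map_add, S.iso_fix hw hf, zero_add, S.pair_symm]
  exact h g hg

theorem fix_q {g : S2} {x : V} (hg : g = qE ∨ g = qE * qE) (hx : ρ g x = x) :
    ∃ u, ρ pE u = u ∧ x = ρ sE u := by
  have hq : ρ qE x = x := by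
    rcases hg with rfl | rfl
    · exact hx
    · calc ρ qE x = ρ qE (ρ (qE * qE) x) := by rw [hx]
        _ = x := by rw [← S.mul, show qE * (qE * qE) = 1 by decide +kernel, S.one]
  refine ⟨ρ sE⁻¹ x, ?_, by rw [← S.mul, mul_inv_cancel, S.one]⟩
  refine S.inj sE ?_
  rw [← S.mul sE sE⁻¹, mul_inv_cancel, S.one]
  rwa [qE, S.mul, S.mul] at hq

/-- The plane of the two data vectors is invariant. -/
theorem plane {w y : V} (hw : ρ pE w = w) (hw0 : w ≠ 0) (hy : ρ pE y - y = w ∨ ρ pE y - y = -w)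
    (hB : B w y = 0) (h : V →+ V) (hh : ∀ u v, B (h u) (h v) = -B u v) (hhw : h w = -w) (hhy : h y = y)
    (hp : ∀ v, h (ρ pE v) = ρ pE (ρ pE (h v))) (hq : ∃ g, ∀ v, h (ρ qE v) = ρ g (h v)) :
    B w (ρ sE w) = 0 ∧ ∃ i j : Fin 3, j ≠ 0 ∧ y = i.val • w + j.val • ρ sE w := by
  obtain ⟨f, g, hf, hg, hyfg, hgy⟩ := S.decompose y
  have hgw : g = w ∨ g = -w := by
    rcases hy with e | e <;> rw [e] at hgy
    · exact Or.inr hgy
    · exact Or.inl (hgy.trans (neg_neg w))
  have hBw : B w (ρ sE w) = 0 := by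
    rw [hyfg, map_add, S.iso_fix hw hf, zero_add] at hB
    rcases hgw with rfl | rfl
    · exact hB
    · simpa using hB
  refine ⟨hBw, ?_⟩
  have hinj : ∀ u, h u = 0 → u = 0 := fun u hu => S.nondeg u fun v => by
    have e := hh u v
    rw [hu, map_zero, AddMonoidHom.zero_apply] at e
    exact neg_eq_zero.1 e.symm
  obtain ⟨g0, hg0⟩ := hq
  have hfix : ∀ u, ρ pE u = u → ρ g0 (h (ρ sE u)) = h (ρ sE u) := fun u hu => by
    rw [← hg0, qE, S.mul, S.inv_apply, S.mul, hu]
  have hs0 : h (ρ sE w) ≠ 0 := fun e => hw0 (S.inj sE (by rw [hinj _ e, map_zero]))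
  have hnop : ∀ u, ρ pE (ρ sE u) = ρ sE u → ρ pE u = u → u = 0 := fun u h1 h2 => S.fix_inter h2 h1
  obtain ⟨i, hi⟩ : ∃ i : Fin 3, h (ρ sE w) = ρ sE w - i.val • w := by
    have hcase : ∀ g, ρ g (h (ρ sE w)) = h (ρ sE w) → g ^ 2 = -1 → False := fun g e e2 => hs0 (by
      refine S.eq_zero_of_neg ?_
      rw [← S.neg, ← e2, pow_two, S.mul, e, e])
    have hcase3 : ∀ g, ρ g (h (ρ sE w)) = h (ρ sE w) → g ^ 3 = -1 → False := fun g e e2 => hs0 (by
      refine S.eq_zero_of_neg ?_
      rw [← S.neg, ← e2, pow_succ, pow_two, S.mul, S.mul, e, e, e])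
    have hpfix : ρ pE (h (ρ sE w)) = h (ρ sE w) → False := fun e => by
      have e' : h (ρ pE (ρ sE w)) = h (ρ sE w) := by rw [hp, e, e]
      have : ρ pE (ρ sE w) - ρ sE w = 0 := hinj _ (by rw [map_sub, e', sub_self])
      exact hw0 (hnop w (sub_eq_zero.1 this) hw)
    have e0 := hfix w hw
    rcases s2_cases g0 with e | e | e | e | e | e | ⟨i, e⟩
    · exfalso
      subst e
      have e1 : ∀ v, ρ qE v = v := fun v => by
        have : h (ρ qE v - v) = 0 := by rw [map_sub, hg0, S.one, sub_self]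
        exact sub_eq_zero.1 (hinj _ this)
      have e2 := e1 w
      have hi' : ρ sE⁻¹ w = -ρ sE w := S.inj sE (by rw [← S.mul, mul_inv_cancel, S.one, map_neg, S.s_sq, neg_neg])
      rw [qE, S.mul, S.mul, hi', map_neg, S.shift hw, map_neg, map_sub, S.s_sq] at e2
      have : ρ sE w = 0 := by
        calc ρ sE w = -(-w - ρ sE w) - w := by abel
          _ = 0 := by rw [e2, sub_self]
      exact hw0 (S.inj sE (by rw [this, map_zero]))
    · exact (hcase _ e0 e).elim
    · exact (hcase3 _ e0 e).elim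
    · exfalso
      subst e
      rw [S.neg] at e0
      exact hs0 (S.eq_zero_of_neg e0.symm)
    · subst e; exact (hpfix e0).elim
    · subst e
      refine (hpfix ?_).elim
      calc ρ pE (h (ρ sE w)) = ρ pE (ρ (pE * pE) (ρ (pE * pE) (h (ρ sE w)))) := by rw [e0, e0]
        _ = h (ρ sE w) := by
          rw [← S.mul, ← S.mul, show pE * (pE * pE) * (pE * pE) = pE * pE by decide +kernel, e0]
    · obtain ⟨c, hc, e'⟩ : ∃ c, (c = qE ∨ c = qE * qE) ∧ g0 = pE ^ i.val * c * (pE ^ i.val)⁻¹ := by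
        rcases e with e | e
        exacts [⟨_, Or.inl rfl, e⟩, ⟨_, Or.inr rfl, e⟩]
      subst e'
      rw [S.mul, S.mul] at e0
      obtain ⟨u, hu, hx⟩ := S.fix_q hc (S.inj (pE ^ i.val) (e0.trans (by rw [← S.mul, mul_inv_cancel, S.one])))
      have hhs : h (ρ sE w) = ρ sE u - i.val • u := by
        calc h (ρ sE w) = ρ (pE ^ i.val) (ρ sE u) := by rw [← hx, ← S.mul, mul_inv_cancel, S.one]
          _ = _ := by
            fin_cases i
            · simp [S.one]
            · simp [S.shift hu]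
            · simp only [pow_two, S.mul, S.shift hu, map_sub, hu, two_nsmul]; abel
      have e1 := hp (ρ sE w)
      rw [S.shift hw, map_sub, hhs] at e1
      simp only [map_sub, map_nsmul, S.shift hu, hu, hhw] at e1
      have hu' : u = w := by
        calc u = (u + u + u) - (u + u) := by abel
          _ = -(u + u) := by rw [S.three, zero_sub]
          _ = (ρ sE u - u - u - i.val • u) - (ρ sE u - i.val • u) := by abel
          _ = w := by rw [← e1]; abel
      exact ⟨i, hu' ▸ hhs⟩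
  obtain ⟨u, hu, huw⟩ := S.exists_partner hw hw0
  have key : B f (ρ sE w) = 0 := by
    have hhf : h f + h (ρ sE g) = f + ρ sE g := by rw [← map_add, ← hyfg]; exact hhy
    have hhg : h (ρ sE g) = ρ sE g - i.val • g := by
      rcases hgw with rfl | rfl
      · exact hi
      · rw [map_neg, map_neg, hi, smul_neg]; abel
    have hhf' : h f = f + i.val • g := by
      rw [hhg] at hhf
      calc h f = h f + (ρ sE g - i.val • g) - (ρ sE g - i.val • g) := by abel
        _ = _ := by rw [hhf]; abel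
    have e := hh f (ρ sE w)
    rw [hhf', hi] at e
    have hgs : B g (ρ sE w) = 0 := by rcases hgw with rfl | rfl <;> simp [hBw]
    have hgwB : B g w = 0 := S.iso_fix hg hw
    simp only [map_add, map_sub, map_nsmul, AddMonoidHom.add_apply, AddMonoidHom.nsmul_apply, hgs,
      hgwB, S.iso_fix hf hw, smul_zero, add_zero, sub_zero] at e
    revert e
    generalize B f (ρ sE w) = c
    revert c
    decide
  obtain ⟨a, b, hab⟩ := S.span hw hu hBw huw hf
  have hb : b = 0 := by
    have e := congrArg (fun v => B v (ρ sE w)) hab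
    simp only [map_add, map_nsmul, AddMonoidHom.add_apply, AddMonoidHom.nsmul_apply, hBw, key, smul_zero,
      zero_add, nsmul_eq_mul] at e
    have k : ∀ (b : Fin 3) (c : ZMod 3), c ≠ 0 → 0 = (b.val : ZMod 3) * c → b = 0 := by decide
    exact k b _ huw e
  subst hb
  rw [Fin.val_zero, zero_nsmul, add_zero] at hab
  rcases hgw with rfl | rfl
  · exact ⟨a, 1, by decide, by rw [hyfg, hab, Fin.val_one, one_nsmul]⟩
  · refine ⟨a, 2, by decide, ?_⟩
    rw [hyfg, hab, map_neg, show ((2 : Fin 3).val) = 2 from rfl, two_nsmul]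
    congr 1
    calc -ρ sE w = ρ sE w + ρ sE w - (ρ sE w + ρ sE w + ρ sE w) := by abel
      _ = _ := by rw [S.three, sub_zero]

/-- A second isotropic plane stable under the element of order three. -/
theorem second {w : V} (hw : ρ pE w = w) (hw0 : w ≠ 0) (hBw : B w (ρ sE w) = 0) :
    ∃ a, ρ pE a = a ∧ B a (ρ sE a) = 0 ∧ ρ pE (ρ sE a) = ρ sE a - a ∧ B a (ρ sE w) ≠ 0 := by
  obtain ⟨u, hu, huw⟩ := S.exists_partner hw hw0
  obtain ⟨m, hm⟩ : ∃ m : Fin 3, B u (ρ sE u) + ((m.val : ZMod 3) + m.val) * B u (ρ sE w) = 0 := by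
    have k : ∀ a b : ZMod 3, b ≠ 0 → ∃ m : Fin 3, a + ((m.val : ZMod 3) + m.val) * b = 0 := by decide
    exact k _ _ huw
  refine ⟨u + m.val • w, by rw [map_add, map_nsmul, hu, hw], ?_, S.shift (by rw [map_add, map_nsmul, hu, hw]), ?_⟩
  · simp only [map_add, map_nsmul, AddMonoidHom.add_apply, AddMonoidHom.nsmul_apply, hBw, smul_zero,
      add_zero, S.pair_symm w u, nsmul_eq_mul]
    rw [← hm]; ring
  · simp only [map_add, map_nsmul, AddMonoidHom.add_apply, AddMonoidHom.nsmul_apply, hBw, smul_zero,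
      add_zero]
    exact huw

end Symp

end CfsgLib.LFourThree
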